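import Cfsg.Agent.Solvable.CoprimeAbelian
import Cfsg.Agent.Solvable.Basics
import Cfsg.Agent.QuadFix.Stable

/-!
The meet of the invariant Sylow subgroups of a group with coprime operators.
-/

set_option autoImplicit false
set_option linter.unusedSectionVars false
set_option linter.deprecated false
set_option linter.style.haveILetI false
set_option linter.unusedSimpArgs false

namespace CfsgLib.QuadEqui

open Subgroup CfsgLib.SZ
open scoped Pointwise

universe u

variable {X : Type u} [Group X]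

/-- The meet of the `R`-invariant Sylow `p`-subgroups of `G`. -/
def meetSylow (p : ℕ) (G R : Subgroup X) : Subgroup X :=
  ⨅ S : {S : Sylow p ↥G // R ≤ normalizer (((S : Subgroup G).map G.subtype : Subgroup X) : Set X)},
    ((S : Sylow p ↥G) : Subgroup G).map G.subtype

theorem mem_meetSylow {p : ℕ} {G R : Subgroup X} {x : X} : x ∈ meetSylow p G R ↔
    ∀ S : Sylow p ↥G, R ≤ normalizer (((S : Subgroup G).map G.subtype : Subgroup X) : Set X) →
      x ∈ (S : Subgroup G).map G.subtype := by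
  rw [meetSylow, mem_iInf]
  exact ⟨fun h S hS => h ⟨S, hS⟩, fun h S => h S.1 S.2⟩

theorem mem_conj_smul' {A : Subgroup X} {g x : X} : x ∈ MulAut.conj g • A ↔ g⁻¹ * x * g ∈ A := by
  rw [mem_pointwise_smul_iff_inv_smul_mem, MulAut.smul_def, MulAut.conj_inv_apply]

variable [Finite X] {p : ℕ} [Fact p.Prime] {G R : Subgroup X}

/-- An element of a `p`-group killed by a number prime to `p` is trivial. -/
theorem eq_one_of_pow {T : Subgroup X} (hT : IsPGroup p T) {v : X} (hv : v ∈ T) {n : ℕ} (hn : n.Coprime p)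
    (h : v ^ n = 1) : v = 1 := by
  obtain ⟨k, hk⟩ := hT ⟨v, hv⟩
  replace hk : v ^ p ^ k = 1 := congrArg Subtype.val hk
  have := pow_gcd_eq_one.2 ⟨h, hk⟩
  rwa [(hn.pow_right k).gcd_eq_one, pow_one] at this

/-- An element of order prime to `p` stabilising a two-step series of a `p`-group centralises it. -/
theorem centralizes_of_stab {T T0 : Subgroup X} (hT : IsPGroup p T) (h0 : T0 ≤ T) {x : X}
    (hco : (orderOf x).Coprime p) (hx : x ∈ centralizer (T0 : Set X))
    (h : ∀ u ∈ T, x * u * x⁻¹ * u⁻¹ ∈ T0) : x ∈ centralizer (T : Set X) := by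
  refine mem_centralizer_iff.2 fun u hu => ?_
  obtain ⟨v, hv⟩ : ∃ v, v = x * u * x⁻¹ * u⁻¹ := ⟨_, rfl⟩
  have hv0 : v ∈ T0 := hv ▸ h u hu
  have hc : v * x = x * v := mem_centralizer_iff.1 hx v hv0
  have key : ∀ n : ℕ, x ^ n * u * (x ^ n)⁻¹ = v ^ n * u := by
    intro n
    induction n with
    | zero => simp
    | succ n ih =>
      have hcn : x ^ n * v = v * x ^ n := (Commute.pow_left (hc.symm : Commute x v) n).eq
      calc x ^ (n + 1) * u * (x ^ (n + 1))⁻¹ = x ^ n * (x * u * x⁻¹ * u⁻¹) * u * (x ^ n)⁻¹ := by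
            rw [pow_succ]; group
        _ = x ^ n * v * u * (x ^ n)⁻¹ := by rw [hv]
        _ = v * (x ^ n * u * (x ^ n)⁻¹) := by rw [hcn]; group
        _ = v ^ (n + 1) * u := by rw [ih, pow_succ', mul_assoc]
  have h1 := key (orderOf x)
  rw [pow_orderOf_eq_one, one_mul, inv_one, mul_one] at h1
  have hv1 := eq_one_of_pow hT (h0 hv0) hco (mul_eq_right.1 h1.symm)
  rw [hv1] at hv
  calc u * x = x * u * x⁻¹ * u⁻¹ * u * x := by rw [← hv, one_mul]
    _ = x * u := by group

/-- An element of order prime to `p` centralising a self-centralising subgroup of a `p`-group centralises it. -/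
theorem centralizes_of_self_centralizing {T C : Subgroup X} (hT : IsPGroup p T) (hCT : C ≤ T)
    (hn : T ≤ normalizer (C : Set X)) (hs : T ⊓ centralizer (C : Set X) ≤ C) {x : X}
    (hxT : x ∈ normalizer (T : Set X)) (hco : (orderOf x).Coprime p) (hx : x ∈ centralizer (C : Set X)) :
    x ∈ centralizer (T : Set X) := by
  refine centralizes_of_stab hT hCT hco hx fun u hu => hs ⟨mul_mem ((mem_normalizer_iff.1 hxT u).1 hu)
    (T.inv_mem hu), mem_centralizer_iff.2 fun c hc => ?_⟩
  have h1 : u⁻¹ * c * u ∈ C := by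
    simpa using (mem_normalizer_iff.1 ((normalizer (C : Set X)).inv_mem (hn hu)) c).1 hc
  have h2 := mem_centralizer_iff.1 hx _ hc
  have h3 := mem_centralizer_iff.1 hx _ h1
  have h4 : x⁻¹ * c = c * x⁻¹ := by
    calc x⁻¹ * c = x⁻¹ * (c * x) * x⁻¹ := by group
      _ = c * x⁻¹ := by rw [h2]; group
  calc c * (x * u * x⁻¹ * u⁻¹) = (c * x) * u * x⁻¹ * u⁻¹ := by group
    _ = x * u * ((u⁻¹ * c * u) * x⁻¹) * u⁻¹ := by rw [h2]; group
    _ = x * u * (x⁻¹ * (u⁻¹ * c * u)) * u⁻¹ := by
        rw [show x⁻¹ * (u⁻¹ * c * u) = (u⁻¹ * c * u) * x⁻¹ by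
          calc x⁻¹ * (u⁻¹ * c * u) = x⁻¹ * ((u⁻¹ * c * u) * x) * x⁻¹ := by group
            _ = (u⁻¹ * c * u) * x⁻¹ := by rw [h3]; group]
    _ = x * u * x⁻¹ * u⁻¹ * c := by group

theorem meetSylow_nonempty (hRG : R ≤ normalizer (G : Set X)) (hcop : (Nat.card R).Coprime (Nat.card G)) :
    ∃ S : Sylow p ↥G, R ≤ normalizer (((S : Subgroup G).map G.subtype : Subgroup X) : Set X) :=
  CfsgLib.CoprimeAct.exists_invariant_sylow hRG hcop (CfsgLib.QuadFix.solvable_or_of_coprime hcop) p

theorem meetSylow_le (hRG : R ≤ normalizer (G : Set X)) (hcop : (Nat.card R).Coprime (Nat.card G)) :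
    meetSylow p G R ≤ G := fun x hx => by
  obtain ⟨S, hS⟩ := meetSylow_nonempty (p := p) hRG hcop
  exact map_subtype_le _ (mem_meetSylow.1 hx S hS)

theorem isPGroup_meetSylow (hRG : R ≤ normalizer (G : Set X)) (hcop : (Nat.card R).Coprime (Nat.card G)) :
    IsPGroup p (meetSylow p G R) := by
  obtain ⟨S, hS⟩ := meetSylow_nonempty (p := p) hRG hcop
  exact (S.2.map G.subtype).to_le fun x hx => mem_meetSylow.1 hx S hS

theorem le_normalizer_of_conj_mem {Z V : Subgroup X} (h : ∀ g ∈ Z, ∀ y ∈ V, g * y * g⁻¹ ∈ V) :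
    Z ≤ normalizer (V : Set X) := by
  intro g hg
  rw [mem_normalizer_iff]
  refine fun y => ⟨h g hg y, fun hy => ?_⟩
  have := h _ (inv_mem hg) _ hy
  simpa [mul_assoc] using this

theorem le_normalizer_meetSylow : R ≤ normalizer (meetSylow p G R : Set X) :=
  le_normalizer_of_conj_mem fun a ha y hy => mem_meetSylow.2 fun S hS =>
    (mem_normalizer_iff.1 (hS ha) y).1 (mem_meetSylow.1 hy S hS)

/-- A group permuting the invariant Sylow subgroups normalises their meet. -/
theorem le_normalizer_meetSylow_of_perm {Z : Subgroup X} (hZ : Z ≤ normalizer (G : Set X))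
    (h : ∀ g ∈ Z, ∀ S S' : Sylow p ↥G, R ≤ normalizer (((S : Subgroup G).map G.subtype : Subgroup X) : Set X) →
      (S' : Subgroup G).map G.subtype = MulAut.conj g • (S : Subgroup G).map G.subtype →
      R ≤ normalizer (((S' : Subgroup G).map G.subtype : Subgroup X) : Set X)) :
    Z ≤ normalizer (meetSylow p G R : Set X) :=
  le_normalizer_of_conj_mem fun g hg y hy => mem_meetSylow.2 fun S hS => by
    obtain ⟨S', hS'⟩ := CfsgLib.CoprimeAct.conj_smul_sylow_map (inv_mem (hZ hg)) S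
    have := mem_meetSylow.1 hy S' (h _ (inv_mem hg) S S' hS hS')
    rw [hS', mem_conj_smul', inv_inv] at this
    exact this

theorem le_normalizer_conj_smul {V : Subgroup X} (hV : R ≤ normalizer (V : Set X)) {k : X}
    (hk : k ∈ centralizer (R : Set X)) : R ≤ normalizer ((MulAut.conj k • V : Subgroup X) : Set X) := by
  intro a ha
  have hc : a * k = k * a := mem_centralizer_iff.1 hk a ha
  rw [mem_normalizer_iff]
  intro y
  rw [mem_conj_smul', mem_conj_smul', mem_normalizer_iff.1 (hV ha) (k⁻¹ * y * k)]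
  have hc' : k⁻¹ * a = a * k⁻¹ := by
    calc k⁻¹ * a = k⁻¹ * (a * k) * k⁻¹ := by group
      _ = a * k⁻¹ := by rw [hc]; group
  have e : a * (k⁻¹ * y * k) * a⁻¹ = k⁻¹ * (a * y * a⁻¹) * k := by
    calc a * (k⁻¹ * y * k) * a⁻¹ = (a * k⁻¹) * y * (a * k⁻¹)⁻¹ := by group
      _ = k⁻¹ * (a * y * a⁻¹) * k := by rw [← hc']; group
  rw [e]

theorem fixed_le_normalizer_meetSylow {Z : Subgroup X} (hZ : Z ≤ normalizer (G : Set X))
    (hZR : Z ≤ centralizer (R : Set X)) : Z ≤ normalizer (meetSylow p G R : Set X) :=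
  le_normalizer_meetSylow_of_perm hZ fun g hg S S' hS h => by
    rw [h]; exact le_normalizer_conj_smul hS (hZR hg)

/-- A `p`-subgroup normalised by the operators and their fixed points lies in the meet. -/
theorem le_meetSylow (hRG : R ≤ normalizer (G : Set X)) (hcop : (Nat.card R).Coprime (Nat.card G))
    {Q : Subgroup X} (hQG : Q ≤ G) (hQ : IsPGroup p Q) (hRQ : R ≤ normalizer (Q : Set X))
    (hCQ : G ⊓ centralizer (R : Set X) ≤ normalizer (Q : Set X)) : Q ≤ meetSylow p G R := by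
  have hsolv := CfsgLib.QuadFix.solvable_or_of_coprime hcop
  obtain ⟨S₀, hQS, hS₀⟩ := CfsgLib.CoprimeAct.exists_invariant_sylow_ge hRG hcop hsolv p hQG hQ hRQ
  intro x hx
  refine mem_meetSylow.2 fun S hS => ?_
  obtain ⟨c, hc, he⟩ := CfsgLib.CoprimeAct.invariant_sylow_conj hRG hcop hsolv p S₀ S hS₀ hS
  have h1 : (c : X)⁻¹ * x * c ∈ Q := by
    simpa using (mem_normalizer_iff.1 (inv_mem (hCQ ⟨c.2, hc⟩)) x).1 hx
  obtain ⟨z, hz, hzx⟩ := hQS h1
  refine ⟨c * z * c⁻¹, ?_, ?_⟩
  · rw [← he]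
    exact ⟨z, hz, by simp [MulAut.conj_apply]⟩
  · replace hzx : (z : X) = (c : X)⁻¹ * x * c := hzx
    simp [hzx, mul_assoc]

/-- The meet for an invariant subgroup normalised by the fixed points. -/
theorem meetSylow_eq_inf (hRG : R ≤ normalizer (G : Set X)) (hcop : (Nat.card R).Coprime (Nat.card G))
    {N : Subgroup X} (hNG : N ≤ G) (hRN : R ≤ normalizer (N : Set X))
    (hCN : G ⊓ centralizer (R : Set X) ≤ normalizer (N : Set X)) :
    meetSylow p N R = meetSylow p G R ⊓ N := by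
  have hcopN := hcop.coprime_dvd_right (card_dvd_of_le hNG)
  refine le_antisymm (le_inf ?_ (meetSylow_le hRN hcopN)) fun x hx => mem_meetSylow.2 fun S hS => ?_
  · exact le_meetSylow hRG hcop ((meetSylow_le hRN hcopN).trans hNG) (isPGroup_meetSylow hRN hcopN)
      le_normalizer_meetSylow (fixed_le_normalizer_meetSylow hCN inf_le_right)
  · obtain ⟨S', hle, hS'⟩ := CfsgLib.CoprimeAct.exists_invariant_sylow_ge hRG hcop
      (CfsgLib.QuadFix.solvable_or_of_coprime hcop) p ((map_subtype_le _).trans hNG) (S.2.map N.subtype) hS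
    have h1 : ((S' : Subgroup G).map G.subtype).subgroupOf N = (S : Subgroup N) := by
      refine S.3 ((S'.2.map G.subtype).comap_subtype) ?_
      intro y hy
      exact hle ⟨y, hy, rfl⟩
    exact ⟨⟨x, hx.2⟩, h1.le (show (⟨x, hx.2⟩ : N) ∈ _ from mem_meetSylow.1 hx.1 S' hS'), rfl⟩

theorem pow_mem_closure_coprime {B : Type*} [Group B] [Finite B] (x : B) :
    ∃ k, x ^ p ^ k ∈ closure {y : B | (orderOf y).Coprime p} := by
  obtain ⟨k, m, hm, hkm⟩ := Nat.exists_eq_pow_mul_and_not_dvd (orderOf_pos x).ne' p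
    (Fact.out : p.Prime).ne_one
  refine ⟨k, subset_closure ?_⟩
  show (orderOf (x ^ p ^ k)).Coprime p
  rw [orderOf_pow' x (pow_ne_zero k (Fact.out : p.Prime).ne_zero), hkm, Nat.gcd_mul_right_left,
    Nat.mul_div_cancel_left _ (pow_pos (Fact.out : p.Prime).pos k)]
  exact ((Fact.out : p.Prime).coprime_iff_not_dvd.2 hm).symm

theorem normal_closure_coprime {B : Type*} [Group B] [Finite B] :
    (closure {y : B | (orderOf y).Coprime p}).Normal := by
  refine ⟨fun n hn g => ?_⟩
  induction hn using closure_induction with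
  | mem x hx => exact subset_closure (show (orderOf (g * x * g⁻¹)).Coprime p by
      rw [show g * x * g⁻¹ = (MulAut.conj g).toMonoidHom x from rfl, orderOf_injective (MulAut.conj g).toMonoidHom
        (MulAut.conj g).injective]; exact hx)
  | one => simp [one_mem]
  | mul x y _ _ hx hy => rw [show g * (x * y) * g⁻¹ = g * x * g⁻¹ * (g * y * g⁻¹) by group]; exact mul_mem hx hy
  | inv x _ hx => rw [show g * x⁻¹ * g⁻¹ = (g * x * g⁻¹)⁻¹ by group]; exact inv_mem hx

/-- The fixed points of `a` in an invariant normal subgroup permute the invariant Sylow subgroups when their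
`p'`-elements centralise the operators. -/
theorem fixed_le_normalizer_meetSylow_normal (hRG : R ≤ normalizer (G : Set X))
    (hcop : (Nat.card R).Coprime (Nat.card G)) {a : X} (ha : a ∈ R) {N : Subgroup X} (hNG : N ≤ G)
    (hRN : R ≤ normalizer (N : Set X)) (hHN : G ⊓ centralizer {a} ≤ normalizer (N : Set X))
    (hN : ∀ x ∈ N, x ∈ centralizer {a} → (orderOf x).Coprime p → x ∈ centralizer (R : Set X)) :
    G ⊓ centralizer {a} ≤ normalizer (meetSylow p N R : Set X) := by
  refine le_normalizer_meetSylow_of_perm hHN fun g hg S S' hS hS' => ?_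
  have hA : zpowers a ≤ normalizer (N : Set X) := (zpowers_le.2 ha).trans hRN
  have hcopA : (Nat.card (zpowers a)).Coprime (Nat.card N) :=
    (hcop.coprime_dvd_left (card_dvd_of_le (zpowers_le.2 ha))).coprime_dvd_right (card_dvd_of_le hNG)
  have hsolA := CfsgLib.QuadFix.solvable_or_of_coprime hcopA
  have hSa : zpowers a ≤ normalizer (((S : Subgroup N).map N.subtype : Subgroup X) : Set X) :=
    (zpowers_le.2 ha).trans hS
  have hga : g ∈ centralizer (zpowers a : Set X) := by
    refine mem_centralizer_iff.2 ?_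
    rintro _ ⟨n, rfl⟩
    exact (Commute.zpow_left (mem_centralizer_iff.1 hg.2 a rfl : Commute a g) n).eq
  have hS'a : zpowers a ≤ normalizer (((S' : Subgroup N).map N.subtype : Subgroup X) : Set X) := by
    rw [hS']; exact le_normalizer_conj_smul hSa hga
  obtain ⟨c, hc, hce⟩ := CfsgLib.CoprimeAct.invariant_sylow_conj hA hcopA hsolA p S S' hSa hS'a
  -- split `c`
  obtain ⟨B, hB⟩ : ∃ B, B = N ⊓ centralizer {a} := ⟨_, rfl⟩
  obtain ⟨O, hO⟩ : ∃ O, O = closure {y : B | (orderOf y).Coprime p} := ⟨_, rfl⟩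
  obtain ⟨W₀, hW₀⟩ : ∃ W₀, W₀ = ((S : Subgroup N).map N.subtype).subgroupOf B := ⟨_, rfl⟩
  haveI hOn : O.Normal := hO ▸ normal_closure_coprime
  have hW₀p : IsPGroup p W₀ := hW₀ ▸ (S.2.map N.subtype).comap_subtype
  obtain ⟨W, hW⟩ := hW₀p.exists_le_sylow
  have hBa : ∀ y ∈ B, y ∈ centralizer (zpowers a : Set X) := fun y hy => mem_centralizer_iff.2 (by
    rintro _ ⟨n, rfl⟩
    exact (Commute.zpow_left (mem_centralizer_iff.1 (hB ▸ hy : y ∈ N ⊓ centralizer {a}).2 a rfl : Commute a y) n).eq)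
  have hWN : (W : Subgroup B).map B.subtype ≤ N := (map_subtype_le _).trans (hB ▸ inf_le_left)
  have hWA : zpowers a ≤ normalizer (((W : Subgroup B).map B.subtype : Subgroup X) : Set X) :=
    le_normalizer_of_conj_mem fun b hb y hy => by
      rw [mem_centralizer_iff.1 (hBa y (map_subtype_le _ hy)) b hb, mul_inv_cancel_right]; exact hy
  obtain ⟨S₁, hWS₁, hS₁⟩ := CfsgLib.CoprimeAct.exists_invariant_sylow_ge hA hcopA hsolA p hWN
    (W.2.map B.subtype) hWA
  obtain ⟨d, hd, hde⟩ := CfsgLib.CoprimeAct.invariant_sylow_conj hA hcopA hsolA p S S₁ hSa hS₁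
  have hdB : (d : X) ∈ B := hB ▸ ⟨d.2, mem_centralizer_singleton_iff.2
    (mem_centralizer_iff.1 hd a (mem_zpowers a)).symm⟩
  have hWcard : Nat.card (W : Subgroup B) ≤ Nat.card W₀ := by
    have hle : (W : Subgroup B) ≤ MulAut.conj (⟨d, hdB⟩ : B) • W₀ := by
      intro y hy
      rw [mem_conj_smul', hW₀, mem_subgroupOf]
      obtain ⟨z, hz, hzy⟩ := hWS₁ ⟨y, hy, rfl⟩
      rw [← hde, SetLike.mem_coe, mem_conj_smul'] at hz
      refine ⟨_, hz, ?_⟩
      replace hzy : (z : X) = (y : X) := hzy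
      simp [hzy]
    exact (Subgroup.card_le_of_le hle).trans (card_conj_smul _ _).le
  have hWeq : W₀ = W := eq_of_le_of_card_ge hW hWcard
  have htop : O ⊔ W₀ = ⊤ := by
    rw [← index_eq_one]
    refine Nat.eq_one_of_dvd_coprimes ?_ (index_dvd_of_le le_sup_left) (index_dvd_of_le le_sup_right)
    have hq : IsPGroup p (B ⧸ O) := by
      intro y
      obtain ⟨x, rfl⟩ := QuotientGroup.mk'_surjective O y
      obtain ⟨k, hk⟩ := pow_mem_closure_coprime (p := p) x
      refine ⟨k, ?_⟩
      rw [← map_pow]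
      exact (QuotientGroup.eq_one_iff _).2 (hO ▸ hk)
    obtain ⟨k, hk⟩ := IsPGroup.iff_card.1 hq
    rw [Subgroup.index_eq_card, hk, hWeq]
    exact ((Fact.out : p.Prime).coprime_iff_not_dvd.2 W.not_dvd_index).pow_left k
  have hcB : (c : X) ∈ B := hB ▸ ⟨c.2, mem_centralizer_singleton_iff.2
    (mem_centralizer_iff.1 hc a (mem_zpowers a)).symm⟩
  have hcT : (⟨c, hcB⟩ : B) ∈ O ⊔ W₀ := htop ▸ mem_top _
  rw [mem_sup_of_normal_left] at hcT
  obtain ⟨k, hk, w, hw, hkw⟩ := hcT
  have hkR : (k : X) ∈ centralizer (R : Set X) := by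
    have : O ≤ (centralizer (R : Set X)).comap B.subtype := by
      rw [hO, closure_le]
      intro y hy
      have hy' : (y : X) ∈ N ⊓ centralizer {a} := hB ▸ y.2
      exact hN y hy'.1 hy'.2 (by rwa [orderOf_coe])
    exact this hk
  have he : (c : X) = (k : X) * w := (congrArg Subtype.val hkw).symm
  have hmap : (S' : Subgroup N).map N.subtype = MulAut.conj (k : X) • (S : Subgroup N).map N.subtype := by
    rw [← hce, conj_smul_map N.subtype c (S : Subgroup N), show N.subtype c = (c : X) from rfl, he, map_mul,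
      mul_smul, conj_smul_self_of_mem (show (w : X) ∈ (S : Subgroup N).map N.subtype from mem_subgroupOf.1 (hW₀ ▸ hw))]
  rw [hmap]
  exact le_normalizer_conj_smul hS hkR

end CfsgLib.QuadEqui
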