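import Cfsg.Agent.QuadEqui.CharP
import Cfsg.Agent.QuadEqui.Meet
import Cfsg.Agent.Transfer.Alperin

/-!
When the `p'`-elements centralising `O_p` of a fixed-point subgroup centralise the operators, that subgroup
normalises a characteristic subgroup of the meet of the invariant Sylow `p`-subgroups, for `p ≥ 5`.
-/

set_option autoImplicit false
set_option linter.unusedSectionVars false
set_option linter.deprecated false
set_option linter.style.haveILetI false
set_option linter.unusedSimpArgs false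

namespace CfsgLib.QuadEqui

open Subgroup CfsgLib.SZ
open scoped Pointwise

universe u

variable {X : Type u} [Group X] [Finite X] {p : ℕ} [Fact p.Prime] {G R : Subgroup X}

/-- Elements of order prime to `p` centralising `O_p(Y)` centralise `R`. -/
def Fixes (p : ℕ) (R Y : Subgroup X) : Prop :=
  ∀ x ∈ Y, (orderOf x).Coprime p → x ∈ centralizer (Cfsg.pCoreOf p Y : Set X) → x ∈ centralizer (R : Set X)

theorem pCoreOf_le (H : Subgroup X) : Cfsg.pCoreOf p H ≤ H := map_subtype_le _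

theorem isPGroup_pCoreOf (H : Subgroup X) : IsPGroup p (Cfsg.pCoreOf p H) :=
  (Solvable.isPGroup_pCore p).map _

theorem le_normalizer_pCoreOf_self (H : Subgroup X) : H ≤ normalizer (Cfsg.pCoreOf p H : Set X) :=
  CfsgLib.Functor.le_normalizer_map_of_normal _

theorem le_pCoreOf {H V : Subgroup X} (hVH : V ≤ H) (hV : IsPGroup p V) (hn : H ≤ normalizer (V : Set X)) :
    V ≤ Cfsg.pCoreOf p H := fun v hv =>
  ⟨⟨v, hVH hv⟩, Solvable.le_pCore p ((normal_subgroupOf_iff_le_normalizer hVH).2 hn) hV.comap_subtype hv, rfl⟩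

theorem le_normalizer_pCoreOf {H Z : Subgroup X} (hZ : Z ≤ normalizer (H : Set X)) :
    Z ≤ normalizer (Cfsg.pCoreOf p H : Set X) := by
  refine le_normalizer_of_conj_mem fun g hg y hy => ?_
  have hle : MulAut.conj g • Cfsg.pCoreOf p H ≤ Cfsg.pCoreOf p H := by
    refine le_pCoreOf ((pointwise_smul_le_pointwise_smul_iff.2 (pCoreOf_le H)).trans
      (conj_smul_eq_iff_mem_normalizer.2 (hZ hg)).le) ((isPGroup_pCoreOf H).map _) fun h hh => ?_
    rw [mem_normalizer_iff]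
    intro z
    have hh' : g⁻¹ * h * g ∈ H := by simpa using (mem_normalizer_iff.1 (inv_mem (hZ hg)) h).1 hh
    have e : g⁻¹ * (h * z * h⁻¹) * g = (g⁻¹ * h * g) * (g⁻¹ * z * g) * (g⁻¹ * h * g)⁻¹ := by group
    rw [mem_conj_smul', mem_conj_smul', e]
    exact mem_normalizer_iff.1 (le_normalizer_pCoreOf_self H hh') _
  exact hle (mem_conj_smul'.2 (by simpa [mul_assoc] using hy))

theorem le_normalizer_sup {A B Z : Subgroup X} (hA : Z ≤ normalizer (A : Set X))
    (hB : Z ≤ normalizer (B : Set X)) : Z ≤ normalizer ((A ⊔ B : Subgroup X) : Set X) := fun g hg => by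
  rw [← conj_smul_eq_iff_mem_normalizer, smul_sup, conj_smul_eq_iff_mem_normalizer.2 (hA hg),
    conj_smul_eq_iff_mem_normalizer.2 (hB hg)]

theorem le_normalizer_inf' {A B Z : Subgroup X} (hA : Z ≤ normalizer (A : Set X))
    (hB : Z ≤ normalizer (B : Set X)) : Z ≤ normalizer ((A ⊓ B : Subgroup X) : Set X) := fun g hg => by
  rw [mem_normalizer_iff]
  exact fun y => and_congr (mem_normalizer_iff.1 (hA hg) y) (mem_normalizer_iff.1 (hB hg) y)

theorem le_normalizer_centralizer {A Z : Subgroup X} (hA : Z ≤ normalizer (A : Set X)) :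
    Z ≤ normalizer ((centralizer (A : Set X) : Subgroup X) : Set X) :=
  le_normalizer_of_conj_mem fun g hg y hy => mem_centralizer_iff.2 fun v hv => by
    have hv' : g⁻¹ * v * g ∈ A := by simpa using (mem_normalizer_iff.1 (inv_mem (hA hg)) v).1 hv
    have h := mem_centralizer_iff.1 hy _ hv'
    calc v * (g * y * g⁻¹) = g * ((g⁻¹ * v * g) * y) * g⁻¹ := by group
      _ = g * (y * (g⁻¹ * v * g)) * g⁻¹ := by rw [h]
      _ = g * y * g⁻¹ * v := by group

theorem le_normalizer_fixed (hab : IsMulCommutative R) {a : X} (ha : a ∈ R)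
    (hRG : R ≤ normalizer (G : Set X)) : R ≤ normalizer ((G ⊓ centralizer {a} : Subgroup X) : Set X) := by
  refine le_normalizer_inf' hRG (le_normalizer_of_conj_mem fun b hb y hy => ?_)
  rw [mem_centralizer_singleton_iff] at hy ⊢
  haveI := hab
  have hba : a * b = b * a := congrArg Subtype.val (mul_comm' (⟨a, ha⟩ : R) ⟨b, hb⟩)
  calc b * y * b⁻¹ * a = b * y * (b⁻¹ * (a * b)) * b⁻¹ := by group
    _ = b * (y * a) * b⁻¹ := by rw [hba]; group
    _ = b * (a * y) * b⁻¹ := by rw [hy]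
    _ = b * a * y * b⁻¹ := by group
    _ = a * (b * y * b⁻¹) := by rw [← hba]; group

theorem fixed_le_fixed {a : X} (ha : a ∈ R) :
    G ⊓ centralizer (R : Set X) ≤ G ⊓ centralizer ({a} : Set X) :=
  inf_le_inf_left _ (centralizer_le (Set.singleton_subset_iff.2 ha))

/-- The `p`-core of a product with coprime operators lies in the group. -/
theorem pCoreOf_sup_le {L : Subgroup X} (hRL : R ≤ normalizer (L : Set X))
    (hR : (Nat.card R).Coprime p) : Cfsg.pCoreOf p (L ⊔ R) ≤ L := by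
  rintro _ ⟨x, hx, rfl⟩
  obtain ⟨k, hk⟩ := Solvable.isPGroup_pCore (G := ↥(L ⊔ R)) p ⟨x, hx⟩
  replace hk : x ^ p ^ k = 1 := congrArg Subtype.val hk
  haveI : (L.subgroupOf (L ⊔ R)).Normal :=
    (normal_subgroupOf_iff_le_normalizer le_sup_left).2 (sup_le le_normalizer hRL)
  have hx' : x ∈ L.subgroupOf (L ⊔ R) ⊔ R.subgroupOf (L ⊔ R) := by
    rw [← subgroupOf_sup le_sup_left le_sup_right, subgroupOf_self]; exact mem_top x
  rw [mem_sup_of_normal_left] at hx'
  obtain ⟨g, hg, s, hs, rfl⟩ := hx'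
  have hl : s ^ Nat.card R = 1 := by
    have h := congrArg Subtype.val (pow_card_eq_one' (x := (⟨(s : X), mem_subgroupOf.1 hs⟩ : R)))
    rw [Subgroup.coe_pow, Subgroup.coe_one] at h
    apply Subtype.ext
    rw [Subgroup.coe_pow, Subgroup.coe_one]
    exact h
  obtain ⟨π, hπ⟩ : ∃ π, π = QuotientGroup.mk' (L.subgroupOf (L ⊔ R)) := ⟨_, rfl⟩
  have hg1 : π g = 1 := hπ ▸ (QuotientGroup.eq_one_iff g).2 hg
  have h1 : π s ^ p ^ k = 1 := by
    have := congrArg π hk
    rwa [map_pow, map_mul, hg1, one_mul, map_one] at this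
  have h2 : π s ^ Nat.card R = 1 := by rw [← map_pow, hl, map_one]
  have h3 := pow_gcd_eq_one.2 ⟨h1, h2⟩
  rw [(hR.symm.pow_left k).gcd_eq_one, pow_one] at h3
  have h4 : π (g * s) = 1 := by rw [map_mul, hg1, h3, one_mul]
  rw [hπ] at h4
  show g * s ∈ L.subgroupOf (L ⊔ R)
  exact (QuotientGroup.eq_one_iff _).1 h4

/-- The main step. -/
theorem fixed_le_normalizer_kInf (hp : 5 ≤ p) (hRG : R ≤ normalizer (G : Set X))
    (hcop : (Nat.card R).Coprime (Nat.card G)) (hab : IsMulCommutative R) {a : X} (ha : a ∈ R)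
    (hH : Fixes p R (G ⊓ centralizer {a})) :
    G ⊓ centralizer {a} ≤
      normalizer ((Cfsg.inducedFunctor Cfsg.kInfLower (meetSylow p G R) : Subgroup X) : Set X) := by
  classical
  obtain ⟨P, hP⟩ : ∃ P, P = meetSylow p G R := ⟨_, rfl⟩
  obtain ⟨H, hHdef⟩ : ∃ H, H = G ⊓ centralizer {a} := ⟨_, rfl⟩
  rw [← hHdef] at hH
  rw [← hP, ← hHdef]
  have hPG : P ≤ G := hP ▸ meetSylow_le hRG hcop
  have hPp : IsPGroup p P := hP ▸ isPGroup_meetSylow hRG hcop
  have hW := (CfsgLib.Kinf.isCharPFunctor_kInf.{u} p).1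
  have hWc := CfsgLib.Functor.isConjugacyFunctor_induced (G := X) hW
  rcases eq_or_ne P ⊥ with hP1 | hP1
  · have h0 := le_bot_iff.1 ((CfsgLib.Functor.functor_le hWc hPp).trans hP1.le)
    rw [h0, normalizer_eq_top (H := (⊥ : Subgroup X))]
    exact le_top
  have hRp : (Nat.card R).Coprime p := by
    have hd : p ∣ Nat.card G :=
      (hPp.card_eq_or_dvd.resolve_left fun h => hP1 (eq_bot_of_card_eq _ h)).trans (card_dvd_of_le hPG)
    exact hcop.coprime_dvd_right hd
  have hHG : H ≤ G := hHdef ▸ inf_le_left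
  have hRH : R ≤ normalizer (H : Set X) := hHdef ▸ le_normalizer_fixed hab ha hRG
  have hCH : G ⊓ centralizer (R : Set X) ≤ H := hHdef ▸ fixed_le_fixed ha
  have hleP : ∀ V : Subgroup X, V ≤ G → IsPGroup p V → R ≤ normalizer (V : Set X) →
      H ≤ normalizer (V : Set X) → V ≤ P :=
    fun V hV hVp hRV hHV => hP ▸ le_meetSylow hRG hcop hV hVp hRV (hCH.trans hHV)
  have hodd : Odd (Nat.card R) ∨ Odd (Nat.card G) := by
    rcases Nat.even_or_odd (Nat.card R) with h | h
    · exact Or.inr (Nat.Coprime.odd_of_left (hcop.coprime_dvd_left h.two_dvd))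
    · exact Or.inl h
  -- a maximal member
  obtain ⟨good, hgood⟩ : ∃ good : Subgroup X → Prop, ∀ Q, good Q ↔ (Q ≤ P ∧ R ≤ normalizer (Q : Set X) ∧
      H ≤ normalizer (Q : Set X) ∧
      ∀ x ∈ H, (orderOf x).Coprime p → x ∈ centralizer (Q : Set X) → x ∈ centralizer (R : Set X)) :=
    ⟨_, fun _ => Iff.rfl⟩
  have hinit : good (Cfsg.pCoreOf p H) :=
    (hgood _).2 ⟨hleP _ ((pCoreOf_le H).trans hHG) (isPGroup_pCoreOf H) (le_normalizer_pCoreOf hRH)
      (le_normalizer_pCoreOf_self H), le_normalizer_pCoreOf hRH, le_normalizer_pCoreOf_self H, hH⟩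
  obtain ⟨Q, hQ, hmax⟩ := Set.exists_max_image {Q : Subgroup X | good Q}
    (fun Q => Nat.card ↥(P ⊓ normalizer (Q : Set X)) * (Nat.card X + 1) + Nat.card Q)
    (Set.toFinite _) ⟨_, hinit⟩
  obtain ⟨hQP, hRQ, hHQ, hQfix⟩ := (hgood Q).1 hQ
  have hQp : IsPGroup p Q := hPp.to_le hQP
  obtain ⟨L, hL⟩ : ∃ L, L = G ⊓ normalizer (Q : Set X) := ⟨_, rfl⟩
  have hLG : L ≤ G := hL ▸ inf_le_left
  have hHL : H ≤ L := hL ▸ le_inf hHG hHQ
  have hRL : R ≤ normalizer (L : Set X) :=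
    hL ▸ le_normalizer_inf' hRG (hRQ.trans le_normalizer)
  obtain ⟨D, hD⟩ : ∃ D, D = P ⊓ normalizer (Q : Set X) := ⟨_, rfl⟩
  have hDP : D ≤ P := hD ▸ inf_le_left
  have hDL : D ≤ L := hL ▸ hD ▸ inf_le_inf_right _ hPG
  have hQD : Q ≤ D := hD ▸ le_inf hQP le_normalizer
  have hDp : IsPGroup p D := hPp.to_le hDP
  have hRP : R ≤ normalizer (P : Set X) := hP ▸ le_normalizer_meetSylow
  have hRD : R ≤ normalizer (D : Set X) := hD ▸ le_normalizer_inf' hRP (hRQ.trans le_normalizer)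
  have hCP : G ⊓ centralizer (R : Set X) ≤ normalizer (P : Set X) :=
    hP ▸ fixed_le_normalizer_meetSylow (inf_le_left.trans le_normalizer) inf_le_right
  have hCD : G ⊓ centralizer (R : Set X) ≤ normalizer (D : Set X) :=
    hD ▸ le_normalizer_inf' hCP ((hCH.trans hHQ).trans le_normalizer)
  have habsorb : ∀ V, good V → Q ≤ V → D ≤ normalizer (V : Set X) → V = Q := by
    intro V hV hle hDV
    refine (eq_of_le_of_card_ge hle ?_).symm
    have h1 : Nat.card D ≤ Nat.card ↥(P ⊓ normalizer (V : Set X)) := Subgroup.card_le_of_le (le_inf hDP hDV)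
    have h2 := hmax V hV
    rw [← hD] at h2
    have h3 := Nat.mul_le_mul_right (Nat.card X + 1) h1
    omega
  -- the ambient product
  obtain ⟨Z, hZ⟩ : ∃ Z, Z = L ⊔ R := ⟨_, rfl⟩
  have hLZ : L ≤ Z := hZ ▸ le_sup_left
  have hRZ : R ≤ Z := hZ ▸ le_sup_right
  have hDZ : D ≤ Z := hDL.trans hLZ
  have hQZ : Q ≤ Z := hQD.trans hDZ
  have hZQ : Z ≤ normalizer (Q : Set X) := hZ ▸ sup_le (hL ▸ inf_le_right) hRQ
  -- the p-core is the member
  have hTL : Cfsg.pCoreOf p Z ≤ L := hZ ▸ pCoreOf_sup_le hRL hRp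
  have hQT : Q ≤ Cfsg.pCoreOf p Z := le_pCoreOf hQZ hQp hZQ
  have hTn := le_normalizer_pCoreOf_self (p := p) Z
  have hTgood : good (Cfsg.pCoreOf p Z) :=
    (hgood _).2 ⟨hleP _ (hTL.trans hLG) (isPGroup_pCoreOf Z) (hRZ.trans hTn) ((hHL.trans hLZ).trans hTn),
      hRZ.trans hTn, (hHL.trans hLZ).trans hTn,
      fun x hx hco hxc => hQfix x hx hco (centralizer_le (SetLike.coe_subset_coe.2 hQT) hxc)⟩
  have hTQ : Cfsg.pCoreOf p Z = Q := habsorb _ hTgood hQT (hDZ.trans hTn)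
  -- the subgroup is normal in the product
  haveI hLn : (L.subgroupOf Z).Normal :=
    (normal_subgroupOf_iff_le_normalizer hLZ).2 (hZ ▸ sup_le le_normalizer hRL)
  have hcard : ∀ {K : Subgroup X}, K ≤ Z → Nat.card (K.subgroupOf Z) = Nat.card K := fun h =>
    Nat.card_congr (subgroupOfEquivOfLe h).toEquiv
  have hset : Setting p (L.subgroupOf Z) (R.subgroupOf Z) (D.subgroupOf Z) := by
    refine ⟨?_, ?_, fun x hx => hDL hx, hDp.comap_subtype, fun b hb => ?_, fun c hc => ?_⟩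
    · rw [hcard hRZ, hcard hLZ]; exact hcop.coprime_dvd_right (card_dvd_of_le hLG)
    · rw [hcard hRZ, hcard hLZ]; exact hodd.imp id fun h => h.of_dvd_nat (card_dvd_of_le hLG)
    · rw [mem_normalizer_iff]
      exact fun y => mem_normalizer_iff.1 (hRD hb) (y : X)
    · rw [mem_normalizer_iff]
      refine fun y => mem_normalizer_iff.1 (hCD ⟨hLG hc.1, mem_centralizer_iff.2 fun b hb => ?_⟩) (y : X)
      exact congrArg Subtype.val (mem_centralizer_iff.1 hc.2 ⟨b, hRZ hb⟩ hb)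
  have hTD : Cfsg.pCore p Z ≤ D.subgroupOf Z := fun x hx => hQD (hTQ.le ⟨x, hx, rfl⟩)
  have hn : (Cfsg.inducedFunctor (G := Z) Cfsg.kInfLower (D.subgroupOf Z)).Normal := by
    refine kInfLower_normal_of_absorb hp hset hTD fun S0 hS0 hSL hScent => ?_
    obtain ⟨N, hN⟩ : ∃ N, N = S0.map Z.subtype := ⟨_, rfl⟩
    haveI := hS0
    have hNL : N ≤ L := by
      rw [hN]
      rintro _ ⟨y, hy, rfl⟩
      exact hSL hy
    have hZN : Z ≤ normalizer (N : Set X) := hN ▸ CfsgLib.Functor.le_normalizer_map_of_normal S0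
    have hHN : H ≤ normalizer (N : Set X) := (hHL.trans hLZ).trans hZN
    have hRN : R ≤ normalizer (N : Set X) := hRZ.trans hZN
    have hmeet : meetSylow p N R = P ⊓ N :=
      hP ▸ meetSylow_eq_inf hRG hcop (hNL.trans hLG) hRN (hCH.trans hHN)
    have hHm : H ≤ normalizer (meetSylow p N R : Set X) := by
      rw [hHdef] at hHN ⊢
      refine fixed_le_normalizer_meetSylow_normal hRG hcop ha (hNL.trans hLG) hRN hHN fun x hx hxa hco => ?_
      refine hQfix x (hHdef ▸ ⟨hLG (hNL hx), hxa⟩) hco ?_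
      rw [hN] at hx
      obtain ⟨x0, hx0, rfl⟩ := hx
      have hc := hScent x0 hx0 (by rwa [← orderOf_coe])
      refine mem_centralizer_iff.2 fun q hq => ?_
      obtain ⟨q0, hq0, rfl⟩ := hTQ.ge hq
      exact congrArg Subtype.val (mem_centralizer_iff.1 hc q0 hq0)
    rw [hmeet] at hHm
    have hRm : R ≤ normalizer ((P ⊓ N : Subgroup X) : Set X) := le_normalizer_inf' hRP hRN
    have hV : good (P ⊓ N ⊔ Q) :=
      (hgood _).2 ⟨sup_le inf_le_left hQP, le_normalizer_sup hRm hRQ, le_normalizer_sup hHm hHQ,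
        fun x hx hco hxc => hQfix x hx hco (centralizer_le (SetLike.coe_subset_coe.2 le_sup_right) hxc)⟩
    have hVQ : P ⊓ N ⊔ Q = Q := habsorb _ hV le_sup_right
      (le_normalizer_sup (le_normalizer_inf' (hDP.trans le_normalizer) (hDZ.trans hZN)) (hD ▸ inf_le_right))
    rintro x ⟨hxD, hxS⟩
    have hxN : (x : X) ∈ N := hN ▸ mem_map_of_mem _ hxS
    have hxQ : (x : X) ∈ Q := hVQ.le (mem_sup_left ⟨hDP hxD, hxN⟩)
    obtain ⟨q0, hq0, he⟩ := hTQ.ge hxQ
    rwa [Z.subtype_injective he] at hq0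
  obtain ⟨C, hC⟩ : ∃ C, C = Cfsg.inducedFunctor Cfsg.kInfLower D := ⟨_, rfl⟩
  have hCmap : C = (Cfsg.inducedFunctor (G := Z) Cfsg.kInfLower (D.subgroupOf Z)).map Z.subtype := by
    rw [hC, ← CfsgLib.Functor.induced_map hW.2 Z.subtype _ hset.pGroup
      (fun x _ hx => Z.subtype_injective (hx.trans Z.subtype.map_one.symm)), map_subgroupOf_eq_of_le hDZ]
  have hZC : Z ≤ normalizer (C : Set X) := by
    rw [hCmap]; exact CfsgLib.Functor.le_normalizer_map_of_normal _
  by_cases hDeq : D = P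
  · rw [← hDeq, ← hC]; exact (hHL.trans hLZ).trans hZC
  exfalso
  have hlt : D < P := lt_of_le_of_ne hDP hDeq
  have hCD' : C ≤ D := hC ▸ CfsgLib.Functor.functor_le hWc hDp
  have hCQ : C ≤ Q := hTQ ▸ le_pCoreOf (hCD'.trans hDZ) (hDp.to_le hCD') hZC
  have hCgood : good C := by
    refine (hgood _).2 ⟨hCD'.trans hDP, hRZ.trans hZC, (hHL.trans hLZ).trans hZC, fun x hx hco hxc => ?_⟩
    refine hQfix x hx hco (centralizes_of_self_centralizing hQp hCQ (hQZ.trans hZC) ?_ (hHQ hx) hco hxc)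
    rintro u ⟨hu, huc⟩
    rw [hC] at huc ⊢
    refine ⟨⟨u, hQD hu⟩, CfsgLib.Kinf.centralizer_kInfLower_le hDp (mem_centralizer_iff.2 fun v hv => ?_), rfl⟩
    exact Subtype.ext (mem_centralizer_iff.1 huc _ (mem_map_of_mem D.subtype hv))
  have hgrow : P ⊓ normalizer (D : Set X) ≤ P ⊓ normalizer (C : Set X) :=
    inf_le_inf_left _ (hC ▸ CfsgLib.Functor.normalizer_le_functor hWc hDp)
  have h1 : Nat.card D < Nat.card ↥(P ⊓ normalizer (C : Set X)) :=
    (Solvable.card_lt_of_lt (CfsgLib.Fusion.lt_inf_normalizer hPp hlt)).trans_le (Subgroup.card_le_of_le hgrow)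
  have h2 := hmax C hCgood
  rw [← hD] at h2
  have h3 := Nat.mul_le_mul_right (Nat.card X + 1) h1
  have h4 : Nat.card Q ≤ Nat.card X := Nat.le_of_dvd Nat.card_pos (card_subgroup_dvd_card Q)
  rw [Nat.succ_mul] at h3
  omega

end CfsgLib.QuadEqui
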