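import Cfsg.Agent.QuadEqui.Chain
import Mathlib.GroupTheory.PGroup
import Mathlib.FieldTheory.Finiteness

/-!
In characteristic `p` the finite `p`-groups act unipotently.
-/

set_option autoImplicit false
set_option linter.unusedSectionVars false
set_option linter.deprecated false
set_option linter.style.haveILetI false
set_option linter.unusedSimpArgs false

universe v

namespace CfsgLib.QuadEqui

open Cfsg CfsgLib.QP CfsgLib.QuadFix

variable {p : ℕ} [Fact p.Prime] {M : Type v} [AddCommGroup M] [Module (ZMod p) M] [FiniteDimensional (ZMod p) M]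

local notation "GL" => LinearMap.GeneralLinearGroup (ZMod p) M
local notation "E" => Module.End (ZMod p) M

theorem exists_fixed_mod {H : Subgroup GL} (hH : IsPGroup p H) {W : Submodule (ZMod p) M}
    (hW : ∀ g ∈ H, ∀ m ∈ W, (g : E) m ∈ W) (hne : W ≠ ⊤) :
    ∃ m ∉ W, ∀ g ∈ H, ((g : E) - 1) m ∈ W := by
  have : Finite (M ⧸ W) := Module.finite_of_finite (ZMod p)
  let act : MulAction H (M ⧸ W) :=
    { smul := fun g x => Submodule.mapQ W W ((g : GL) : E) (fun m hm => hW g g.2 m hm) x
      one_smul := fun x => by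
        induction x using Submodule.Quotient.induction_on with
        | _ m => rfl
      mul_smul := fun g h x => by
        induction x using Submodule.Quotient.induction_on with
        | _ m => rfl }
  have : Nontrivial (M ⧸ W) := Submodule.Quotient.nontrivial_iff.2 hne
  have hd : p ∣ Nat.card (M ⧸ W) := by
    rw [Module.natCard_eq_pow_finrank (K := ZMod p), Nat.card_zmod]
    exact dvd_pow_self p (Module.finrank_pos).ne'
  have h0 : (0 : M ⧸ W) ∈ @MulAction.fixedPoints H (M ⧸ W) _ act := fun g => map_zero _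
  obtain ⟨x, hx, hx0⟩ := @IsPGroup.exists_fixed_point_of_prime_dvd_card_of_fixed_point p H _ hH _ (M ⧸ W) act _ hd _ h0
  induction x using Submodule.Quotient.induction_on with
  | _ m =>
    refine ⟨m, fun hm => hx0 ((Submodule.Quotient.mk_eq_zero W).2 hm).symm, fun g hg => ?_⟩
    exact (Submodule.Quotient.eq W).1 (hx ⟨g, hg⟩)

/-- A `p`-group of automorphisms in characteristic `p` is unipotent. -/
theorem isUnipotentOn_of_isPGroup {H : Subgroup GL} (hH : IsPGroup p H) : IsUnipotentOn H := by
  refine (unipotent_iff H).2 ?_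
  obtain ⟨K, hK⟩ : ∃ K : ℕ → Submodule (ZMod p) M, ∀ j m, m ∈ K j ↔ ∀ y ∈ lam H ^ j, y m = 0 :=
    ⟨fun j => ⨅ y ∈ lam H ^ j, LinearMap.ker y, fun j m => by simp [Submodule.mem_iInf]⟩
  have hsucc : ∀ j m, (∀ g ∈ H, ((g : E) - 1) m ∈ K j) → m ∈ K (j + 1) := by
    intro j m hm
    refine (hK _ _).2 fun y hy => ?_
    rw [pow_succ] at hy
    induction hy using Submodule.mul_induction_on' with
    | mem_mul_mem a ha b hb =>
      induction hb using Submodule.span_induction with
      | mem b hb =>
        obtain ⟨g, hg, rfl⟩ := hb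
        exact (hK j _).1 (hm g hg) a ha
      | zero => rw [mul_zero]; rfl
      | add u v _ _ hu hv => rw [mul_add, LinearMap.add_apply, hu, hv, add_zero]
      | smul r u _ hu => rw [mul_smul_comm, LinearMap.smul_apply, hu, smul_zero]
    | add a _ b _ ha hb => rw [LinearMap.add_apply, ha, hb, add_zero]
  have hmul : ∀ j m, m ∈ K (j + 1) → ∀ g ∈ H, ((g : E) - 1) m ∈ K j := fun j m hm g hg => (hK j _).2 fun y hy =>
    (hK _ _).1 hm (y * ((g : E) - 1)) (pow_succ (lam H) j ▸ Submodule.mul_mem_mul hy (mem_lam hg))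
  have hmono : ∀ j m, m ∈ K j → m ∈ K (j + 1) := by
    intro j
    induction j with
    | zero =>
      intro m hm
      refine hsucc 0 m fun g _ => ?_
      have h0 : m = 0 := (hK 0 m).1 hm 1 (by rw [pow_zero]; exact Submodule.one_le.1 le_rfl)
      rw [h0, map_zero]; exact zero_mem _
    | succ j ih => exact fun m hm => hsucc _ m fun g hg => ih _ (hmul j m hm g hg)
  have hinv : ∀ j, ∀ g ∈ H, ∀ m ∈ K j, (g : E) m ∈ K j := by
    intro j g hg m hm
    have := add_mem (hmul j m (hmono j m hm) g hg) hm
    rwa [LinearMap.sub_apply, Module.End.one_apply, sub_add_cancel] at this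
  have hgrow : ∀ j, K j = ⊤ ∨ j ≤ Module.finrank (ZMod p) (K j) := by
    intro j
    induction j with
    | zero => exact Or.inr (Nat.zero_le _)
    | succ j ih =>
      by_cases htop : K j = ⊤
      · exact Or.inl (eq_top_iff.2 fun m hm => hmono j m (htop ▸ hm))
      obtain ⟨m, hm, hfix⟩ := exists_fixed_mod hH (hinv j) htop
      have hlt : K j < K (j + 1) := lt_of_le_of_ne (hmono j) fun e => hm (e ▸ hsucc j m hfix)
      have := Submodule.finrank_lt_finrank_of_lt hlt
      exact Or.inr (by have := ih.resolve_left htop; omega)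
  refine ⟨Module.finrank (ZMod p) M + 1, eq_bot_iff.2 fun y hy => ?_⟩
  rw [Submodule.mem_bot]
  refine LinearMap.ext fun m => ?_
  have htop := (hgrow (Module.finrank (ZMod p) M + 1)).resolve_right fun h => by
    have := Submodule.finrank_le (K (Module.finrank (ZMod p) M + 1))
    omega
  exact (hK _ m).1 (htop ▸ Submodule.mem_top) y hy

end CfsgLib.QuadEqui
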