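import Cfsg.Agent.QuadEqui.Rad
import Cfsg.Agent.QuadEqui.Unip

/-!
Elements centralising the chain group, and quadratic elements centralising a pair of roots.
-/

set_option autoImplicit false
set_option linter.unusedSectionVars false
set_option linter.deprecated false
set_option linter.style.haveILetI false
set_option linter.unusedSimpArgs false

universe v

namespace CfsgLib.QuadEqui

open Cfsg CfsgLib.QP CfsgLib.QuadFix

variable {p : ℕ} [Fact p.Prime] {M : Type v} [AddCommGroup M] [Module (ZMod p) M] [FiniteDimensional (ZMod p) M]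

local notation "GL" => LinearMap.GeneralLinearGroup (ZMod p) M
local notation "E" => Module.End (ZMod p) M

variable {Y : Subgroup (LinearMap.GeneralLinearGroup (ZMod p) M)} {S T : Module.End (ZMod p) M}

theorem commute_of_conjEnd_eq {g : GL} {A : E} (h : conjEnd g A = A) : Commute (g : E) A := by
  show (g : E) * A = A * (g : E)
  conv_rhs => rw [← h, conjEnd, mul_assoc _ _ (g : E), Units.inv_mul, mul_one]

namespace Gr

variable (G : Gr Y S T)
include G

theorem eq_of_opposite {V : E} (hV : V ∈ rootSpace Y G.hT.sq) (h : S * V * S = S) : V = T := by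
  obtain ⟨b1, b2, -⟩ := G.symm.rootSpace_blocks hV
  calc V = T * S * V * (S * T) := by rw [b1, b2]
    _ = T * (S * V * S) * T := by simp only [mul_assoc]
    _ = T := by rw [h, G.tst]

/-- An element of prime power order centralising the chain group lies in the root group. -/
theorem eq_of_centralizes (hp : 5 ≤ p) (hY : Y ≤ comp Y S) (hrad : RadFree Y) (hss : Semisimple Y)
    (hfix : NoFixed Y) {f : GL} (hf : f ∈ Y) (hord : ∃ n : ℕ, f ^ p ^ n = 1)
    (hc : ∀ q ∈ chain Y G.hS.sq, f * q = q * f) : ∃ A ∈ rootSpace Y G.hS.sq, (f : E) = 1 + A := by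
  have hspace : ∀ g : GL, g ∈ Y → (∀ q ∈ chain Y G.hS.sq, g * q = q * g) →
      ∀ A ∈ rootSpace Y G.hS.sq, conjEnd g A = A := by
    intro g _ hg A hA
    have hmem : fam (QP.mul_eq_zero_of_mem hA hA) (1 : ZMod p) ∈ chain Y G.hS.sq :=
      G.space_mem_chain hA (fam_mem hA.2.2 _ 1) (fam_val _ _)
    refine conjEnd_eq_of_mul ?_
    have h := congrArg (fun u : GL => (u : E)) (hg _ hmem)
    simp only [Units.val_mul, fam_val, one_smul, mul_add, add_mul, mul_one, one_mul] at h
    exact add_left_cancel h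
  have hfS := hspace f hf hc S (mem_rootSpace_self G.hS.toIsRoot)
  have hopp : S * conjEnd f T * S ≠ 0 := by
    intro e
    have h1 : conjEnd f (S * T * S) = 0 := by rw [← conjEnd_mul, ← conjEnd_mul, hfS, e]
    rw [G.sts, hfS] at h1
    exact G.hS.ne h1
  obtain ⟨q₀, hq₀, T₂, hT₂, -, heq⟩ := G.exists_regular hp (G.hT.conj hf) hopp
  obtain ⟨f', hf'⟩ : ∃ f', f' = q₀⁻¹ * f := ⟨_, rfl⟩
  have hf'Y : f' ∈ Y := hf' ▸ mul_mem (inv_mem hq₀.1) hf
  have hf'A : ∀ A ∈ rootSpace Y G.hS.sq, conjEnd f' A = A := fun A hA => by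
    rw [hf', ← conjEnd_conjEnd, hspace f hf hc A hA, G.chain_commute_space (inv_mem hq₀) hA]
  have hf'S := hf'A S (mem_rootSpace_self G.hS.toIsRoot)
  have hf'T0 : conjEnd f' T = T₂ := by
    rw [hf', ← conjEnd_conjEnd, heq, conjEnd_conjEnd, inv_mul_cancel, conjEnd_one]
  have hf'T : conjEnd f' T = T := by
    rw [hf'T0]
    refine G.eq_of_opposite hT₂ ?_
    calc S * T₂ * S = conjEnd f' (S * T * S) := by rw [← conjEnd_mul, ← conjEnd_mul, hf'S, hf'T0]
      _ = S := by rw [G.sts, hf'S]
  have hP1 : conjEnd f' (S * T) = S * T := by rw [← conjEnd_mul, hf'S, hf'T]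
  have hP2 : conjEnd f' (T * S) = T * S := by rw [← conjEnd_mul, hf'T, hf'S]
  have hP0 := G.proj_mid hP1 hP2
  have hq₀f : q₀ * f = f * q₀ := (hc q₀ hq₀).symm
  have hblocks : ∀ q ∈ chain Y G.hS.sq, ∀ d c e, IsBlocks S T d c e → (q : E) = 1 + d + c + e →
      conjEnd f' d = d ∧ conjEnd f' c = c := by
    intro q hq d c e hb hqe
    have hq'mem : f' * q * f'⁻¹ = q₀⁻¹ * q * q₀ := by
      rw [hf', mul_inv_rev, inv_inv]
      calc q₀⁻¹ * f * q * (f⁻¹ * q₀) = q₀⁻¹ * (f * q) * f⁻¹ * q₀ := by group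
        _ = q₀⁻¹ * q * q₀ := by rw [hc q hq]; group
    obtain ⟨d₀, c₀, e₀, hb₀, hq₀e⟩ := G.exists_blocks hq₀
    obtain ⟨d', c', e', hb', hq'e⟩ := G.exists_blocks (mul_mem (mul_mem (inv_mem hq₀) hq) hq₀)
    have h1 : (q₀ : E) * ((q₀⁻¹ * q * q₀ : GL) : E) = (q : E) * (q₀ : E) := by
      rw [← Units.val_mul, ← Units.val_mul]; group
    rw [hq'e, hq₀e, hqe, hb₀.mul_val hb' G, hb.mul_val hb₀ G] at h1
    obtain ⟨x1, x2, -⟩ := (G.isBlocks_add hb₀ hb').extract G
    obtain ⟨y1, y2, -⟩ := (G.isBlocks_add hb hb₀).extract G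
    rw [h1, y1] at x1
    rw [h1, y2] at x2
    obtain ⟨z1, z2, -⟩ := hb'.extract G
    rw [← hq'e, ← hq'mem, show ((f' * q * f'⁻¹ : GL) : E) = conjEnd f' (q : E) by
      rw [conjEnd, Units.val_mul, Units.val_mul]] at z1 z2
    obtain ⟨w1, w2, -⟩ := hb.extract G
    rw [← hqe] at w1 w2
    constructor
    · rw [← w1, ← conjEnd_mul, ← conjEnd_mul, hP1, hP0, z1, w1]
      exact add_left_cancel (x1.symm.trans (add_comm d d₀))
    · rw [← w2, ← conjEnd_mul, ← conjEnd_mul, hP0, hP2, z2, w2]
      exact add_left_cancel (x2.symm.trans (add_comm c c₀))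
  have hcent : ∀ g ∈ Y, f' * g = g * f' := by
    have hle : Y ≤ Subgroup.centralizer {f'} := by
      refine G.le_of_generators hp hY (fun q hq => ?_) fun r => ?_
      · rw [Subgroup.mem_centralizer_singleton_iff]
        obtain ⟨d, c, A, -, hA, hb, hqe⟩ := G.exists_balanced hp hq
        obtain ⟨h1, h2⟩ := hblocks q hq d c _ hb hqe
        have cd := commute_of_conjEnd_eq h1
        have cc := commute_of_conjEnd_eq h2
        have key : Commute (f' : E) (q : E) := by
          rw [hqe]
          exact (((Commute.one_right _).add_right cd).add_right cc).add_right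
            (((cd.mul_right cc).smul_right _).add_right (commute_of_conjEnd_eq (hf'A A hA)))
        exact (Units.ext key.eq.symm)
      · rw [Subgroup.mem_centralizer_singleton_iff]
        have key : Commute (f' : E) (fam G.hT.sq r : E) := by
          rw [fam_val]
          exact (Commute.one_right _).add_right ((commute_of_conjEnd_eq hf'T).smul_right r)
        exact (Units.ext key.eq.symm)
    exact fun g hg => ((Subgroup.mem_centralizer_singleton_iff).1 (hle hg)).symm
  have hf'one : f' = 1 := by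
    have hp0 : ∃ n : ℕ, f' ^ p ^ n = 1 := by
      obtain ⟨n, hn⟩ := hord
      refine ⟨n + 1, ?_⟩
      have hcom : Commute q₀⁻¹ f := (show Commute q₀ f from hq₀f).inv_left
      rw [hf', hcom.mul_pow, inv_pow, pow_succ, pow_mul f, hn, one_pow, mul_one, pow_mul', ]
      rw [pow_eq_one_of_chain (by omega) G.hS.ne hq₀, one_pow, inv_one]
    have hI : Subgroup.zpowers f' = ⊥ := by
      refine hrad _ (Subgroup.zpowers_le.2 hf'Y) (isUnipotentOn_of_isPGroup (p := p) ?_) fun g hg => ?_
      · obtain ⟨n, hn⟩ := hp0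
        intro x
        obtain ⟨i, hi⟩ := Subgroup.mem_zpowers_iff.1 x.2
        refine ⟨n, Subtype.ext ?_⟩
        rw [Subgroup.coe_pow, ← hi, ← zpow_natCast, ← zpow_mul, mul_comm, zpow_mul, zpow_natCast, hn, one_zpow,
          Subgroup.coe_one]
      · rw [conjBy, MonoidHom.map_zpowers]
        congr 1
        show g * f' * g⁻¹ = f'
        rw [← hcent g hg, mul_inv_cancel_right]
    exact Subgroup.zpowers_eq_bot.1 hI
  have hfq : f = q₀ := by rw [hf', inv_mul_eq_one] at hf'one; exact hf'one.symm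
  obtain ⟨d, c, A, hI, hA, hb, hqe⟩ := G.exists_balanced hp hq₀
  have hradV : RadV Y S T d c := by
    refine ⟨hI, fun d' c' h' => ?_⟩
    obtain ⟨g, hg, hb', hge⟩ := G.exists_elem (two_three (p := p) hp).1 h' (zero_mem _)
    have hgc := G.mem_chain_of_blocks hg hb' hge
    have h1 := congrArg (fun u : GL => (u : E)) (hc g hgc)
    simp only [hfq, Units.val_mul, hqe, hge, hb.mul_val hb' G, hb'.mul_val hb G] at h1
    obtain ⟨-, -, x⟩ := (G.isBlocks_add hb hb').extract G
    obtain ⟨-, -, y⟩ := (G.isBlocks_add hb' hb).extract G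
    rw [h1, y] at x
    rw [add_comm ((2 : ZMod p)⁻¹ • (d' * c') + 0)] at x
    exact (add_left_cancel x).symm
  obtain ⟨rfl, rfl⟩ := G.rad_eq_zero hp hY hss hfix hradV
  refine ⟨A, hA, ?_⟩
  rw [hfq, hqe]
  simp

/-- A quadratic element fixing both roots in a unipotent group normalised by the stabiliser is trivial. -/
theorem eq_one_of_fixes (hp : 5 ≤ p) (hY : Y ≤ comp Y S) (hss : Semisimple Y) (hfix : NoFixed Y)
    {I : Subgroup GL} (hI : IsUnipotentOn I) (hIY : I ≤ Y) (hIS : ∀ i ∈ I, Stab S i)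
    (hIn : ∀ n ∈ Y, Stab S n → Stab T n → ∀ i ∈ I, n * i * n⁻¹ ∈ I ∧ n⁻¹ * i * n ∈ I)
    {x : GL} (hx : x ∈ I) (hxS : conjEnd x S = S) (hxT : conjEnd x T = T)
    (hx2 : ((x : E) - 1) * ((x : E) - 1) = 0) : x = 1 := by
  obtain ⟨h2, h3', h3⟩ := two_three (p := p) hp
  obtain ⟨X', hX'⟩ : ∃ X' : Submodule (ZMod p) M, X' = LinearMap.range S ⊓
      ⨅ i ∈ I, LinearMap.ker ((i : E) - 1) := ⟨_, rfl⟩
  have hmem : ∀ {m}, m ∈ X' ↔ m ∈ LinearMap.range S ∧ ∀ i ∈ I, (i : E) m = m := by
    intro m; rw [hX']; simp [Submodule.mem_iInf, sub_eq_zero]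
  have hlev : ∀ n ∈ Y, Stab S n → Stab T n → ∀ m ∈ X', (n : E) m ∈ X' := by
    intro n hn hnS hnT m hm
    obtain ⟨hmS, hmI⟩ := hmem.1 hm
    refine hmem.2 ⟨hnS.1 ▸ Submodule.mem_map_of_mem hmS, fun i hi => ?_⟩
    have h := hmI _ (hIn n hn hnS hnT i hi).2
    calc (i : E) ((n : E) m) = (n : E) (((n⁻¹ * i * n : GL) : E) m) := by
          rw [← Module.End.mul_apply, ← Module.End.mul_apply, ← Units.val_mul, ← Units.val_mul]
          congr 2
          group
      _ = (n : E) m := by rw [h]
  have hlevi : ∀ {d c A e e' : E}, InV Y S T d c → A ∈ rootSpace Y G.hS.sq →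
      e = (2 : ZMod p)⁻¹ • (d * c * T) + A * T → e' = (2 : ZMod p)⁻¹ • (d * c * T) - A * T →
      e * e' ≠ 0 → ∀ m ∈ X', e m ∈ X' := by
    intro d c A e e' h hA he he' hne m hm
    obtain ⟨ei, fi, -, -, -, -, -, -, -, n, hn, hnS, hnT, hv⟩ := G.exists_levi hp h hA he he' hne
    have h1 := hlev n hn hnS hnT m hm
    have hmS := (hmem.1 hm).1
    have hfixm : (S * T) m = m := G.mem_range_iff.1 hmS
    have h2' : (n : E) m = -(e m) := by
      rw [hv]
      conv_lhs => rw [← hfixm]
      rw [← Module.End.mul_apply]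
      have e1 : (mid S T - c * T * ei * d) * (S * T) = 0 := by
        rw [sub_mul, G.mid_S', mul_assoc _ d, ((G.invV_blocks hp h).zero_d G).2.2.2.2, mul_zero, sub_zero]
      have e2 : T * fi * S * (S * T) = 0 := by rw [mul_assoc, G.SS', mul_zero]
      rw [add_mul, add_mul, e1, e2, add_zero, add_zero, neg_mul, LinearMap.neg_apply, Module.End.mul_apply, hfixm]
    rw [h2'] at h1
    exact neg_mem_iff.1 h1
  have heq : X' = LinearMap.range S := by
    refine G.eq_range hp hY hss (hX' ▸ inf_le_left) (fun d c h m hm => ?_) (fun A hA m hm => ?_)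
      (fun C hC m hmC hmS hm0 => ?_)
    · obtain ⟨r, hr⟩ := G.exists_scalar hp h
      have hA : r • S ∈ rootSpace Y G.hS.sq := Submodule.smul_mem _ _ (mem_rootSpace_self G.hS.toIsRoot)
      have hr' := G.good_symm hp h hA rfl rfl hr
      have h1 := hlevi h hA rfl rfl hr m hm
      have h2' := hlevi h (neg_mem hA) (by rw [neg_mul, ← sub_eq_add_neg]) (by rw [neg_mul, sub_neg_eq_add]) hr' m hm
      have := add_mem h1 h2'
      rwa [← LinearMap.add_apply, add_add_sub_cancel, ← add_smul, ← two_mul, mul_inv_cancel₀ h2, one_smul] at this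
    · by_cases hA0 : A = 0
      · rw [hA0, zero_mul]; exact zero_mem _
      refine hlevi G.invV_zero hA (e' := -(A * T)) (by simp) (by simp) ?_ m hm
      intro e
      rw [mul_neg, neg_eq_zero] at e
      apply opposite_of_mem G.hS G.hT h2 h3 (G.sts.symm ▸ G.hS.ne) hA hA0 (mem_rootSpace_self G.hT.toIsRoot) G.hT.ne
      calc A * T * A = A * T * (A * T) * S := by
            conv_lhs => arg 2; rw [← (G.rootSpace_blocks hA).2.1]
            simp only [mul_assoc]
        _ = 0 := by rw [e, zero_mul]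
    · obtain ⟨y, ⟨hyC, hyS⟩, hy0, hy⟩ := exists_fixed_mem hI (C := C ⊓ LinearMap.range S)
        (fun i hi m hm => ⟨hC i (hIY hi) m hm.1, (hIS i hi).1 ▸ Submodule.mem_map_of_mem hm.2⟩) ⟨hmC, hmS⟩ hm0
      exact ⟨y, hyC, hmem.2 ⟨hyS, hy⟩, hy0⟩
  obtain ⟨u, hu⟩ : ∃ u, u = (x : E) - 1 := ⟨_, rfl⟩
  rw [← hu] at hx2
  have hxv : (x : E) = 1 + u := by rw [hu, add_sub_cancel]
  have hxiv : ((x⁻¹ : GL) : E) = 1 - u := by
    refine Units.inv_eq_of_mul_eq_one_right ?_
    rw [hxv, mul_sub, mul_one, add_mul, one_mul, hx2, add_zero, add_sub_cancel_right]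
  have huX : u * (S * T) = 0 := by
    refine LinearMap.ext fun m => ?_
    have hmX : (S * T) m ∈ X' := by rw [heq, Module.End.mul_apply]; exact ⟨_, rfl⟩
    rw [Module.End.mul_apply, hu, LinearMap.sub_apply, Module.End.one_apply, (hmem.1 hmX).2 x hx, sub_self]
    rfl
  have hcS : Commute u S := hu ▸ (commute_of_conjEnd_eq hxS).sub_left (Commute.one_left S)
  have hcT : Commute u T := hu ▸ (commute_of_conjEnd_eq hxT).sub_left (Commute.one_left T)
  have hcmid : Commute u (mid S T) := by
    rw [mid]; exact ((Commute.one_right u).sub_right (hcS.mul_right hcT)).sub_right (hcT.mul_right hcS)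
  have huS : u * S = 0 := by rw [← G.sts, ← mul_assoc, huX, zero_mul]
  have huT : u * T = 0 := by
    rw [← G.tst]
    calc u * (T * S * T) = T * (u * S) * T := by rw [← mul_assoc, ← mul_assoc, hcT.eq]; simp only [mul_assoc]
      _ = 0 := by rw [huS, mul_zero, zero_mul]
  have humid : u * mid S T = u := by
    conv_rhs => rw [← mul_one u, ← G.one_eq, mul_add, mul_add, ← mul_assoc, huS, ← mul_assoc, huT, zero_mul,
      zero_mul, add_zero, add_zero]
  have hmidu : mid S T * u = u := by rw [← hcmid.eq, humid]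
  have hTu : T * u = 0 := by rw [← hcT.eq, huT]
  have hconj : ∀ d c, InV Y S T d c → InV Y S T (-(d * u)) (u * c) := by
    intro d c h
    obtain ⟨hP1, hP2⟩ : conjEnd x (S * T) = S * T ∧ conjEnd x (T * S) = T * S :=
      ⟨by rw [← conjEnd_mul, hxS, hxT], by rw [← conjEnd_mul, hxT, hxS]⟩
    have h1 := G.invV_sub (G.invV_conj (hIY hx) hP1 hP2 h) h
    have hb := G.invV_blocks hp h
    have e1 : u * d = 0 := by
      rw [← hb.d1, ← mul_assoc, ← mul_assoc, huS, zero_mul, zero_mul]
    have e2 : c * u = 0 := by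
      rw [← hmidu, ← mul_assoc, (hb.zero_c G).2.2.2.1, zero_mul]
    convert h1 using 1
    · rw [conjEnd, hxv, hxiv, add_mul, one_mul, e1, add_zero, mul_sub, mul_one]; abel
    · rw [conjEnd, hxv, hxiv, add_mul, one_mul, mul_sub, mul_one, add_mul c (u * c) u, e2, mul_assoc u c u, e2,
        mul_zero, add_zero, sub_zero, add_sub_cancel_left]
  have hduc : ∀ d c, InV Y S T d c → d * u * c = 0 := by
    intro d c h
    have h1 := G.commutator_mem h2 h (hconj d c h)
    have h1' : (2 : ZMod p)⁻¹ • (d * (u * c) - -(d * u) * c) ∈ rootSpace Y G.hS.sq := Submodule.smul_mem _ _ h1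
    rw [neg_mul, sub_neg_eq_add, ← mul_assoc, ← two_smul (ZMod p), smul_smul, inv_mul_cancel₀ h2, one_smul] at h1'
    by_contra hne
    obtain ⟨-, hk, -⟩ := G.hS.of_mem_rootSpace h1' hne
    obtain ⟨κ, hκ⟩ : ∃ κ, κ = d * u * c * T := ⟨_, rfl⟩
    have hcκ : Cor S T κ := hκ ▸ G.cor_space h1'
    have hκinj : ∀ m, (S * T) m = m → κ m = 0 → m = 0 := by
      intro m hm h0
      rw [hκ, Module.End.mul_apply, ← LinearMap.mem_ker, hk, LinearMap.mem_ker] at h0
      rw [← hm, Module.End.mul_apply, h0]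
    obtain ⟨r, hr⟩ := G.exists_scalar hp h
    obtain ⟨ei, fi, hcei, -, hee, hie, -, -, -, n, hn, hnS, hnT, hv⟩ := G.exists_levi hp h
      (Submodule.smul_mem _ r (mem_rootSpace_self G.hS.toIsRoot)) rfl rfl hr
    -- the filtration
    obtain ⟨R, hR⟩ : ∃ R : ℕ → Submodule (ZMod p) E, ∀ j, R j = lam I ^ j * ⊤ := ⟨_, fun j => rfl⟩
    have hRanti : ∀ j i, R (j + i) ≤ R j := by
      intro j i
      rw [hR, hR, pow_add, mul_assoc]
      exact mul_le_mul_right le_top _
    have hconjlam : ∀ n ∈ Y, Stab S n → Stab T n → ∀ j, ∀ y ∈ lam I ^ j, conjEnd n y ∈ lam I ^ j := by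
      intro n hn hnS hnT j
      induction j with
      | zero =>
        intro y hy
        rw [pow_zero, Submodule.mem_one] at hy ⊢
        obtain ⟨a, rfl⟩ := hy
        exact ⟨a, by rw [Algebra.algebraMap_eq_smul_one, conjEnd_smul, conjEnd, mul_one, Units.mul_inv]⟩
      | succ j ih =>
        intro y hy
        rw [pow_succ] at hy ⊢
        induction hy using Submodule.mul_induction_on' with
        | mem_mul_mem a ha b hb =>
          rw [← conjEnd_mul]
          refine Submodule.mul_mem_mul (ih a ha) ?_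
          induction hb using Submodule.span_induction with
          | mem b hb =>
            obtain ⟨i, hi, rfl⟩ := hb
            rw [← conjEnd_one_sub]
            exact mem_lam (hIn n hn hnS hnT i hi).1
          | zero => rw [conjEnd_zero]; exact zero_mem _
          | add u v _ _ hu hv => rw [conjEnd_add]; exact add_mem hu hv
          | smul r u _ hu => rw [conjEnd_smul]; exact Submodule.smul_mem _ r hu
        | add a _ b _ ha hb => rw [conjEnd_add]; exact add_mem ha hb
    have hRn : ∀ n ∈ Y, Stab S n → Stab T n → ∀ j, ∀ z ∈ R j, (n : E) * z ∈ R j := by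
      intro n hn hnS hnT j z hz
      rw [hR] at hz ⊢
      induction hz using Submodule.mul_induction_on' with
      | mem_mul_mem a ha b hb =>
        rw [show (n : E) * (a * b) = conjEnd n a * ((n : E) * b) by
          rw [conjEnd, mul_assoc, mul_assoc, ← mul_assoc ((n⁻¹ : GL) : E), Units.inv_mul, one_mul]]
        exact Submodule.mul_mem_mul (hconjlam n hn hnS hnT j a ha) Submodule.mem_top
      | add a _ b _ ha hb => rw [mul_add]; exact add_mem ha hb
    have hmid : ∀ j, ∀ z ∈ R j, mid S T * z ∈ R j := by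
      intro j z hz
      obtain ⟨t, htY, ht⟩ := G.exists_torusElem (-1)
      rw [inv_neg, inv_one, Units.val_neg, Units.val_one, neg_one_smul, neg_one_smul] at ht
      have htS : conjEnd t S = S ∧ conjEnd t T = T := by
        constructor <;>
        · refine conjEnd_eq_of_mul ?_
          rw [ht]
          simp only [add_mul, mul_add, neg_mul, mul_neg, mul_assoc, G.mid_S, G.mid_T, G.S_mid, G.T_mid, G.SS, G.TT,
            G.STS, G.TST, G.SS', G.TT', mul_zero]
          abel
      have h1 := hRn t htY ⟨by rw [← range_conjEnd, htS.1], by rw [← ker_conjEnd, htS.1]⟩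
        ⟨by rw [← range_conjEnd, htS.2], by rw [← ker_conjEnd, htS.2]⟩ j z hz
      have e : mid S T = (2 : ZMod p)⁻¹ • ((t : E) + 1) := by
        rw [ht, ← G.one_eq]
        have : mid S T + -(S * T) + -(T * S) + (mid S T + S * T + T * S) = (2 : ZMod p) • mid S T := by
          rw [two_smul]; abel
        rw [this, smul_smul, inv_mul_cancel₀ h2, one_smul]
      rw [e, smul_mul_assoc, add_mul, one_mul]
      exact Submodule.smul_mem _ _ (add_mem h1 hz)
    have key : ∀ j : ℕ, ∃ f, Cor S T f ∧ (∀ m, (S * T) m = m → f m = 0 → m = 0) ∧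
        ∀ i, ∀ z ∈ R i, c * T * f * d * z ∈ R (i + j) := by
      intro j
      induction j with
      | zero =>
        refine ⟨ei, hcei, fun m hm h0 => by rw [← hm, ← hee, Module.End.mul_apply, h0, map_zero], fun i z hz => ?_⟩
        have h1 := sub_mem (hmid i z hz) (hRn n hn hnS hnT i _ (hmid i z hz))
        have e1 : (n : E) * mid S T = mid S T - c * T * ei * d := by
          have hce : Cor S T ((2 : ZMod p)⁻¹ • (d * c * T) + r • S * T) :=
            G.cor_add (G.cor_smul (G.cor_invV hp h h) _) (G.cor_space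
              (Submodule.smul_mem _ r (mem_rootSpace_self G.hS.toIsRoot)))
          rw [hv, add_mul, add_mul, sub_mul, G.mid_mid, mul_assoc _ d, (G.invV_blocks hp h).d2, mul_assoc _ S,
            G.S_mid, mul_zero, add_zero, neg_mul, ← hce.2]
          simp only [mul_assoc, G.T_mid, mul_zero, neg_zero, zero_add]
        rw [← mul_assoc, e1, sub_mul, sub_sub_cancel] at h1
        exact h1
      | succ j ih =>
        obtain ⟨f, hcf, hfinj, hlow⟩ := ih
        refine ⟨f * κ * f, G.cor_mul (G.cor_mul hcf hcκ) hcf, fun m hm h0 => ?_, fun i z hz => ?_⟩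
        · have fx : ∀ {g : E}, Cor S T g → ∀ w, (S * T) (g w) = g w := fun {g} hg w => LinearMap.congr_fun hg.1 w
          rw [Module.End.mul_apply, Module.End.mul_apply] at h0
          exact hfinj m hm (hκinj _ (fx hcf _) (hfinj _ (fx hcκ _) h0))
        have h1 := hlow i z hz
        have h2' : u * (c * T * f * d * z) ∈ R (i + j + 1) := by
          have hz' := h1
          generalize c * T * f * d * z = w at hz' ⊢
          rw [hR] at hz' ⊢
          rw [pow_succ', mul_assoc]
          exact Submodule.mul_mem_mul (hu ▸ mem_lam hx) hz'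
        have h3'' := hlow _ _ h2'
        rw [show c * T * (f * κ * f) * d * z = c * T * f * d * (u * (c * T * f * d * z)) by
          rw [hκ]; simp only [mul_assoc]]
        exact le_of_eq_of_le (by rw [show i + j + 1 + j = i + (j + 1) + j by omega]) (hRanti (i + (j + 1)) j) h3''
    obtain ⟨N, hN⟩ := (unipotent_iff I).1 hI
    obtain ⟨f, hcf, hfinj, hlow⟩ := key N
    have h0 := hlow 0 1 (by rw [hR, pow_zero, one_mul]; exact Submodule.mem_top)
    rw [hR, zero_add, hN, Submodule.bot_mul, Submodule.mem_bot, mul_one] at h0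
    have h0' : κ * f * κ = 0 := by
      rw [show κ * f * κ = d * u * (c * T * f * d) * (u * c * T) by rw [hκ]; simp only [mul_assoc], h0, mul_zero,
        zero_mul]
    refine G.hS.ne (LinearMap.ext fun m => ?_)
    have hm : (S * T) (S m) = S m := G.mem_range_iff.1 ⟨m, rfl⟩
    have h4 := LinearMap.congr_fun h0' (S m)
    rw [Module.End.mul_apply, Module.End.mul_apply, LinearMap.zero_apply] at h4
    exact hκinj _ hm (hfinj _ (LinearMap.congr_fun hcκ.1 _) (hκinj _ (LinearMap.congr_fun hcf.1 _) h4))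
  have hu0 : u * mid S T = 0 := by
    refine G.eq_zero_of_c hp hY hss hfix fun d c h => ?_
    refine (G.rad_eq_zero hp hY hss hfix ⟨hconj d c h, fun d' c' h' => ?_⟩).2
    have h1 := hduc _ _ (G.invV_add h h')
    simp only [add_mul, mul_add, hduc d c h, hduc d' c' h', zero_add, add_zero] at h1
    rw [neg_mul, ← mul_assoc d']
    exact neg_eq_of_add_eq_zero_right (by rw [← h1]; try abel)
  refine Units.ext ?_
  rw [hxv, ← humid, hu0, add_zero, Units.val_one]

end Gr

end CfsgLib.QuadEqui
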