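import Cfsg.Agent.QuadEqui.Grading

/-!
The unipotent group of a root: its blocks, pure elements and the regularity on opposite roots.
-/

set_option autoImplicit false
set_option linter.unusedSectionVars false
set_option linter.deprecated false
set_option linter.style.haveILetI false
set_option linter.unusedSimpArgs false

universe v

namespace CfsgLib.QuadEqui

open Cfsg CfsgLib.QP CfsgLib.QuadFix

variable {p : ℕ} [Fact p.Prime] {M : Type v} [AddCommGroup M] [Module (ZMod p) M] [FiniteDimensional (ZMod p) M]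

local notation "GL" => LinearMap.GeneralLinearGroup (ZMod p) M
local notation "E" => Module.End (ZMod p) M

variable {Y : Subgroup (LinearMap.GeneralLinearGroup (ZMod p) M)} {S T : (Module.End (ZMod p) M)}

instance finite_end : Finite E := by
  have : Finite M := Module.finite_of_finite (ZMod p)
  exact Finite.of_injective (fun f : E => (f : M → M)) DFunLike.coe_injective

/-- The elements of `Y` acting trivially on the chain of `S`. -/
def chain (Y : Subgroup GL) {S : E} (hS : S * S = 0) : Subgroup GL where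
  carrier := {g | g ∈ Y ∧ OnChain S 1 g}
  one_mem' := ⟨one_mem _, onChain_one⟩
  mul_mem' := fun {g h} hg hh => ⟨mul_mem hg.1 hh.1, by simpa using hg.2.mul hS hh.2⟩
  inv_mem' := fun {g} hg => ⟨inv_mem hg.1, by
    have e : g⁻¹ = g ^ (orderOf g - 1) := inv_eq_of_mul_eq_one_left (by
      rw [← pow_succ, Nat.sub_add_cancel (orderOf_pos g), pow_orderOf_eq_one])
    have hpow : ∀ i : ℕ, OnChain S 1 (g ^ i) := by
      intro i
      induction i with
      | zero => rw [pow_zero]; exact onChain_one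
      | succ i ih => rw [pow_succ]; simpa using ih.mul hS hg.2
    rw [e]; exact hpow _⟩

theorem mem_chain {hS : S * S = 0} {g : GL} : g ∈ chain Y hS ↔ g ∈ Y ∧ OnChain S 1 g := Iff.rfl

theorem chain_le (hS : S * S = 0) : chain Y hS ≤ Y := fun _ h => h.1

/-- An automorphism preserving the chain of `S`. -/
def Stab (S : E) (g : GL) : Prop :=
  (LinearMap.range S).map (g : E) = LinearMap.range S ∧ (LinearMap.ker S).map (g : E) = LinearMap.ker S

theorem stab_of_mem_rootStab (hS : IsMinRoot Y S) {g : GL} (hg : g ∈ rootStab (rootSpace Y hS.sq)) :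
    Stab S g := (map_of_mem_rootStab hS hg).symm

theorem chain_conj {hS : S * S = 0} {g q : GL} (hg : g ∈ Y) (hst : Stab S g) (hq : q ∈ chain Y hS) :
    g * q * g⁻¹ ∈ chain Y hS :=
  ⟨mul_mem (mul_mem hg hq.1) (inv_mem hg), hq.2.conj hst.1 hst.2⟩

theorem pow_eq_one_of_chain (hp : 3 ≤ p) {hS : S * S = 0} (hne : S ≠ 0) {g : GL} (hg : g ∈ chain Y hS) :
    g ^ p = 1 := pow_char_eq_one hp hne hg.2

theorem chain_isPGroup (hp : 3 ≤ p) {hS : S * S = 0} (hne : S ≠ 0) : IsPGroup p (chain Y hS) := fun g =>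
  ⟨1, Subtype.ext (by
    rw [pow_one, Subgroup.coe_pow, Subgroup.coe_one]; exact pow_eq_one_of_chain hp hne g.2)⟩

/-- Square-zero translates have their family in `Y`. -/
theorem hasFam_of_mem {e : E} (he : e * e = 0) {g : GL} (hg : g ∈ Y) (hge : (g : E) = 1 + e) :
    HasFam Y e := by
  intro c
  refine ⟨g ^ c.val, pow_mem hg _, ?_⟩
  rw [Units.val_pow_eq_pow_val, hge]
  have key : ∀ n : ℕ, (1 + e) ^ n = 1 + n • e := by
    intro n
    induction n with
    | zero => simp
    | succ n ih =>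
      rw [pow_succ, ih, mul_add, mul_one, add_mul, one_mul, smul_mul_assoc, he, smul_zero, add_zero,
        succ_nsmul, add_assoc]
  rw [key, ← Nat.cast_smul_eq_nsmul (ZMod p), ZMod.natCast_zmod_val]

namespace Gr

variable (G : Gr Y S T)
include G

theorem rootSpace_blocks {A : E} (hA : A ∈ rootSpace Y G.hS.sq) :
    S * T * A = A ∧ A * (T * S) = A ∧ A * (S * T) = 0 ∧ T * S * A = 0 ∧ A * mid S T = 0 ∧ mid S T * A = 0 := by
  have h1 : S * T * A = A := LinearMap.ext fun m => G.mem_range_iff.1 (hA.2.1 ⟨m, rfl⟩)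
  have h2 : ∀ B : E, S * B = 0 → A * B = 0 := fun B hB => LinearMap.ext fun m =>
    hA.1 (LinearMap.mem_ker.2 (LinearMap.congr_fun hB m))
  have h3 : A * (S * T) = 0 := h2 _ (by rw [G.SS'])
  have h4 : A * mid S T = 0 := h2 _ G.S_mid
  refine ⟨h1, ?_, h3, ?_, h4, ?_⟩
  · conv_rhs => rw [← mul_one A, ← G.one_eq, mul_add, mul_add, h3, h4, add_zero, zero_add]
  · conv_lhs => rw [← h1]
    simp only [mul_assoc, G.SS', mul_zero]
  · conv_lhs => rw [← h1]
    simp only [mul_assoc, G.mid_S']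

theorem mem_rootSpace_of_blocks {A : E} (h1 : S * T * A = A) (h2 : A * (T * S) = A) (hfam : HasFam Y A) :
    A ∈ rootSpace Y G.hS.sq := by
  refine ⟨fun m hm => ?_, ?_, hfam⟩
  · rw [LinearMap.mem_ker, ← h2, Module.End.mul_apply, G.mem_ker_iff.1 hm, map_zero]
  · rintro _ ⟨m, rfl⟩
    rw [← h1, Module.End.mul_apply, Module.End.mul_apply]
    exact ⟨_, rfl⟩

theorem blocks_of_chain {q : GL} (hq : q ∈ chain Y G.hS.sq) :
    (q : E) * (S * T) = S * T ∧ T * S * (q : E) = T * S ∧ mid S T * (q : E) * mid S T = mid S T := by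
  obtain ⟨-, h1, h2, h3⟩ := hq
  refine ⟨LinearMap.ext fun m => ?_, LinearMap.ext fun m => ?_, LinearMap.ext fun m => ?_⟩
  · have := h1 _ ⟨T m, rfl⟩
    rw [Units.val_one, one_smul] at this
    exact this
  · have := G.mem_ker_iff.1 (h3 m)
    rw [inv_one, Units.val_one, one_smul, map_sub, sub_eq_zero] at this
    exact this
  · have hk : mid S T m ∈ LinearMap.ker S := LinearMap.congr_fun G.S_mid m
    obtain ⟨y, hy⟩ := h2 _ hk
    have := congrArg (mid S T) hy.symm
    rw [map_sub, ← Module.End.mul_apply (mid S T) S, G.mid_S, LinearMap.zero_apply, sub_eq_zero,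
      ← Module.End.mul_apply (mid S T) (mid S T), G.mid_mid] at this
    rw [Module.End.mul_apply, Module.End.mul_apply]
    exact this

theorem chain_of_blocks {q : GL} (hY : q ∈ Y) (h1 : (q : E) * (S * T) = S * T)
    (h2 : T * S * (q : E) = T * S) (h3 : mid S T * (q : E) * mid S T = mid S T) :
    q ∈ chain Y G.hS.sq := by
  refine ⟨hY, fun x hx => ?_, fun x hx => ?_, fun x => ?_⟩
  · rw [Units.val_one, one_smul, ← G.mem_range_iff.1 hx, ← Module.End.mul_apply, h1]
  · have hz := G.mem_ker_iff.1 hx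
    have hx' : x = (S * T) x + mid S T x := by
      conv_lhs => rw [G.split (S := S) (T := T) x, hz, add_zero]
    rw [G.mem_range_iff]
    have e1 : (T * S) ((q : E) x - x) = 0 := by rw [map_sub, ← Module.End.mul_apply, h2, sub_self]
    have e2 : mid S T ((q : E) x - x) = 0 := by
      rw [map_sub, ← Module.End.mul_apply]
      conv_lhs => arg 1; rw [hx', map_add, ← Module.End.mul_apply, ← Module.End.mul_apply, h3,
        mul_assoc, h1, ← mul_assoc, G.mid_S, zero_mul, LinearMap.zero_apply, zero_add]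
      rw [sub_self]
    conv_rhs => rw [G.split (S := S) (T := T) ((q : E) x - x), e1, e2, add_zero, add_zero]
  · rw [inv_one, Units.val_one, one_smul, G.mem_ker_iff, map_sub, ← Module.End.mul_apply, h2, sub_self]

end Gr

/-- The components of an element of the chain group. -/
structure IsBlocks (S T : E) (d c e : E) : Prop where
  d1 : S * T * d = d
  d2 : d * mid S T = d
  c1 : mid S T * c = c
  c2 : c * (T * S) = c
  e1 : S * T * e = e
  e2 : e * (T * S) = e

namespace IsBlocks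

variable {d c e d' c' e' : (Module.End (ZMod p) M)} (hb : IsBlocks S T d c e) (hb' : IsBlocks S T d' c' e') (G : Gr Y S T)
include hb G

theorem zero_d : d * S = 0 ∧ d * T = 0 ∧ T * S * d = 0 ∧ mid S T * d = 0 ∧ d * (S * T) = 0 := by
  refine ⟨?_, ?_, ?_, ?_, ?_⟩
  · rw [← hb.d2, mul_assoc, G.mid_S, mul_zero]
  · rw [← hb.d2, mul_assoc, G.mid_T, mul_zero]
  · rw [← hb.d1]; simp only [mul_assoc, G.SS', mul_zero]
  · rw [← hb.d1]; simp only [mul_assoc, G.mid_S']
  · rw [← hb.d2, mul_assoc, G.mid_S', mul_zero]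

theorem zero_c : S * c = 0 ∧ T * c = 0 ∧ c * (S * T) = 0 ∧ c * mid S T = 0 ∧ T * S * c = 0 := by
  refine ⟨?_, ?_, ?_, ?_, ?_⟩
  · rw [← hb.c1, ← mul_assoc, G.S_mid, zero_mul]
  · rw [← hb.c1, ← mul_assoc, G.T_mid, zero_mul]
  · rw [← hb.c2]; simp only [mul_assoc, G.SS', mul_zero]
  · rw [← hb.c2]; simp only [mul_assoc, G.S_mid, mul_zero]
  · rw [← hb.c1]; simp only [mul_assoc, G.S_mid', mul_zero]

theorem zero_e : e * S = 0 ∧ S * e = 0 ∧ e * mid S T = 0 ∧ mid S T * e = 0 ∧ T * S * e = 0 ∧ e * (S * T) = 0 := by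
  refine ⟨?_, ?_, ?_, ?_, ?_, ?_⟩
  · rw [← hb.e2]; simp only [mul_assoc, G.SS, mul_zero]
  · rw [← hb.e1]; simp only [mul_assoc, G.SS']
  · rw [← hb.e2]; simp only [mul_assoc, G.S_mid, mul_zero]
  · rw [← hb.e1]; simp only [mul_assoc, G.mid_S']
  · rw [← hb.e1]; simp only [mul_assoc, G.SS', mul_zero]
  · rw [← hb.e2]; simp only [mul_assoc, G.SS', mul_zero]

include hb'

theorem products : d * d' = 0 ∧ c * d' = 0 ∧ e * d' = 0 ∧ c * c' = 0 ∧ e * c' = 0 ∧ d * e' = 0 ∧ c * e' = 0 ∧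
    e * e' = 0 := by
  have k1 : ∀ x : E, d * (S * x) = 0 := fun x => by rw [← mul_assoc, (hb.zero_d G).1, zero_mul]
  have k2 : ∀ x : E, e * (S * x) = 0 := fun x => by rw [← mul_assoc, (hb.zero_e G).1, zero_mul]
  have k3 : ∀ x : E, c * (S * x) = 0 := fun x => by
    rw [← hb.c2]; simp only [mul_assoc, G.SS', mul_zero]
  have k4 : ∀ x : E, c * (mid S T * x) = 0 := fun x => by rw [← mul_assoc, (hb.zero_c G).2.2.2.1, zero_mul]
  have k5 : ∀ x : E, e * (mid S T * x) = 0 := fun x => by rw [← mul_assoc, (hb.zero_e G).2.2.1, zero_mul]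
  refine ⟨?_, ?_, ?_, ?_, ?_, ?_, ?_, ?_⟩
  · rw [← hb'.d1, mul_assoc, k1]
  · rw [← hb'.d1, mul_assoc, k3]
  · rw [← hb'.d1, mul_assoc, k2]
  · rw [← hb'.c1, k4]
  · rw [← hb'.c1, k5]
  · rw [← hb'.e1, mul_assoc, k1]
  · rw [← hb'.e1, mul_assoc, k3]
  · rw [← hb'.e1, mul_assoc, k2]

theorem mul_val : (1 + d + c + e) * (1 + d' + c' + e') = 1 + (d + d') + (c + c') + (e + e' + d * c') := by
  obtain ⟨p1, p2, p3, p4, p5, p6, p7, p8⟩ := hb.products hb' G
  simp only [mul_add, add_mul, one_mul, mul_one, p1, p2, p3, p4, p5, p6, p7, p8]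
  abel

omit hb'

theorem extract : S * T * (1 + d + c + e) * mid S T = d ∧ mid S T * (1 + d + c + e) * (T * S) = c ∧
    S * T * (1 + d + c + e) * (T * S) = e := by
  obtain ⟨-, -, -, zd, -⟩ := hb.zero_d G
  obtain ⟨zc, -, -, zc2, -⟩ := hb.zero_c G
  obtain ⟨-, -, ze, ze', -, -⟩ := hb.zero_e G
  have e0 : S * T * c = 0 := by rw [← hb.c1]; simp only [mul_assoc, G.T_mid', mul_zero]
  have d0 : d * (T * S) = 0 := by rw [← mul_assoc, (hb.zero_d G).2.1, zero_mul]
  refine ⟨?_, ?_, ?_⟩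
  · simp only [mul_add, add_mul, mul_one, hb.d1, hb.d2, hb.e1, ze, e0, zero_mul, add_zero]
    rw [mul_assoc, G.T_mid, mul_zero, zero_add]
  · simp only [mul_add, add_mul, mul_one, hb.c1, hb.c2, zd, ze', zero_mul, add_zero]
    rw [← mul_assoc, G.mid_T, zero_mul, zero_add]
  · simp only [mul_add, add_mul, mul_one, hb.d1, hb.e1, hb.e2, d0, e0, zero_mul, add_zero]
    simp only [mul_assoc, G.TT', mul_zero, zero_add]

end IsBlocks

/-- Blocks of elements of the chain group, without the top one. -/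
def InV (Y : Subgroup GL) (S T d c : E) : Prop :=
  ∃ g ∈ Y, ∃ e, IsBlocks S T d c e ∧ (g : E) = 1 + d + c + e

namespace Gr

variable (G : Gr Y S T)
include G

theorem exists_blocks {q : GL} (hq : q ∈ chain Y G.hS.sq) :
    ∃ d c e, IsBlocks S T d c e ∧ (q : E) = 1 + d + c + e := by
  obtain ⟨h1, h2, h3⟩ := G.blocks_of_chain hq
  obtain ⟨u, hu⟩ : ∃ u, u = (q : E) := ⟨_, rfl⟩
  rw [← hu] at h1 h2 h3 ⊢
  refine ⟨S * T * u * mid S T, mid S T * u * (T * S), S * T * u * (T * S), ⟨?_, ?_, ?_, ?_, ?_, ?_⟩, ?_⟩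
  · simp only [mul_assoc, G.TST']
  · simp only [mul_assoc, G.mid_mid]
  · simp only [mul_assoc, G.mid_mid']
  · simp only [mul_assoc, G.STS]
  · simp only [mul_assoc, G.TST']
  · simp only [mul_assoc, G.STS]
  · have hd := G.decomp u (S := S) (T := T)
    have a1 : S * T * u * (S * T) = S * T := by rw [mul_assoc, h1]; simp only [mul_assoc, G.TST]
    have a2 : mid S T * u * (S * T) = 0 := by rw [mul_assoc, h1, ← mul_assoc, G.mid_S, zero_mul]
    have a3 : T * S * (S * T) = 0 := by simp only [mul_assoc, G.SS', mul_zero]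
    have a4 : T * S * mid S T = 0 := by simp only [mul_assoc, G.S_mid, mul_zero]
    have a5 : T * S * (T * S) = T * S := by simp only [mul_assoc, G.STS]
    rw [a1, a2, h2, h3, a3, a4, a5] at hd
    conv_lhs => rw [hd]
    rw [← G.one_eq]
    abel

theorem mem_chain_of_blocks {g : GL} (hg : g ∈ Y) {d c e : E} (hb : IsBlocks S T d c e)
    (hge : (g : E) = 1 + d + c + e) : g ∈ chain Y G.hS.sq := by
  refine G.chain_of_blocks hg ?_ ?_ ?_ <;> rw [hge]
  · simp only [add_mul, one_mul, (hb.zero_d G).2.2.2.2, (hb.zero_c G).2.2.1, (hb.zero_e G).2.2.2.2.2, add_zero]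
  · simp only [mul_add, mul_one, (hb.zero_d G).2.2.1, (hb.zero_c G).2.2.2.2, (hb.zero_e G).2.2.2.2.1, add_zero]
  · simp only [mul_add, add_mul, mul_one, G.mid_mid, (hb.zero_d G).2.2.2.1, hb.c1, (hb.zero_c G).2.2.2.1,
      (hb.zero_e G).2.2.2.1, zero_mul, add_zero]

theorem invV_of_chain {q : GL} (hq : q ∈ chain Y G.hS.sq) :
    InV Y S T (S * T * (q : E) * mid S T) (mid S T * (q : E) * (T * S)) := by
  obtain ⟨d, c, e, hb, hqe⟩ := G.exists_blocks hq
  obtain ⟨e1, e2, -⟩ := hb.extract G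
  rw [hqe, e1, e2]
  exact ⟨q, hq.1, e, hb, hqe⟩

theorem blocks_zero : IsBlocks S T (0 : E) (0 : E) (0 : E) := by constructor <;> simp

theorem invV_zero : InV Y S T (0 : E) (0 : E) := ⟨1, one_mem _, 0, G.blocks_zero, by simp⟩

theorem blocks_space {A : E} (hA : A ∈ rootSpace Y G.hS.sq) : IsBlocks S T (0 : E) (0 : E) A := by
  obtain ⟨h1, h2, -⟩ := G.rootSpace_blocks hA
  exact ⟨mul_zero _, zero_mul _, mul_zero _, zero_mul _, h1, h2⟩

theorem mem_rootSpace_pure {g : GL} (hg : g ∈ Y) {e : E} (hb : IsBlocks S T (0 : E) (0 : E) e)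
    (hge : (g : E) = 1 + e) : e ∈ rootSpace Y G.hS.sq :=
  G.mem_rootSpace_of_blocks hb.e1 hb.e2 (hasFam_of_mem (hb.products hb G).2.2.2.2.2.2.2 hg hge)

theorem isBlocks_add {d c e d' c' e' : E} (hb : IsBlocks S T d c e) (hb' : IsBlocks S T d' c' e') :
    IsBlocks S T (d + d') (c + c') (e + e' + d * c') := by
  refine ⟨?_, ?_, ?_, ?_, ?_, ?_⟩
  · rw [mul_add, hb.d1, hb'.d1]
  · rw [add_mul, hb.d2, hb'.d2]
  · rw [mul_add, hb.c1, hb'.c1]
  · rw [add_mul, hb.c2, hb'.c2]
  · rw [mul_add, mul_add, hb.e1, hb'.e1, ← mul_assoc, hb.d1]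
  · rw [add_mul, add_mul, hb.e2, hb'.e2, mul_assoc, hb'.c2]

theorem invV_add {d c d' c' : E} (h : InV Y S T d c) (h' : InV Y S T d' c') :
    InV Y S T (d + d') (c + c') := by
  obtain ⟨g, hg, e, hb, he⟩ := h
  obtain ⟨g', hg', e', hb', he'⟩ := h'
  exact ⟨g * g', mul_mem hg hg', _, G.isBlocks_add hb hb', by rw [Units.val_mul, he, he', hb.mul_val hb' G]⟩

theorem invV_neg {d c : E} (h : InV Y S T d c) : InV Y S T (-d) (-c) := by
  obtain ⟨g, hg, e, hb, he⟩ := h
  have hb' : IsBlocks S T (-d) (-c) (-e + d * c) := by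
    refine ⟨?_, ?_, ?_, ?_, ?_, ?_⟩
    · rw [mul_neg, hb.d1]
    · rw [neg_mul, hb.d2]
    · rw [mul_neg, hb.c1]
    · rw [neg_mul, hb.c2]
    · rw [mul_add, mul_neg, hb.e1, ← mul_assoc, hb.d1]
    · rw [add_mul, neg_mul, hb.e2, mul_assoc, hb.c2]
  refine ⟨g⁻¹, inv_mem hg, _, hb', (eq_comm.1 ?_)⟩
  refine (Units.inv_eq_of_mul_eq_one_right ?_).symm
  rw [he, hb.mul_val hb' G]
  simp

theorem invV_sub {d c d' c' : E} (h : InV Y S T d c) (h' : InV Y S T d' c') :
    InV Y S T (d - d') (c - c') := by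
  rw [sub_eq_add_neg, sub_eq_add_neg]; exact G.invV_add h (G.invV_neg h')

theorem invV_smul {d c : E} (h : InV Y S T d c) (a : ZMod p) : InV Y S T (a • d) (a • c) := by
  rw [← ZMod.natCast_zmod_val a, Nat.cast_smul_eq_nsmul, Nat.cast_smul_eq_nsmul]
  induction a.val with
  | zero => simpa using G.invV_zero
  | succ n ih => rw [succ_nsmul, succ_nsmul]; exact G.invV_add ih h

/-- Every pair of blocks is carried by a balanced element, up to any pure translate. -/
theorem exists_elem (h2 : (2 : ZMod p) ≠ 0) {d c : E} (h : InV Y S T d c) {A : E}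
    (hA : A ∈ rootSpace Y G.hS.sq) :
    ∃ g ∈ Y, IsBlocks S T d c ((2 : ZMod p)⁻¹ • (d * c) + A) ∧
      (g : E) = 1 + d + c + ((2 : ZMod p)⁻¹ • (d * c) + A) := by
  obtain ⟨g, hg, e, hb, he⟩ := h
  obtain ⟨t, ht, hte⟩ := G.exists_torusElem (-1)
  rw [inv_neg, inv_one, Units.val_neg, Units.val_one, neg_one_smul, neg_one_smul] at hte
  have htt : (t : E) * (t : E) = 1 := by
    rw [hte, ← G.one_eq]
    simp only [mul_add, add_mul, mul_neg, neg_mul, neg_neg, G.mid_mid, mul_assoc, G.TST, G.STS, G.SS', G.TT',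
      G.mid_S', G.mid_T', G.S_mid, G.T_mid, mul_zero, neg_zero, add_zero, zero_add]
  have hb' : IsBlocks S T (-d) (-c) e := by
    refine ⟨?_, ?_, ?_, ?_, hb.e1, hb.e2⟩
    · rw [mul_neg, hb.d1]
    · rw [neg_mul, hb.d2]
    · rw [mul_neg, hb.c1]
    · rw [neg_mul, hb.c2]
  have hconj : ((t * g * t : GL) : E) = 1 + -d + -c + e := by
    rw [Units.val_mul, Units.val_mul, he]
    obtain ⟨zd1, zd2, zd3, zd4, zd5⟩ := hb.zero_d G
    obtain ⟨zc1, zc2, zc3, zc4, zc5⟩ := hb.zero_c G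
    obtain ⟨ze1, ze2, ze3, ze4, ze5, ze6⟩ := hb.zero_e G
    have l1 : S * T * c = 0 := by rw [mul_assoc, zc2, mul_zero]
    have l2 : d * (T * S) = 0 := by rw [← mul_assoc, zd2, zero_mul]
    have r1 : (t : E) * d = -d := by
      rw [hte, add_mul, add_mul, neg_mul, neg_mul, zd4, hb.d1, zd3, neg_zero, zero_add, add_zero]
    have r2 : (t : E) * c = c := by
      rw [hte, add_mul, add_mul, neg_mul, neg_mul, hb.c1, l1, zc5, neg_zero, add_zero, add_zero]
    have r3 : (t : E) * e = -e := by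
      rw [hte, add_mul, add_mul, neg_mul, neg_mul, ze4, hb.e1, ze5, neg_zero, zero_add, add_zero]
    rw [mul_add, mul_add, mul_add, mul_one, r1, r2, r3, add_mul, add_mul, add_mul, htt]
    have s1 : d * (t : E) = d := by
      rw [hte, mul_add, mul_add, mul_neg, mul_neg, hb.d2, zd5, l2, neg_zero, add_zero, add_zero]
    have s2 : c * (t : E) = -c := by
      rw [hte, mul_add, mul_add, mul_neg, mul_neg, zc4, zc3, hb.c2, neg_zero, zero_add, zero_add]
    have s3 : e * (t : E) = -e := by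
      rw [hte, mul_add, mul_add, mul_neg, mul_neg, ze3, ze6, hb.e2, neg_zero, zero_add, zero_add]
    rw [neg_mul, s1, s2, neg_mul, s3, neg_neg]
  have hgY' : t * g * t ∈ Y := mul_mem (mul_mem ht hg) ht
  have hbp := G.isBlocks_add hb' hb
  rw [neg_add_cancel, neg_add_cancel] at hbp
  have hpure : e + e + -d * c ∈ rootSpace Y G.hS.sq := by
    refine G.mem_rootSpace_pure (g := t * g * t * g) (mul_mem hgY' hg) hbp ?_
    rw [Units.val_mul, hconj, he, hb'.mul_val hb G, neg_add_cancel, neg_add_cancel]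
    abel
  have hz : A - (2 : ZMod p)⁻¹ • (e + e + -d * c) ∈ rootSpace Y G.hS.sq :=
    sub_mem hA (Submodule.smul_mem _ _ hpure)
  have hbz := G.blocks_space hz
  have hsum := G.isBlocks_add hb hbz
  rw [add_zero, add_zero, mul_zero, add_zero] at hsum
  have hval : e + (A - (2 : ZMod p)⁻¹ • (e + e + -d * c)) = (2 : ZMod p)⁻¹ • (d * c) + A := by
    rw [neg_mul, smul_add, smul_add, smul_neg, ← add_smul, ← two_mul, mul_inv_cancel₀ h2, one_smul]
    abel
  rw [hval] at hsum
  refine ⟨g * fam G.hS.sq 0 * fam (QP.mul_eq_zero_of_mem hz hz) 1,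
    mul_mem (mul_mem hg (fam_mem G.hS.fam _ _)) (fam_mem hz.2.2 _ _), hsum, ?_⟩
  rw [Units.val_mul, Units.val_mul, fam_val, fam_val, zero_smul, add_zero, mul_one, one_smul, he,
    show (1 + (A - (2 : ZMod p)⁻¹ • (e + e + -d * c)) : E) =
      1 + 0 + 0 + (A - (2 : ZMod p)⁻¹ • (e + e + -d * c)) by rw [add_zero, add_zero],
    hb.mul_val hbz G, add_zero, add_zero, mul_zero, add_zero, hval]

theorem commutator_mem (h2 : (2 : ZMod p) ≠ 0) {d c d' c' : E} (h : InV Y S T d c) (h' : InV Y S T d' c') :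
    d * c' - d' * c ∈ rootSpace Y G.hS.sq := by
  obtain ⟨g, hg, hb, he⟩ := G.exists_elem h2 h (zero_mem _)
  obtain ⟨g', hg', hb', he'⟩ := G.exists_elem h2 h' (zero_mem _)
  obtain ⟨g'', hg'', hb'', he''⟩ := G.exists_elem h2 (G.invV_neg (G.invV_add h h')) (zero_mem _)
  have hbb := G.isBlocks_add (G.isBlocks_add hb hb') hb''
  rw [add_neg_cancel, add_neg_cancel] at hbb
  have hmem := G.mem_rootSpace_pure (g := g * g' * g'') (mul_mem (mul_mem hg hg') hg'') hbb (by
    rw [Units.val_mul, Units.val_mul, he, he', he'', hb.mul_val hb' G,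
      (G.isBlocks_add hb hb').mul_val hb'' G, add_neg_cancel, add_neg_cancel, add_zero, add_zero])
  have h4 : (2 : ZMod p) • ((2 : ZMod p)⁻¹ • (d * c) + 0 + ((2 : ZMod p)⁻¹ • (d' * c') + 0) + d * c' +
      ((2 : ZMod p)⁻¹ • (-(d + d') * -(c + c')) + 0) + (d + d') * -(c + c')) ∈ rootSpace Y G.hS.sq :=
    Submodule.smul_mem _ _ hmem
  convert h4 using 1
  simp only [neg_mul, mul_neg, neg_neg, add_mul, mul_add, smul_add, smul_neg, smul_smul, mul_inv_cancel₀ h2, one_smul,
    add_zero, smul_zero, neg_add_rev]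
  module

end Gr

end CfsgLib.QuadEqui
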