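import Cfsg.Agent.Kinf.LowerCase

/-!
`lower_le_of_quadratic` with its hypotheses asked only of the members of the subgroup in question.
-/

set_option autoImplicit false
set_option linter.unusedSectionVars false
set_option linter.style.haveILetI false

namespace CfsgLib.Kinf

open Subgroup CfsgLib.Functor
open scoped CfsgLib.Functor commutatorElement

universe u

variable {G : Type u} [Group G] [Finite G] {p : ℕ} [Fact p.Prime]

/-- As `lower_le_of_quadratic`, the hypotheses being asked only on `B`. -/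
theorem lower_le_of_quadratic_on (S : Sylow p G) (T A : Subgroup G) (hT : T = Cfsg.pCore p G)
    [A.Normal] (hAT : A ≤ T) (hA3 : ⁅T, A⁆ ≤ A ⊓ centralizer (A : Set G))
    {B : Subgroup G} (hstab : ∀ g ∈ B, KillsBelow g 1 A → g ∈ T)
    (hquad : ∀ g ∈ B,
      Cfsg.iterCommutator A (zpowers g) 3 ≤ A ⊓ centralizer (A : Set G) →
      ⁅⁅A ⊓ centralizer (A : Set G), zpowers g⁆, zpowers g⁆ = ⊥ → g ∉ T →
      ∀ U V : Subgroup G, Cfsg.IsChiefFactor U V → U ≤ A →
        ⁅⁅U, zpowers g⁆, zpowers g⁆ ≤ V → ⁅U, zpowers g⁆ ≤ V)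
    (Q : Subgroup G) (hBS : B ≤ (S : Subgroup G)) (hB : B ∈ Cfsg.kLowerStarFamily Q) (hAQ : A ≤ Q)
    (hZBT : B ⊓ centralizer (B : Set G) ≤ T)
    (hBZA : ⁅B, A ⊓ centralizer (A : Set G)⁆ ≤ B ⊓ centralizer (B : Set G)) : B ≤ T := by
  classical
  set ZA := A ⊓ centralizer (A : Set G) with hZA
  set ZB := B ⊓ centralizer (B : Set G) with hZB
  have hTn : T.Normal := hT ▸ inferInstance
  have hTp : IsPGroup p T := hT ▸ Solvable.isPGroup_pCore p
  have hAB : A ≤ normalizer (B : Set G) := hAQ.trans hB.2.1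
  have hBA : ⁅A, B⁆ ≤ B := le_normalizer_iff_commutator_le_right.1 hAB
  have hBB : ⁅B, B⁆ ≤ ZB := le_inf (commutator_le_self B) hB.1
  have hZBB : ⁅ZB, B⁆ = ⊥ := commutator_eq_bot_iff_le_centralizer.2 inf_le_right
  have hcond : ∀ g ∈ B, Cfsg.iterCommutator A (zpowers g) 3 ≤ ZA ∧
      ⁅⁅ZA, zpowers g⁆, zpowers g⁆ = ⊥ := fun g hg => by
    refine ⟨(classTwo_iter hB.1 hAB hg).le.trans bot_le, le_bot_iff.1 ?_⟩
    refine (commutator_mono (commutator_mono le_rfl (zpowers_le.2 hg)) (zpowers_le.2 hg)).trans ?_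
    rw [commutator_comm ZA B]
    exact (commutator_mono hBZA le_rfl).trans hZBB.le
  have hkills : ∀ g ∈ B, ∀ U V : Subgroup G, Cfsg.IsChiefFactor U V → U ≤ A →
      ⁅⁅U, zpowers g⁆, zpowers g⁆ ≤ V → ⁅U, zpowers g⁆ ≤ V := by
    intro g hg U V hUV hU h2
    by_cases hgT : g ∈ T
    · exact killsBelow_of_mem hTp hAT hgT U V hUV hU
    · exact hquad g hg (hcond g hg).1 (hcond g hg).2 hgT U V hUV hU h2
  refine fun g₂ hg₂ => hstab g₂ hg₂ ?_
  by_contra hcon
  obtain ⟨X, Y, hXY, hXA, hXYbot, -, ⟨g, hgB, hg⟩, M₀, hM₀n, hM₀Y, hCR⟩ :=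
    exists_setup S hT hAT hBS ⟨g₂, hg₂, hcon⟩
  haveI := hXY.2.1
  haveI hYn := hXY.2.2.1
  have hXX : ⁅X, X⁆ ≤ Y := (chiefFactor_elementary hXY (hTp.to_le (hXA.trans hAT))).1
  have hYX : ∀ y ∈ Y, ∀ x ∈ X, x * y = y * x := fun y hy x hx =>
    (mem_centralizer_iff.1 (commutator_eq_bot_iff_le_centralizer.1 hXYbot hx) y hy).symm
  have hXX' : ∀ a ∈ X, ∀ b ∈ X, ⁅a, b⁆ ∈ Y := fun a ha b hb => hXX (commutator_mem_commutator ha hb)
  have hBfix : ∀ b ∈ B, ∀ y ∈ X, b * y * b⁻¹ ∈ X := fun b _ y hy => hXY.2.1.conj_mem y hy b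
  -- the subgroup R
  let R : Subgroup G :=
    { carrier := {z | z ∈ X ∧ ∀ y ∈ X, ∀ b ∈ B, Commute b ⁅z, y⁆}
      one_mem' := ⟨one_mem X, fun y _ b _ => by rw [commutatorElement_one_left]; exact Commute.one_right b⟩
      mul_mem' := fun {z w} hz hw => ⟨mul_mem hz.1 hw.1, fun y hy b hb => by
        rw [show ⁅z * w, y⁆ = z * ⁅w, y⁆ * z⁻¹ * ⁅z, y⁆ by simp only [commutatorElement_def]; group,
          hYX _ (hXX' w hw.1 y hy) z hz.1, mul_inv_cancel_right]
        exact (hw.2 y hy b hb).mul_right (hz.2 y hy b hb)⟩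
      inv_mem' := fun {z} hz => ⟨inv_mem hz.1, fun y hy b hb => by
        rw [show ⁅z⁻¹, y⁆ = z⁻¹ * ⁅z, y⁆⁻¹ * z by simp only [commutatorElement_def]; group,
          hYX _ (inv_mem (hXX' z hz.1 y hy)) z⁻¹ (inv_mem hz.1), inv_mul_cancel_right]
        exact (hz.2 y hy b hb).inv_right⟩ }
  have hRX : R ≤ X := fun z hz => hz.1
  have hYR : Y ≤ R := fun y hy => ⟨hXY.1.le hy, fun x hx b _ => by
    rw [commutatorElement_eq_one_iff_mul_comm.2 (hYX y hy x hx).symm]; exact Commute.one_right b⟩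
  have hconjR : ∀ w : G, (∀ z ∈ R, ∀ y ∈ X, w * ⁅z, y⁆ * w⁻¹ = ⁅z, y⁆) →
      ∀ z ∈ R, w * z * w⁻¹ ∈ R := by
    intro w hw z hz
    refine ⟨hXY.2.1.conj_mem z hz.1 w, fun y hy b hb => ?_⟩
    have hy' : w⁻¹ * y * w ∈ X := by simpa using hXY.2.1.conj_mem y hy w⁻¹
    have h1 : ⁅w * z * w⁻¹, y⁆ = ⁅z, w⁻¹ * y * w⁆ := by
      rw [← hw z hz _ hy']; simp only [commutatorElement_def]; group
    rw [h1]
    exact hz.2 _ hy' b hb
  have hM₀R : M₀ ≤ normalizer (R : Set G) := le_normalizer_of_cj_le fun m hm =>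
    hconjR m fun z hz y hy => by
      rw [(mem_centralizer_iff.1 (commutator_eq_bot_iff_le_centralizer.1 hM₀Y hm) _ (hXX' z hz.1 y hy)).symm,
        mul_inv_cancel_right]
  have hBR : B ≤ normalizer (R : Set G) := le_normalizer_of_cj_le fun b hb =>
    hconjR b fun z hz y hy => by rw [(hz.2 y hy b hb).eq, mul_inv_cancel_right]
  have hZBR : ∀ h ∈ ZB, h ∈ X → h ∈ R := by
    intro h hh hhX
    refine ⟨hhX, fun y hy b hb => ?_⟩
    set c := ⁅b, y⁆ with hc
    have hcB : c ∈ B := by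
      have := inv_mem (hBA (commutator_mem_commutator (hXA hy) hb))
      rwa [commutatorElement_inv] at this
    have hcX : c ∈ X := commutator_le_right B X (commutator_mem_commutator hb hy)
    have h1 : Commute b h := mem_centralizer_iff.1 hh.2 b hb
    have h2 : Commute h c := (mem_centralizer_iff.1 hh.2 c hcB).symm
    have h3 : b * ⁅h, y⁆ * b⁻¹ = ⁅h, y⁆ := by
      calc b * ⁅h, y⁆ * b⁻¹ = ⁅b * h * b⁻¹, b * y * b⁻¹⁆ := by simp only [commutatorElement_def]; group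
        _ = ⁅h, c * y⁆ := by rw [h1.eq, mul_inv_cancel_right, hc, commutatorElement_def b y]; congr 1; group
        _ = ⁅h, c⁆ * (c * ⁅h, y⁆ * c⁻¹) := by simp only [commutatorElement_def]; group
        _ = ⁅h, y⁆ := by
          rw [commutatorElement_eq_one_iff_mul_comm.2 h2.eq, one_mul, hYX _ (hXX' h hhX y hy) c hcX,
            mul_inv_cancel_right]
    calc b * ⁅h, y⁆ = (b * ⁅h, y⁆ * b⁻¹) * b := by group
      _ = ⁅h, y⁆ * b := by rw [h3]
  have hRB : ⁅B, R⁆ ≤ ZB := by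
    have hRR : ⁅R, R⁆ ≤ Y := (commutator_mono hRX hRX).trans hXX
    refine hB.2.2 R ?_ ((hRX.trans hXA).trans hAQ) hBR ?_ ?_
    · exact hRR.trans (le_centralizer_iff.1 ((hRX).trans
        (commutator_eq_bot_iff_le_centralizer.1 hXYbot)))
    · refine commutator_eq_bot_iff_le_centralizer.2 fun b hb => ?_
      have hle : ⁅R, R⁆ ≤ centralizer ({b} : Set G) := commutator_le.2 fun z hz y hy =>
        mem_centralizer_singleton_iff.2 (hz.2 y hy.1 b hb).eq.symm
      exact mem_centralizer_iff.2 fun w hw => mem_centralizer_singleton_iff.1 (hle hw)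
    · refine le_bot_iff.1 ((commutator_mono ((commutator_mono hZBT (hRX.trans hXA)).trans hA3)
        (hRX.trans hXA)).trans ?_)
      exact (commutator_eq_bot_iff_le_centralizer.2 inf_le_right).le
  -- the complement
  set π := QuotientGroup.mk' Y.normalCore with hπ
  have hker : π.ker = Y := by rw [hπ, QuotientGroup.ker_mk', normalCore_eq_self]
  obtain ⟨C, hCX, hCn, hCdisj, hCsup⟩ := hCR π rfl (R.map π) (map_mono hRX)
    ((map_mono (sup_le hM₀R hBR)).trans (le_normalizer_map π))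
  have hCB : ∀ b ∈ B, π b ∈ normalizer (C : Set _) := fun b hb =>
    hCn (mem_map_of_mem π ((le_sup_right : B ≤ M₀ ⊔ B) hb))
  have habX : X.map π ≤ centralizer ((X.map π : Subgroup _) : Set _) := by
    rw [← commutator_eq_bot_iff_le_centralizer, ← map_commutator, Subgroup.map_eq_bot_iff, hker]
    exact hXX
  have hπone : ∀ w : G, π w = 1 ↔ w ∈ Y := fun w => by rw [← MonoidHom.mem_ker, hker]
  have hquad' : ∀ x ∈ X, ∀ a ∈ B, ∀ b ∈ B, ⁅⁅x, a⁆, b⁆ ∈ Y := by
    intro x hx a ha b hb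
    have hx' : π x ∈ R.map π ⊔ C := hCsup.ge (mem_map_of_mem π hx)
    rw [← SetLike.mem_coe, coe_mul_of_left_le_normalizer_right _ _ (((map_mono hRX).trans habX).trans
      ((centralizer_le hCX).trans (centralizer_le_normalizer (C : Set (G ⧸ Y.normalCore)))))] at hx'
    obtain ⟨_, ⟨r, hr, rfl⟩, c, hc, hrc⟩ := hx'
    obtain ⟨c₀, hc₀X, rfl⟩ := hCX hc
    replace hrc : π (r * c₀) = π x := (map_mul π r c₀).trans hrc
    have hr1 : ⁅⁅r, a⁆, b⁆ = 1 := by
      rw [commutatorElement_eq_one_iff_mul_comm]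
      have := hRB (commutator_mem_commutator ha hr)
      have h2 := inv_mem this
      rw [commutatorElement_inv] at h2
      exact (mem_centralizer_iff.1 h2.2 b hb).symm
    have hc1 : π ⁅⁅c₀, a⁆, b⁆ = 1 := by
      have hca : ⁅c₀, a⁆ ∈ B := hBA (commutator_mem_commutator (hXA hc₀X) ha)
      have hcaX : ⁅c₀, a⁆ ∈ X := commutator_le_left X B (commutator_mem_commutator hc₀X ha)
      have hh : ⁅⁅c₀, a⁆, b⁆ ∈ R := hZBR _ (hBB (commutator_mem_commutator hca hb))
        (commutator_le_left X B (commutator_mem_commutator hcaX hb))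
      have hconjC : ∀ w ∈ C, ∀ e ∈ B, ⁅w, π e⁆ ∈ C := by
        intro w hw e he
        rw [commutatorElement_def, show w * π e * w⁻¹ * (π e)⁻¹ = w * (π e * w⁻¹ * (π e)⁻¹) by group]
        exact mul_mem hw ((mem_normalizer_iff.1 (hCB e he) _).1 (inv_mem hw))
      have hhC : π ⁅⁅c₀, a⁆, b⁆ ∈ C := by
        rw [map_commutatorElement, map_commutatorElement]
        exact hconjC _ (hconjC _ hc a ha) b hb
      have h' : π ⁅⁅c₀, a⁆, b⁆ ∈ R.map π ⊓ C := mem_inf.2 ⟨mem_map_of_mem π hh, hhC⟩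
      rw [hCdisj, mem_bot] at h'
      exact h'
    rw [← hπone, map_commutatorElement, map_commutatorElement, ← hrc, map_mul]
    have habel : ∀ u ∈ X.map π, ∀ v ∈ X.map π, ∀ e : G ⧸ Y.normalCore, ⁅u * v, e⁆ = ⁅u, e⁆ * ⁅v, e⁆ := by
      intro u hu v hv e
      have hvX : ⁅v, e⁆ ∈ X.map π := by
        haveI := Normal.map hXY.2.1 π (QuotientGroup.mk'_surjective _)
        exact commutator_le_left _ ⊤ (commutator_mem_commutator hv (mem_top e))
      have hcu : ⁅v, e⁆ * ⁅u, e⁆ = ⁅u, e⁆ * ⁅v, e⁆ := by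
        haveI := Normal.map hXY.2.1 π (QuotientGroup.mk'_surjective _)
        exact mem_centralizer_iff.1 (habX (commutator_le_left _ ⊤ (commutator_mem_commutator hu (mem_top e))))
          _ hvX
      have huv : u * ⁅v, e⁆ = ⁅v, e⁆ * u := (mem_centralizer_iff.1 (habX hu) _ hvX).symm
      calc ⁅u * v, e⁆ = u * ⁅v, e⁆ * u⁻¹ * ⁅u, e⁆ := by simp only [commutatorElement_def]; group
        _ = ⁅v, e⁆ * ⁅u, e⁆ := by rw [huv, mul_inv_cancel_right]
        _ = _ := hcu
    have hcomm : ∀ u ∈ X, ∀ e, ⁅π u, π e⁆ ∈ X.map π := fun u hu e => by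
      rw [← map_commutatorElement]
      exact mem_map_of_mem π (commutator_le_left X ⊤ (commutator_mem_commutator hu (mem_top e)))
    rw [habel _ (mem_map_of_mem π (hRX hr)) _ (mem_map_of_mem π hc₀X),
      habel _ (hcomm r (hRX hr) a) _ (hcomm c₀ hc₀X a),
      ← map_commutatorElement, ← map_commutatorElement, hr1, map_one, one_mul,
      ← map_commutatorElement, ← map_commutatorElement, hc1]
  refine hg (hkills g hgB X Y hXY hXA ?_)
  set ρ := QuotientGroup.mk' Y with hρ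
  refine le_trans (commutator_mono (commutator_mono le_rfl (zpowers_le.2 hgB)) (zpowers_le.2 hgB)) ?_
  have h1 : ⁅X, B⁆ ≤ (centralizer ((B.map ρ : Subgroup _) : Set _)).comap ρ := by
    refine commutator_le.2 fun x hx a ha => mem_centralizer_iff.2 ?_
    rintro _ ⟨b, hb, rfl⟩
    refine Eq.symm ?_
    rw [← commutatorElement_eq_one_iff_mul_comm, ← map_commutatorElement]
    exact (QuotientGroup.eq_one_iff _).2 (hquad' x hx a ha b hb)
  rw [← QuotientGroup.ker_mk' Y, ← Subgroup.map_eq_bot_iff, map_commutator,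
    commutator_eq_bot_iff_le_centralizer]
  exact map_le_iff_le_comap.2 h1

end CfsgLib.Kinf
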