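import Cfsg.Agent.QuadEqui.Main
import Cfsg.Agent.QuadEqui.LowerVariant
import Cfsg.Agent.QuadFix.Stable
import Cfsg.Agent.Kinf.StableNormal

/-!
The meet of the invariant Sylow `p`-subgroups has no quadratic action on chief factors, and one of its
characteristic subgroups is normal in a group of characteristic `p`, for `p ≥ 5`.
-/

set_option autoImplicit false
set_option linter.unusedSectionVars false
set_option linter.deprecated false
set_option linter.style.haveILetI false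
set_option linter.unusedSimpArgs false

namespace CfsgLib.QuadEqui

open Subgroup CfsgLib.QuadFix

universe u

/-- The standing hypotheses: `Gn` normal, `A` acting coprimely, `P` normalised by `A` and its fixed points. -/
structure Setting {X : Type u} [Group X] (p : ℕ) (Gn A P : Subgroup X) : Prop where
  coprime : (Nat.card A).Coprime (Nat.card Gn)
  odd : Odd (Nat.card A) ∨ Odd (Nat.card Gn)
  le : P ≤ Gn
  pGroup : IsPGroup p P
  normalized : A ≤ normalizer (P : Set X)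
  fixed : Gn ⊓ centralizer (A : Set X) ≤ normalizer (P : Set X)

variable {X : Type u} [Group X] [Finite X] {p : ℕ} [Fact p.Prime] {Gn A P : Subgroup X} [Gn.Normal]

theorem Setting.map {Z : Type*} [Group Z] (h : Setting p Gn A P) (f : X →* Z) :
    Setting p (Gn.map f) (A.map f) (P.map f) :=
  ⟨(h.coprime.coprime_dvd_left (card_map_dvd A f)).coprime_dvd_right (card_map_dvd Gn f),
    h.odd.imp (fun o => o.of_dvd_nat (card_map_dvd A f)) (fun o => o.of_dvd_nat (card_map_dvd Gn f)),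
    map_mono h.le, h.pGroup.map f, (map_mono h.normalized).trans (le_normalizer_map f),
    ((fixed_map_le f (by rw [normalizer_eq_top (H := Gn)]; exact le_top) h.coprime).trans
      (map_mono h.fixed)).trans (le_normalizer_map f)⟩

/-- A quadratic element of `P` centralises a minimal normal elementary subgroup. -/
theorem mem_centralizer_of_minimal (hp5 : 5 ≤ p) (h : Setting p Gn A P)
    {V : Subgroup X} [hVn : V.Normal] (hV : Cfsg.IsElementaryAbelian p V) (hV1 : V ≠ ⊥)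
    (hmin : ∀ K : Subgroup X, K.Normal → K ≤ V → K = ⊥ ∨ K = V) {a : X} (ha : a ∈ P)
    (hq : ⁅⁅V, zpowers a⁆, zpowers a⁆ = ⊥) : a ∈ centralizer (V : Set X) := by
  classical
  have hall : ∀ x : X, x ∈ normalizer (V : Set X) := fun x => by rw [normalizer_eq_top (H := V)]; exact mem_top x
  let ι : X →* normalizer (V : Set X) := (MonoidHom.id X).codRestrict _ hall
  let ρ : X →* LinearMap.GeneralLinearGroup (ZMod p) (CfsgLib.ZJ.ElabMod V hV) :=
    ((CfsgLib.ZJ.conjEnd hV).comp ι).toHomUnits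
  have : FiniteDimensional (ZMod p) (CfsgLib.ZJ.ElabMod V hV) := Module.Finite.of_finite
  have hirr : Cfsg.IsIrreducibleFor ρ.range := by
    refine ⟨?_, fun W hW => ?_⟩
    · obtain ⟨v, hv, hv1⟩ := V.bot_or_exists_ne_one.resolve_left hV1
      exact ⟨CfsgLib.ZJ.toVec hV ⟨v, hv⟩, fun e => hv1 (congrArg Subtype.val (congrArg (CfsgLib.ZJ.ofVec hV) e))⟩
    · let Ws : Subgroup X :=
        { carrier := {x | ∃ hx : x ∈ V, CfsgLib.ZJ.toVec hV ⟨x, hx⟩ ∈ W}
          one_mem' := ⟨one_mem V, W.zero_mem⟩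
          mul_mem' := fun {x y} ⟨hx, hxW⟩ ⟨hy, hyW⟩ => ⟨mul_mem hx hy, W.add_mem hxW hyW⟩
          inv_mem' := fun {x} ⟨hx, hxW⟩ => ⟨inv_mem hx, W.neg_mem hxW⟩ }
      have hWn : Ws.Normal := ⟨by
        rintro x ⟨hx, hxW⟩ g
        exact ⟨hVn.conj_mem x hx g, hW (ρ g) ⟨g, rfl⟩ _ hxW⟩⟩
      rcases hmin Ws hWn (fun x hx => hx.1) with h' | h'
      · refine Or.inl ((Submodule.eq_bot_iff W).2 fun m hm => ?_)
        apply CfsgLib.ZJ.ofVec_injective
        apply Subtype.ext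
        have hmem : ((CfsgLib.ZJ.ofVec hV m : V) : X) ∈ Ws := ⟨(CfsgLib.ZJ.ofVec hV m).2, hm⟩
        rw [h', mem_bot] at hmem
        exact hmem
      · refine Or.inr (eq_top_iff.2 fun m _ => ?_)
        obtain ⟨hx, hxW⟩ : ((CfsgLib.ZJ.ofVec hV m : V) : X) ∈ Ws := h'.symm ▸ (CfsgLib.ZJ.ofVec hV m).2
        exact hxW
  have hnorm : ∀ x : X, Cfsg.conjBy (Gn.map ρ) (ρ x) = Gn.map ρ := fun x =>
    CfsgLib.RankOne.conjBy_eq_self_iff.2 (le_normalizer_map ρ
      ⟨x, by rw [SetLike.mem_coe, normalizer_eq_top (H := Gn)]; exact mem_top x, rfl⟩)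
  have hrad : CfsgLib.QP.RadFree (Gn.map ρ) := (CfsgLib.QP.radFree_of_irreducible hirr).of_normal
    (map_le_range ρ Gn) (by rintro _ ⟨x, rfl⟩; exact hnorm x)
  obtain ⟨hco, hodd, hle, hpg, hn, hfix⟩ := h.map ρ
  obtain ⟨I, hI1, hI2, hI3, haI⟩ := normalises (p := p) hp5 _ (Gn.map ρ) (A.map ρ) (P.map ρ)
    (by rintro _ ⟨x, -, rfl⟩; exact CfsgLib.RankOne.conjBy_eq_self_iff.1 (hnorm x))
    hco hodd hle hpg hn hfix (ρ a) (mem_map_of_mem ρ ha) (CfsgLib.ZJ.conjEnd_quadratic hV ⟨a, hall a⟩ hq)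
  rw [hrad I hI1 hI2 hI3, mem_bot] at haI
  exact (CfsgLib.ZJ.conjEnd_eq_one_iff hV ⟨a, hall a⟩).1 (congrArg Units.val haI)

/-- A quadratic element of `P` centralises a chief factor below a normal `p`-subgroup. -/
theorem commutator_le_of_chiefFactor (hp5 : 5 ≤ p) (h : Setting p Gn A P) {U V : Subgroup X}
    (hUV : Cfsg.IsChiefFactor U V) (hU : IsPGroup p U) {g : X} (hg : g ∈ P)
    (hq : ⁅⁅U, zpowers g⁆, zpowers g⁆ ≤ V) : ⁅U, zpowers g⁆ ≤ V := by
  haveI := hUV.2.1
  haveI := hUV.2.2.1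
  obtain ⟨π, hπ⟩ : ∃ π : X →* X ⧸ V, π = QuotientGroup.mk' V := ⟨_, rfl⟩
  have hs : Function.Surjective π := hπ ▸ QuotientGroup.mk'_surjective V
  have hker : π.ker = V := by rw [hπ, QuotientGroup.ker_mk']
  haveI : (Gn.map π).Normal := Normal.map inferInstance π hs
  haveI : (U.map π).Normal := Normal.map inferInstance π hs
  obtain ⟨hab, hpow⟩ := Kinf.chiefFactor_elementary hUV hU
  have hel : Cfsg.IsElementaryAbelian p (U.map π) := by
    refine ⟨le_centralizer_iff_isMulCommutative.1 ?_, ?_⟩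
    · rw [← commutator_eq_bot_iff_le_centralizer, ← map_commutator, Subgroup.map_eq_bot_iff, hker]
      exact hab
    · rintro _ ⟨x, hx, rfl⟩
      rw [← map_pow, ← MonoidHom.mem_ker, hker]
      exact hpow x hx
  have h1 : U.map π ≠ ⊥ := fun e => by
    rw [Subgroup.map_eq_bot_iff, hker] at e
    exact hUV.1.not_ge e
  have hmin : ∀ K : Subgroup (X ⧸ V), K.Normal → K ≤ U.map π → K = ⊥ ∨ K = U.map π := by
    intro K hK hKU
    have hle : K.comap π ≤ U := (comap_mono hKU).trans (by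
      rw [comap_map_eq, hker]; exact sup_le le_rfl hUV.1.le)
    rcases hUV.2.2.2 (K.comap π) (hK.comap π) (hker.ge.trans (π.ker_le_comap K)) hle with e | e
    · left; rw [← map_comap_eq_self_of_surjective hs K, e, Subgroup.map_eq_bot_iff, hker]
    · right; rw [← map_comap_eq_self_of_surjective hs K, e]
  have hc := mem_centralizer_of_minimal hp5 (h.map π) hel h1 hmin (mem_map_of_mem π hg) (by
    rw [← MonoidHom.map_zpowers, ← map_commutator, ← map_commutator, Subgroup.map_eq_bot_iff, hker]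
    exact hq)
  rw [← hker, ← Subgroup.map_eq_bot_iff, map_commutator, commutator_eq_bot_iff_le_centralizer,
    MonoidHom.map_zpowers, le_centralizer_iff, zpowers_le]
  exact hc

/-- A characteristic subgroup of `P` is normal, when `P` meets suitable normal subgroups inside `O_p`. -/
theorem kInfLower_normal_of_absorb (hp5 : 5 ≤ p) (h : Setting p Gn A P) (hTP : Cfsg.pCore p X ≤ P)
    (habs : ∀ S0 : Subgroup X, S0.Normal → S0 ≤ Gn → (∀ x ∈ S0, (orderOf x).Coprime p →
      x ∈ centralizer (Cfsg.pCore p X : Set X)) → P ⊓ S0 ≤ Cfsg.pCore p X) :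
    (Cfsg.inducedFunctor (G := X) Cfsg.kInfLower P).Normal := by
  obtain ⟨T, hT⟩ : ∃ T, T = Cfsg.pCore p X := ⟨_, rfl⟩
  rw [← hT] at hTP habs
  haveI hTn : T.Normal := hT ▸ inferInstance
  have hTp : IsPGroup p T := hT ▸ Solvable.isPGroup_pCore p
  have hTG : T ≤ Gn := hTP.trans h.le
  obtain ⟨S₁, hS₁⟩ := h.pGroup.exists_le_sylow
  obtain ⟨H, hHc, hH1, hH2, hH3⟩ := Kinf.exists_critical hTp
  obtain ⟨Ac, hA⟩ : ∃ Ac, Ac = H.map T.subtype := ⟨_, rfl⟩
  haveI hAn : Ac.Normal := by rw [hA]; haveI := hHc; exact ConjAct.normal_of_characteristic_of_normal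
  have hAT : Ac ≤ T := hA ▸ map_subtype_le H
  have hZA : (H ⊓ centralizer (H : Set T)).map T.subtype = Ac ⊓ centralizer (Ac : Set X) :=
    hA ▸ Kinf.center_map T.subtype T.subtype_injective H
  have hA2 : ⁅Ac, Ac⁆ ≤ centralizer (Ac : Set X) := by
    conv_lhs => rw [hA, ← map_commutator]
    exact (map_mono ((commutator_mono le_rfl le_top).trans hH2)).trans (hZA.le.trans inf_le_right)
  have hA3 : ⁅T, Ac⁆ ≤ Ac ⊓ centralizer (Ac : Set X) := by
    have he : T = (⊤ : Subgroup T).map T.subtype := by rw [← MonoidHom.range_eq_map, range_subtype]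
    rw [← hZA, commutator_comm, hA]
    calc ⁅H.map T.subtype, T⁆ = ⁅H.map T.subtype, (⊤ : Subgroup T).map T.subtype⁆ := by rw [← he]
      _ = ⁅H, (⊤ : Subgroup T)⁆.map T.subtype := (map_commutator _ _ _).symm
      _ ≤ _ := map_mono hH2
  have hA4 : T ⊓ centralizer (Ac : Set X) = Ac ⊓ centralizer (Ac : Set X) := by
    refine le_antisymm (fun x hx => ⟨?_, hx.2⟩) (inf_le_inf_right _ hAT)
    rw [hA]
    refine ⟨⟨x, hx.1⟩, hH3 (mem_centralizer_iff.2 fun k hk => Subtype.ext ?_), rfl⟩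
    exact mem_centralizer_iff.1 hx.2 _ (hA ▸ mem_map_of_mem _ hk)
  have hstab : ∀ g ∈ P, Kinf.KillsBelow g 1 Ac → g ∈ T := by
    intro g hg hk
    obtain ⟨D, hDn, hD⟩ := Kinf.exists_stabilizer Ac
    refine habs (D ⊓ Gn) inferInstance inf_le_right (fun x hx hco => ?_) ⟨hg, (hD g).2 hk, h.le hg⟩
    have hxA : x ∈ centralizer (Ac : Set X) :=
      Kinf.mem_centralizer_of_killsBelow (hTp.to_le hAT) hco ((hD x).1 hx.1)
    refine Kinf.conjNormal_eq_one_iff.1 (Kinf.aut_eq_one_of_critical hTp hAT hA3 hA4 _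
      (hco.coprime_dvd_left (orderOf_map_dvd _ x)) fun a ha => Subtype.ext ?_)
    rw [MulAut.conjNormal_apply, ← mem_centralizer_iff.1 hxA _ ha, mul_inv_cancel_right]
  have hquad : ∀ g ∈ P, ∀ U V : Subgroup X, Cfsg.IsChiefFactor U V → U ≤ Ac →
      ⁅⁅U, zpowers g⁆, zpowers g⁆ ≤ V → ⁅U, zpowers g⁆ ≤ V :=
    fun g hg U V hUV hU hq => commutator_le_of_chiefFactor hp5 h hUV (hTp.to_le (hU.trans hAT)) hg hq
  refine Kinf.kInfLower_normal_of_le P T Ac hT hTP hAT hA2 hA3 (fun g hgS h2 hA' => ?_)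
    fun B Q hBS hB hAQ hZBT hBZA => Kinf.lower_le_of_quadratic_on S₁ T Ac hT hAT hA3
      (fun g hg => hstab g (hBS hg)) (fun g hg _ _ _ => hquad g (hBS hg)) Q (hBS.trans hS₁) hB hAQ hZBT hBZA
  refine hstab g hgS fun U V hUV hU => hquad g hgS U V hUV hU ?_
  exact Kinf.killsBelow_step (n := 2) (N := Ac) (N₀ := Ac ⊓ centralizer (Ac : Set X)) hA'
    (fun U' V' _ hU' => ((commutator_mono (commutator_mono hU' le_rfl) le_rfl).trans h2.le).trans bot_le)
    U V hUV hU

/-- A characteristic subgroup of `P` is normal. -/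
theorem kInfLower_normal (hp5 : 5 ≤ p) (h : Setting p Gn A P) (hTP : Cfsg.pCore p X ≤ P)
    (hC : Gn ⊓ centralizer (Cfsg.pCore p X : Set X) ≤ Cfsg.pCore p X) :
    (Cfsg.inducedFunctor (G := X) Cfsg.kInfLower P).Normal := by
  refine kInfLower_normal_of_absorb hp5 h hTP fun S0 hS0 hle hx => inf_le_right.trans
    (Solvable.le_pCore p hS0 (Kinf.isPGroup_of_no_coprime fun x hxS hco => ?_))
  obtain ⟨k, hk'⟩ := IsPGroup.iff_orderOf.1 (Solvable.isPGroup_pCore (G := X) p)
    ⟨x, hC ⟨hle hxS, hx x hxS hco⟩⟩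
  rw [Subgroup.orderOf_mk] at hk'
  rcases k with _ | k
  · simpa using hk'
  · exact absurd (hk' ▸ dvd_pow_self p k.succ_ne_zero)
      ((Fact.out : p.Prime).coprime_iff_not_dvd.1 hco.symm)

end CfsgLib.QuadEqui
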