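import Cfsg.Agent.QuadFix.FixedPair

/-!
The grading of the module by a normalised opposite pair of minimal roots.
-/

set_option autoImplicit false
set_option linter.unusedSectionVars false
set_option linter.deprecated false
set_option linter.style.haveILetI false
set_option linter.unusedSimpArgs false

universe u v

namespace CfsgLib.QuadEqui

open Cfsg CfsgLib.QP CfsgLib.QuadFix

variable {k : Type u} [Field k] {M : Type v} [AddCommGroup M] [Module k M] [FiniteDimensional k M]

/-- A normalised opposite pair. -/
structure Gr (Y : Subgroup (LinearMap.GeneralLinearGroup k M)) (S T : Module.End k M) : Prop where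
  hS : IsMinRoot Y S
  hT : IsMinRoot Y T
  sts : S * T * S = S
  tst : T * S * T = T

/-- The middle projection. -/
def mid (S T : Module.End k M) : Module.End k M := 1 - S * T - T * S

variable {Y : Subgroup (LinearMap.GeneralLinearGroup k M)} {S T : Module.End k M}

theorem Gr.symm (G : Gr Y S T) : Gr Y T S := ⟨G.hT, G.hS, G.tst, G.sts⟩

theorem mid_comm (S T : Module.End k M) : mid T S = mid S T := by rw [mid, mid]; abel

namespace Gr

variable (G : Gr Y S T)
include G

theorem SS : S * S = 0 := G.hS.sq

theorem TT : T * T = 0 := G.hT.sq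

theorem SS' (x : Module.End k M) : S * (S * x) = 0 := by rw [← mul_assoc, G.SS, zero_mul]

theorem TT' (x : Module.End k M) : T * (T * x) = 0 := by rw [← mul_assoc, G.TT, zero_mul]

theorem STS : S * (T * S) = S := by rw [← mul_assoc, G.sts]

theorem TST : T * (S * T) = T := by rw [← mul_assoc, G.tst]

theorem STS' (x : Module.End k M) : S * (T * (S * x)) = S * x := by rw [← mul_assoc T, ← mul_assoc, G.STS]

theorem TST' (x : Module.End k M) : T * (S * (T * x)) = T * x := by rw [← mul_assoc S, ← mul_assoc, G.TST]

theorem S_mid : S * mid S T = 0 := by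
  rw [mid, mul_sub, mul_sub, mul_one, G.SS', G.STS, sub_zero, sub_self]

theorem mid_S : mid S T * S = 0 := by
  rw [mid, sub_mul, sub_mul, one_mul, G.sts, mul_assoc T, G.SS, mul_zero, sub_zero, sub_self]

theorem T_mid : T * mid S T = 0 := by rw [← mid_comm]; exact G.symm.S_mid

theorem mid_T : mid S T * T = 0 := by rw [← mid_comm]; exact G.symm.mid_S

theorem S_mid' (x : Module.End k M) : S * (mid S T * x) = 0 := by rw [← mul_assoc, G.S_mid, zero_mul]

theorem mid_S' (x : Module.End k M) : mid S T * (S * x) = 0 := by rw [← mul_assoc, G.mid_S, zero_mul]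

theorem T_mid' (x : Module.End k M) : T * (mid S T * x) = 0 := by rw [← mul_assoc, G.T_mid, zero_mul]

theorem mid_T' (x : Module.End k M) : mid S T * (T * x) = 0 := by rw [← mul_assoc, G.mid_T, zero_mul]

theorem mid_mid : mid S T * mid S T = mid S T := by
  conv_lhs => arg 2; rw [mid]
  rw [mul_sub, mul_sub, mul_one, G.mid_S', G.mid_T', sub_zero, sub_zero]

theorem mid_mid' (x : Module.End k M) : mid S T * (mid S T * x) = mid S T * x := by
  rw [← mul_assoc, G.mid_mid]

theorem split (x : M) : x = (S * T) x + mid S T x + (T * S) x := by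
  rw [mid, LinearMap.sub_apply, LinearMap.sub_apply, Module.End.one_apply]; abel

theorem decomp (x : Module.End k M) : x =
    S * T * x * (S * T) + S * T * x * mid S T + S * T * x * (T * S) +
      (mid S T * x * (S * T) + mid S T * x * mid S T + mid S T * x * (T * S)) +
      (T * S * x * (S * T) + T * S * x * mid S T + T * S * x * (T * S)) := by
  rw [mid]; noncomm_ring

theorem mem_range_iff {x : M} : x ∈ LinearMap.range S ↔ (S * T) x = x := by
  constructor
  · rintro ⟨y, rfl⟩
    rw [← Module.End.mul_apply, mul_assoc, G.STS]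
  · intro h
    exact ⟨T x, h⟩

theorem mem_ker_iff {x : M} : x ∈ LinearMap.ker S ↔ (T * S) x = 0 := by
  constructor
  · intro h
    rw [Module.End.mul_apply, LinearMap.mem_ker.1 h, map_zero]
  · intro h
    rw [LinearMap.mem_ker, ← G.STS, Module.End.mul_apply, h, map_zero]

/-- The Weyl element with parameter `c`. -/
theorem exists_weylElem (c : kˣ) : ∃ w ∈ Y,
    (w : Module.End k M) = mid S T + (c : k) • S - ((c⁻¹ : kˣ) : k) • T ∧
    w = fam G.hS.sq (c : k) * fam G.hT.sq (-((c⁻¹ : kˣ) : k)) * fam G.hS.sq (c : k) := by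
  refine ⟨fam G.hS.sq (c : k) * fam G.hT.sq (-((c⁻¹ : kˣ) : k)) * fam G.hS.sq (c : k),
    mul_mem (mul_mem (fam_mem G.hS.fam _ _) (fam_mem G.hT.fam _ _)) (fam_mem G.hS.fam _ _), ?_, rfl⟩
  have hci : (c : k) * ((c⁻¹ : kˣ) : k) = 1 := Units.mul_inv c
  generalize ((c⁻¹ : kˣ) : k) = ci at hci ⊢
  rw [Units.val_mul, Units.val_mul, fam_val, fam_val, mid]
  simp only [mul_add, add_mul, one_mul, mul_one, smul_mul_assoc, mul_smul_comm, smul_smul, mul_assoc, neg_smul,
    mul_neg, neg_mul, G.SS, G.STS, G.SS', smul_zero, mul_zero]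
  have e1 : -ci * (c : k) = -1 := by linear_combination -hci
  have e2 : (c : k) * -ci = -1 := by linear_combination -hci
  match_scalars <;> first | ring1 | linear_combination (-1 - (c : k)) * hci | linear_combination -hci | linear_combination hci | linear_combination (-(c : k)) * hci | linear_combination (c : k) * hci

/-- The torus element with parameter `c`. -/
theorem exists_torusElem (c : kˣ) : ∃ t ∈ Y,
    (t : Module.End k M) = mid S T + (c : k) • (S * T) + ((c⁻¹ : kˣ) : k) • (T * S) := by
  obtain ⟨w, hw, e, -⟩ := G.exists_weylElem c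
  obtain ⟨w', hw', e', -⟩ := G.exists_weylElem (-1)
  refine ⟨w * w', mul_mem hw hw', ?_⟩
  rw [Units.val_mul, e, e']
  simp only [inv_neg, inv_one, Units.val_neg, Units.val_one, neg_smul, one_smul, mul_add, add_mul, sub_mul,
    mul_sub, mul_neg, neg_mul, smul_mul_assoc, mul_smul_comm, G.mid_S, G.mid_T, G.S_mid, G.T_mid, G.mid_mid,
    G.SS, G.TT, smul_zero, mul_zero, zero_mul]
  abel

theorem one_eq : mid S T + S * T + T * S = 1 := by rw [mid]; abel

end Gr

end CfsgLib.QuadEqui
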