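import Cfsg.Agent.QuadEqui.Regular

/-!
Invariant subspaces of a component generated by a graded pair.
-/

set_option autoImplicit false
set_option linter.unusedSectionVars false
set_option linter.deprecated false
set_option linter.style.haveILetI false
set_option linter.unusedSimpArgs false

universe v

namespace CfsgLib.QuadEqui

open Cfsg CfsgLib.QP CfsgLib.QuadFix

variable {p : ℕ} [Fact p.Prime] {M : Type v} [AddCommGroup M] [Module (ZMod p) M] [FiniteDimensional (ZMod p) M]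

local notation "GL" => LinearMap.GeneralLinearGroup (ZMod p) M
local notation "E" => Module.End (ZMod p) M

variable {Y : Subgroup (LinearMap.GeneralLinearGroup (ZMod p) M)} {S T : Module.End (ZMod p) M}

/-- A subspace invariant under a group. -/
def Invariant (Y : Subgroup GL) (W : Submodule (ZMod p) M) : Prop :=
  ∀ g ∈ Y, ∀ m ∈ W, (g : E) m ∈ W

/-- Every invariant subspace has an invariant complement. -/
def Semisimple (Y : Subgroup GL) : Prop :=
  ∀ W, Invariant Y W → ∃ C, Invariant Y C ∧ IsCompl W C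

/-- No non-zero vector is fixed. -/
def NoFixed (Y : Subgroup GL) : Prop :=
  ∀ m : M, (∀ g ∈ Y, (g : E) m = m) → m = 0

/-- The elements mapping a subspace to itself. -/
def setStab (W : Submodule (ZMod p) M) : Subgroup GL where
  carrier := {g | W.map (g : E) = W}
  one_mem' := Submodule.map_id W
  mul_mem' := fun {g h} hg hh => by
    show W.map ((g * h : GL) : E) = W
    rw [Units.val_mul, Module.End.mul_eq_comp, Submodule.map_comp, hh, hg]
  inv_mem' := fun {g} hg => by
    show W.map ((g⁻¹ : GL) : E) = W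
    conv_lhs => rw [← hg, ← Submodule.map_comp, ← Module.End.mul_eq_comp, Units.inv_mul]
    exact Submodule.map_id W

/-- The elements fixing a vector. -/
def vecStab (m : M) : Subgroup GL where
  carrier := {g | (g : E) m = m}
  one_mem' := rfl
  mul_mem' := fun {g h} hg hh => by
    show (g : E) ((h : E) m) = m
    rw [hh, hg]
  inv_mem' := fun {g} hg => by
    show ((g⁻¹ : GL) : E) m = m
    conv_lhs => rw [← hg, ← Module.End.mul_apply, Units.inv_mul]
    rfl

theorem Invariant.inf {W W' : Submodule (ZMod p) M} (h : Invariant Y W) (h' : Invariant Y W') :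
    Invariant Y (W ⊓ W') := fun g hg m hm => ⟨h g hg m hm.1, h' g hg m hm.2⟩

namespace Gr

variable (G : Gr Y S T)
include G

theorem exists_balanced (hp : 5 ≤ p) {q : GL} (hq : q ∈ chain Y G.hS.sq) :
    ∃ d c A, InV Y S T d c ∧ A ∈ rootSpace Y G.hS.sq ∧
      IsBlocks S T d c ((2 : ZMod p)⁻¹ • (d * c) + A) ∧
      (q : E) = 1 + d + c + ((2 : ZMod p)⁻¹ • (d * c) + A) := by
  obtain ⟨h2, -, -⟩ := two_three (p := p) hp
  obtain ⟨d, c, e, hb, hqe⟩ := G.exists_blocks hq
  have hI : InV Y S T d c := ⟨q, hq.1, e, hb, hqe⟩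
  obtain ⟨g, hg, hbg, hge⟩ := G.exists_elem h2 (G.invV_neg hI) (zero_mem _)
  have hsum := G.isBlocks_add hb hbg
  rw [add_neg_cancel, add_neg_cancel] at hsum
  have hmem : e + ((2 : ZMod p)⁻¹ • (-d * -c) + 0) + d * -c ∈ rootSpace Y G.hS.sq :=
    G.mem_rootSpace_pure (g := q * g) (mul_mem hq.1 hg) hsum (by
      rw [Units.val_mul, hqe, hge, hb.mul_val hbg G, add_neg_cancel, add_neg_cancel, add_zero, add_zero])
  refine ⟨d, c, _, hI, hmem, ?_⟩
  have hdc : (2 : ZMod p)⁻¹ • (d * c) + (2 : ZMod p)⁻¹ • (d * c) = d * c := by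
    rw [← add_smul, ← two_mul, mul_inv_cancel₀ h2, one_smul]
  have e1 : (2 : ZMod p)⁻¹ • (d * c) + (e + ((2 : ZMod p)⁻¹ • (-d * -c) + 0) + d * -c) = e := by
    rw [neg_mul, mul_neg, neg_neg, add_zero]
    conv_lhs => arg 2; arg 2; rw [← hdc]
    abel
  rw [e1]
  exact ⟨hb, hqe⟩

theorem invV_blocks (hp : 5 ≤ p) {d c : E} (h : InV Y S T d c) :
    IsBlocks S T d c ((2 : ZMod p)⁻¹ • (d * c) + 0) :=
  let ⟨_, _, hb, _⟩ := G.exists_elem (two_three (p := p) hp).1 h (zero_mem _)
  hb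

/-- A subgroup contains `Y` when it contains the chain group and the opposite family. -/
theorem le_of_generators (hp : 5 ≤ p) (hY : Y ≤ comp Y S) {H : Subgroup GL} (hQ : chain Y G.hS.sq ≤ H)
    (hT : ∀ c : ZMod p, fam G.hT.sq c ∈ H) : Y ≤ H :=
  hY.trans (G.comp_le_of_generators hp hQ hT)

theorem invariant_of_ops (hp : 5 ≤ p) (hY : Y ≤ comp Y S) {W : Submodule (ZMod p) M}
    (hd : ∀ d c, InV Y S T d c → ∀ m ∈ W, d m ∈ W ∧ c m ∈ W)
    (hA : ∀ A ∈ rootSpace Y G.hS.sq, ∀ m ∈ W, A m ∈ W) (hT : ∀ m ∈ W, T m ∈ W) : Invariant Y W := by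
  have key : Y ≤ setStab W := by
    refine G.le_of_generators hp hY (fun q hq => map_eq_of_map_le ?_) fun r => map_eq_of_map_le ?_
    · rintro _ ⟨m, hm, rfl⟩
      obtain ⟨d, c, A, hI, hA', hb, hqe⟩ := G.exists_balanced hp hq
      obtain ⟨h1, h2⟩ := hd d c hI m hm
      rw [hqe]
      simp only [LinearMap.add_apply, LinearMap.smul_apply, Module.End.one_apply, Module.End.mul_apply]
      exact add_mem (add_mem (add_mem hm h1) h2)
        (add_mem (Submodule.smul_mem _ _ (hd d c hI _ h2).1) (hA A hA' m hm))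
    · rintro _ ⟨m, hm, rfl⟩
      rw [fam_val, LinearMap.add_apply, LinearMap.smul_apply, Module.End.one_apply]
      exact add_mem hm (Submodule.smul_mem _ _ (hT m hm))
  intro g hg m hm
  have := Submodule.mem_map_of_mem (f := (g : E)) hm
  rwa [show W.map (g : E) = W from key hg] at this

theorem fixed_of_killed (hp : 5 ≤ p) (hY : Y ≤ comp Y S) {m : M}
    (hd : ∀ d c, InV Y S T d c → d m = 0 ∧ c m = 0) (hA : ∀ A ∈ rootSpace Y G.hS.sq, A m = 0)
    (hT : T m = 0) : ∀ g ∈ Y, (g : E) m = m := by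
  refine G.le_of_generators hp hY (H := vecStab m) (fun q hq => ?_) fun r => ?_
  · obtain ⟨d, c, A, hI, hA', hb, hqe⟩ := G.exists_balanced hp hq
    obtain ⟨h1, h2⟩ := hd d c hI
    show (q : E) m = m
    rw [hqe]
    simp only [LinearMap.add_apply, LinearMap.smul_apply, Module.End.one_apply, Module.End.mul_apply,
      h1, h2, hA A hA', map_zero, smul_zero, add_zero]
  · show (fam G.hT.sq r : E) m = m
    rw [fam_val, LinearMap.add_apply, LinearMap.smul_apply, Module.End.one_apply, hT, smul_zero, add_zero]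

theorem invariant_root {C : Submodule (ZMod p) M} (hC : Invariant Y C) {A : E} (hA : A * A = 0)
    (hfam : HasFam Y A) {m : M} (hm : m ∈ C) : A m ∈ C := by
  have h := sub_mem (hC _ (fam_mem hfam hA 1) m hm) hm
  rwa [fam_val, one_smul, LinearMap.add_apply, Module.End.one_apply, add_sub_cancel_left] at h

theorem invariant_S {C : Submodule (ZMod p) M} (hC : Invariant Y C) {m : M} (hm : m ∈ C) :
    S m ∈ C ∧ T m ∈ C ∧ mid S T m ∈ C := by
  have h1 := fun {x} (hx : x ∈ C) => G.invariant_root hC G.hS.sq G.hS.fam hx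
  have h2 := fun {x} (hx : x ∈ C) => G.invariant_root hC G.hT.sq G.hT.fam hx
  refine ⟨h1 hm, h2 hm, ?_⟩
  rw [mid]
  exact sub_mem (sub_mem hm (h1 (h2 hm))) (h2 (h1 hm))

theorem invariant_space {C : Submodule (ZMod p) M} (hC : Invariant Y C) {A : E}
    (hA : A ∈ rootSpace Y G.hS.sq) {m : M} (hm : m ∈ C) : A m ∈ C :=
  G.invariant_root hC (QP.mul_eq_zero_of_mem hA hA) hA.2.2 hm

theorem invariant_invV {C : Submodule (ZMod p) M} (hC : Invariant Y C) {d c : E} (h : InV Y S T d c) {m : M}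
    (hm : m ∈ C) : d m ∈ C ∧ c m ∈ C := by
  obtain ⟨g, hg, e, hb, hge⟩ := h
  obtain ⟨e1, e2, -⟩ := hb.extract G
  rw [← hge] at e1 e2
  rw [← e1, ← e2]
  constructor
  · show S (T ((g : E) (mid S T m))) ∈ C
    exact (G.invariant_S hC (G.invariant_S hC (hC g hg _ (G.invariant_S hC hm).2.2)).2.1).1
  · show mid S T ((g : E) (T (S m))) ∈ C
    exact (G.invariant_S hC (hC g hg _ (G.invariant_S hC (G.invariant_S hC hm).1).2.1)).2.2

/-- A subspace of the range invariant under the corner operators and meeting every invariant subspace which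
meets the range is the range. -/
theorem eq_range (hp : 5 ≤ p) (hY : Y ≤ comp Y S) (hss : Semisimple Y) {X' : Submodule (ZMod p) M}
    (hX : X' ≤ LinearMap.range S)
    (hB : ∀ d c, InV Y S T d c → ∀ x ∈ X', (d * c * T) x ∈ X')
    (hA : ∀ A ∈ rootSpace Y G.hS.sq, ∀ x ∈ X', (A * T) x ∈ X')
    (hmeet : ∀ C, Invariant Y C → ∀ x ∈ C, x ∈ LinearMap.range S → x ≠ 0 → ∃ y ∈ C, y ∈ X' ∧ y ≠ 0) :
    X' = LinearMap.range S := by
  obtain ⟨h2, -, -⟩ := two_three (p := p) hp
  have hfix : ∀ x ∈ X', (S * T) x = x := fun x hx => G.mem_range_iff.1 (hX hx)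
  obtain ⟨W, hW⟩ : ∃ W, W = Submodule.span (ZMod p)
      ({x | x ∈ X'} ∪ {m | ∃ d c, InV Y S T d c ∧ ∃ x ∈ X', (c * T) x = m} ∪ {m | ∃ x ∈ X', T x = m}) :=
    ⟨_, rfl⟩
  have hg1 : ∀ x ∈ X', x ∈ W := fun x hx => hW ▸ Submodule.subset_span (Or.inl (Or.inl hx))
  have hg2 : ∀ d c, InV Y S T d c → ∀ x ∈ X', (c * T) x ∈ W := fun d c h x hx =>
    hW ▸ Submodule.subset_span (Or.inl (Or.inr ⟨d, c, h, x, hx, rfl⟩))
  have hg3 : ∀ x ∈ X', T x ∈ W := fun x hx => hW ▸ Submodule.subset_span (Or.inr ⟨x, hx, rfl⟩)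
  have hstep : ∀ (f : E), (∀ x ∈ X', f x ∈ W) → (∀ d c, InV Y S T d c → ∀ x ∈ X', f ((c * T) x) ∈ W) →
      (∀ x ∈ X', f (T x) ∈ W) → ∀ m ∈ W, f m ∈ W := by
    intro f f1 f2 f3
    have : W ≤ W.comap f := by
      nth_rw 1 [hW]
      rw [Submodule.span_le]
      rintro _ ((hx | ⟨d, c, h, x, hx, rfl⟩) | ⟨x, hx, rfl⟩)
      exacts [f1 _ hx, f2 d c h x hx, f3 x hx]
    exact fun m hm => this hm
  have hzero : ∀ (f : E), f * (S * T) = 0 → ∀ x ∈ X', f x = 0 := fun f hf x hx => by
    rw [← hfix x hx, ← Module.End.mul_apply, hf, LinearMap.zero_apply]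
  have hinv : Invariant Y W := by
    refine G.invariant_of_ops hp hY (fun d c h => ?_) (fun A hA' => hstep A ?_ ?_ ?_) (hstep T hg3 ?_ ?_)
    · have hb := G.invV_blocks hp h
      obtain ⟨zd1, zd2, -, -, zd5⟩ := hb.zero_d G
      obtain ⟨zc1, zc2, zc3, zc4, -⟩ := hb.zero_c G
      refine fun m hm => ⟨hstep d ?_ ?_ ?_ m hm, hstep c ?_ ?_ ?_ m hm⟩
      · exact fun x hx => by rw [hzero d zd5 x hx]; exact zero_mem _
      · intro d1 c1 h1 x hx
        refine hg1 _ ?_
        have hρ := hA _ (G.commutator_mem h2 h h1) x hx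
        have hpol := sub_mem (sub_mem (hB _ _ (G.invV_add h h1) x hx) (hB _ _ h x hx)) (hB _ _ h1 x hx)
        have e : (2 : ZMod p) • d ((c1 * T) x) =
            ((d + d1) * (c + c1) * T) x - (d * c * T) x - (d1 * c1 * T) x + ((d * c1 - d1 * c) * T) x := by
          simp only [add_mul, mul_add, sub_mul, LinearMap.add_apply, LinearMap.sub_apply,
            Module.End.mul_apply, two_smul]
          abel
        have h2' := Submodule.smul_mem X' (2 : ZMod p)⁻¹ (add_mem hpol hρ)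
        rwa [← e, smul_smul, inv_mul_cancel₀ h2, one_smul] at h2'
      · intro x _
        rw [← Module.End.mul_apply, zd2]; exact zero_mem _
      · exact fun x hx => by rw [hzero c zc3 x hx]; exact zero_mem _
      · intro d1 c1 h1 x _
        rw [← Module.End.mul_apply, ← mul_assoc, (hb.products (G.invV_blocks hp h1) G).2.2.2.1, zero_mul]
        exact zero_mem _
      · exact fun x hx => hg2 d c h x hx
    · intro x hx
      obtain ⟨-, -, a3, -⟩ := G.rootSpace_blocks hA'
      rw [hzero A a3 x hx]; exact zero_mem _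
    · intro d1 c1 h1 x _
      obtain ⟨-, -, -, -, a5, -⟩ := G.rootSpace_blocks hA'
      rw [← Module.End.mul_apply, ← (G.invV_blocks hp h1).c1, mul_assoc (mid S T), ← mul_assoc A, a5, zero_mul]
      exact zero_mem _
    · exact fun x hx => hg1 _ (hA A hA' x hx)
    · intro d1 c1 h1 x _
      rw [← Module.End.mul_apply, ← mul_assoc, ((G.invV_blocks hp h1).zero_c G).2.1, zero_mul]
      exact zero_mem _
    · intro x _
      rw [← Module.End.mul_apply, G.hT.sq]; exact zero_mem _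
  have hWX : ∀ m ∈ W, (S * T) m ∈ X' := by
    have : W ≤ X'.comap (S * T) := by
      rw [hW, Submodule.span_le]
      rintro _ ((hx | ⟨d, c, h, x, hx, rfl⟩) | ⟨x, hx, rfl⟩)
      · show (S * T) _ ∈ X'
        rw [hfix _ hx]; exact hx
      · show (S * T) ((c * T) x) ∈ X'
        rw [← Module.End.mul_apply, ← mul_assoc, mul_assoc S, ((G.invV_blocks hp h).zero_c G).2.1, mul_zero,
          zero_mul]
        exact zero_mem _
      · show (S * T) (T x) ∈ X'
        rw [← Module.End.mul_apply, mul_assoc, G.hT.sq, mul_zero]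
        exact zero_mem _
    exact fun m hm => this hm
  obtain ⟨C, hC, hcompl⟩ := hss W hinv
  refine le_antisymm hX ?_
  rintro _ ⟨m, rfl⟩
  obtain ⟨u, hu, v, hv, rfl⟩ := Submodule.mem_sup.1 (hcompl.sup_eq_top.ge (Submodule.mem_top (x := m)))
  have hSv : S v = 0 := by
    by_contra h0
    obtain ⟨y, hyC, hyX, hy0⟩ := hmeet C hC _ (G.invariant_S hC hv).1 ⟨v, rfl⟩ h0
    exact hy0 ((Submodule.disjoint_def.1 hcompl.disjoint) y (hg1 y hyX) hyC)
  rw [map_add, hSv, add_zero]
  have := hWX _ (G.invariant_S hinv hu).1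
  rwa [G.mem_range_iff.1 ⟨u, rfl⟩] at this

/-- A block killed by all of the first blocks is zero. -/
theorem eq_zero_of_d (hp : 5 ≤ p) (hY : Y ≤ comp Y S) (hfix : NoFixed Y) {u : E}
    (hu : ∀ d c, InV Y S T d c → d * u = 0) : mid S T * u = 0 := by
  refine LinearMap.ext fun m => hfix _ (G.fixed_of_killed hp hY (fun d c h => ?_) (fun A hA => ?_) ?_)
  · have hb := G.invV_blocks hp h
    constructor
    · rw [← Module.End.mul_apply, ← mul_assoc, hb.d2, hu d c h]; rfl
    · rw [← Module.End.mul_apply, ← mul_assoc, (hb.zero_c G).2.2.2.1, zero_mul]; rfl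
  · rw [← Module.End.mul_apply, ← mul_assoc, (G.rootSpace_blocks hA).2.2.2.2.1, zero_mul]; rfl
  · rw [← Module.End.mul_apply, ← mul_assoc, G.T_mid, zero_mul]; rfl

/-- A block killing all of the second blocks is zero. -/
theorem eq_zero_of_c (hp : 5 ≤ p) (hY : Y ≤ comp Y S) (hss : Semisimple Y) (hfix : NoFixed Y) {u : E}
    (hu : ∀ d c, InV Y S T d c → u * c = 0) : u * mid S T = 0 := by
  obtain ⟨W, hW⟩ : ∃ W, W = LinearMap.range S ⊔
      Submodule.span (ZMod p) {m | ∃ d c, InV Y S T d c ∧ m ∈ LinearMap.range c} ⊔ LinearMap.range T :=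
    ⟨_, rfl⟩
  have hg1 : ∀ x, S x ∈ W := fun x => hW ▸ Submodule.mem_sup_left (Submodule.mem_sup_left ⟨x, rfl⟩)
  have hg2 : ∀ d c, InV Y S T d c → ∀ x, c x ∈ W := fun d c h x =>
    hW ▸ Submodule.mem_sup_left (Submodule.mem_sup_right (Submodule.subset_span ⟨d, c, h, x, rfl⟩))
  have hg3 : ∀ x, T x ∈ W := fun x => hW ▸ Submodule.mem_sup_right ⟨x, rfl⟩
  have hrange : ∀ {A : E}, S * T * A = A → ∀ x, A x ∈ W := fun {A} hA x => by
    rw [← hA]; exact hg1 _
  have hstep : ∀ (f : E), (∀ x, f (S x) ∈ W) → (∀ d c, InV Y S T d c → ∀ x, f (c x) ∈ W) →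
      (∀ x, f (T x) ∈ W) → ∀ m ∈ W, f m ∈ W := by
    intro f f1 f2 f3
    have : W ≤ W.comap f := by
      nth_rw 1 [hW]
      refine sup_le (sup_le ?_ (Submodule.span_le.2 ?_)) ?_
      · rintro _ ⟨x, rfl⟩; exact f1 x
      · rintro _ ⟨d, c, h, x, rfl⟩; exact f2 d c h x
      · rintro _ ⟨x, rfl⟩; exact f3 x
    exact fun m hm => this hm
  have hinv : Invariant Y W := by
    refine G.invariant_of_ops hp hY (fun d c h m hm => ?_) (fun A hA m _ => ?_) (fun m _ => hg3 m)
    · exact ⟨hrange (G.invV_blocks hp h).d1 m, hg2 d c h m⟩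
    · exact hrange (G.rootSpace_blocks hA).1 m
  obtain ⟨C, hC, hcompl⟩ := hss W hinv
  have hd : ∀ {m}, m ∈ W → m ∈ C → m = 0 := fun {m} h1 h2 =>
    (Submodule.disjoint_def.1 hcompl.disjoint) m h1 h2
  have hCfix : ∀ v ∈ C, v = 0 := by
    intro v hv
    obtain ⟨hS, hT, -⟩ := G.invariant_S hC hv
    refine hfix v (G.fixed_of_killed hp hY (fun d c h => ?_) (fun A hA => ?_) (hd (hg3 _) hT))
    · obtain ⟨hd', hc'⟩ := G.invariant_invV hC h hv
      exact ⟨hd (hrange (G.invV_blocks hp h).d1 v) hd', hd (hg2 d c h v) hc'⟩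
    · exact hd (hrange (G.rootSpace_blocks hA).1 v) (G.invariant_space hC hA hv)
  have hspan : ∀ m ∈ W, u (mid S T m) = 0 := by
    have : W ≤ LinearMap.ker (u * mid S T) := by
      rw [hW]
      refine sup_le (sup_le ?_ (Submodule.span_le.2 ?_)) ?_
      · rintro _ ⟨x, rfl⟩
        rw [LinearMap.mem_ker, ← Module.End.mul_apply, mul_assoc, G.mid_S, mul_zero]; rfl
      · rintro _ ⟨d, c, h, x, rfl⟩
        show (u * mid S T) (c x) = 0
        rw [← Module.End.mul_apply, mul_assoc, (G.invV_blocks hp h).c1, hu d c h]; rfl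
      · rintro _ ⟨x, rfl⟩
        rw [LinearMap.mem_ker, ← Module.End.mul_apply, mul_assoc, G.mid_T, mul_zero]; rfl
    exact fun m hm => this hm
  refine LinearMap.ext fun m => ?_
  obtain ⟨a, ha, b, hb, rfl⟩ := Submodule.mem_sup.1 (hcompl.sup_eq_top.ge (Submodule.mem_top (x := m)))
  rw [hCfix b hb, add_zero]
  exact hspan a ha

end Gr

end CfsgLib.QuadEqui
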