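import Cfsg.Agent.QuadEqui.Invariant
import Cfsg.Agent.QuadPairs.Decompose

/-!
A root of a semisimple group splits along a component.
-/

set_option autoImplicit false
set_option linter.unusedSectionVars false
set_option linter.deprecated false
set_option linter.style.haveILetI false
set_option linter.unusedSimpArgs false

universe v

namespace CfsgLib.QuadEqui

open Cfsg CfsgLib.QP CfsgLib.QuadFix

variable {p : ℕ} [Fact p.Prime] {M : Type v} [AddCommGroup M] [Module (ZMod p) M] [FiniteDimensional (ZMod p) M]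

local notation "GL" => LinearMap.GeneralLinearGroup (ZMod p) M
local notation "E" => Module.End (ZMod p) M

variable {Y L : Subgroup (LinearMap.GeneralLinearGroup (ZMod p) M)} {S N : Module.End (ZMod p) M}

/-- The elements acting trivially on `[M, L]`. -/
def trivOn (L : Subgroup GL) : Subgroup GL where
  carrier := {g | ∀ a ∈ L, ((g : E) - 1) * ((a : E) - 1) = 0}
  one_mem' := fun a _ => by simp
  mul_mem' := fun {g h} hg hh a ha => by
    rw [Units.val_mul, show (g : E) * (h : E) - 1 = (g : E) * ((h : E) - 1) + ((g : E) - 1) by noncomm_ring,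
      add_mul, mul_assoc, hh a ha, hg a ha, mul_zero, add_zero]
  inv_mem' := fun {g} hg a ha => by
    rw [show ((g⁻¹ : GL) : E) - 1 = -(((g⁻¹ : GL) : E) * ((g : E) - 1)) by
      rw [mul_sub, mul_one, Units.inv_mul, neg_sub], neg_mul, mul_assoc, hg a ha, mul_zero, neg_zero]

theorem mem_trivOn {g : GL} : g ∈ trivOn L ↔ ∀ a ∈ L, ((g : E) - 1) * ((a : E) - 1) = 0 := Iff.rfl

theorem conj_mem_trivOn {g n : GL} (hg : g ∈ trivOn L) (hn : conjBy L n = L) : n * g * n⁻¹ ∈ trivOn L := by
  intro a ha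
  rw [← hn] at ha
  obtain ⟨b, hb, rfl⟩ := ha
  show ((((n * g * n⁻¹ : GL)) : E) - 1) * (((n * b * n⁻¹ : GL) : E) - 1) = 0
  rw [conjEnd_one_sub, conjEnd_one_sub, conjEnd_mul, hg b hb, conjEnd_zero]

/-- An endomorphism killing `[M, L]` and the fixed vectors is zero. -/
theorem eq_zero_of_kills (hn : ∀ g ∈ Y, conjBy L g = L) (hLY : L ≤ Y) (hss : Semisimple Y) {u : E}
    (h1 : ∀ a ∈ L, u * ((a : E) - 1) = 0) (h2 : ∀ m, (∀ a ∈ L, (a : E) m = m) → u m = 0) : u = 0 := by
  obtain ⟨W, hW⟩ : ∃ W : Submodule (ZMod p) M, W = ⨆ a ∈ L, LinearMap.range ((a : E) - 1) := ⟨_, rfl⟩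
  have hrange : ∀ a ∈ L, ∀ m, ((a : E) - 1) m ∈ W := fun a ha m =>
    hW ▸ Submodule.mem_iSup_of_mem a (Submodule.mem_iSup_of_mem ha ⟨m, rfl⟩)
  have hinv : Invariant Y W := by
    intro g hg
    have hle : W ≤ W.comap (g : E) := by
      nth_rw 1 [hW]
      refine iSup₂_le fun a ha => ?_
      rintro _ ⟨m, rfl⟩
      show (g : E) (((a : E) - 1) m) ∈ W
      rw [← conjEnd_apply g ((a : E) - 1) m, ← conjEnd_one_sub]
      refine hrange _ ?_ _
      rw [← hn g hg]
      exact CfsgLib.RankOne.conj_mem_conjBy ha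
    exact fun m hm => hle hm
  obtain ⟨C, hC, hcompl⟩ := hss W hinv
  refine LinearMap.ext fun m => ?_
  obtain ⟨w, hw, c, hc, rfl⟩ := Submodule.mem_sup.1 (hcompl.sup_eq_top.ge (Submodule.mem_top (x := m)))
  have hkill : W ≤ LinearMap.ker u := by
    rw [hW]
    refine iSup₂_le fun a ha => ?_
    rintro _ ⟨m, rfl⟩
    exact LinearMap.congr_fun (h1 a ha) m
  rw [map_add, LinearMap.mem_ker.1 (hkill hw), h2 c fun a ha => ?_, add_zero]
  · rfl
  · exact sub_eq_zero.1 ((Submodule.disjoint_def.1 hcompl.disjoint) (((a : E) - 1) c) (hrange a ha c)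
      (sub_mem (hC a (hLY ha) c hc) hc))

/-- A vector of `[M, L]` fixed by `L` is zero. -/
theorem range_fixed_eq_zero (hn : ∀ g ∈ Y, conjBy L g = L) (hLY : L ≤ Y) (hss : Semisimple Y) {m : M}
    (hm : m ∈ ⨆ a ∈ L, LinearMap.range ((a : E) - 1)) (hfix : ∀ a ∈ L, (a : E) m = m) : m = 0 := by
  obtain ⟨W, hW⟩ : ∃ W : Submodule (ZMod p) M, W = (⨆ a ∈ L, LinearMap.range ((a : E) - 1)) ⊓
      fixedSubmodule L := ⟨_, rfl⟩
  have hmem : ∀ {v}, v ∈ fixedSubmodule L ↔ ∀ a ∈ L, (a : E) v = v := by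
    intro v; simp [fixedSubmodule, Submodule.mem_iInf, sub_eq_zero]
  have hinv : Invariant Y W := by
    intro g hg v hv
    rw [hW] at hv ⊢
    refine ⟨?_, hmem.2 fun a ha => ?_⟩
    · have hle : (⨆ a ∈ L, LinearMap.range ((a : E) - 1)) ≤
          (⨆ a ∈ L, LinearMap.range ((a : E) - 1)).comap (g : E) := by
        refine iSup₂_le fun a ha => ?_
        rintro _ ⟨w, rfl⟩
        show (g : E) (((a : E) - 1) w) ∈ ⨆ a ∈ L, LinearMap.range ((a : E) - 1)
        rw [← conjEnd_apply g ((a : E) - 1) w, ← conjEnd_one_sub]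
        refine Submodule.mem_iSup_of_mem _ (Submodule.mem_iSup_of_mem ?_ ⟨_, rfl⟩)
        rw [← hn g hg]
        exact CfsgLib.RankOne.conj_mem_conjBy ha
      exact hle hv.1
    · rw [← hn g hg] at ha
      obtain ⟨b, hb, rfl⟩ := ha
      show ((g * b * g⁻¹ : GL) : E) ((g : E) v) = (g : E) v
      rw [← Module.End.mul_apply, ← Units.val_mul, inv_mul_cancel_right, Units.val_mul, Module.End.mul_apply,
        hmem.1 hv.2 b hb]
  obtain ⟨C, hC, hcompl⟩ := hss W hinv
  have hle : (⨆ a ∈ L, LinearMap.range ((a : E) - 1)) ≤ C := by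
    refine iSup₂_le fun a ha => ?_
    rintro _ ⟨v, rfl⟩
    obtain ⟨w, hw, c, hc, rfl⟩ := Submodule.mem_sup.1 (hcompl.sup_eq_top.ge (Submodule.mem_top (x := v)))
    rw [hW] at hw
    have hw0 : ((a : E) - 1) w = 0 := by
      rw [LinearMap.sub_apply, hmem.1 hw.2 a ha, Module.End.one_apply, sub_self]
    rw [map_add, hw0, zero_add]
    exact sub_mem (hC a (hLY ha) c hc) hc
  exact (Submodule.disjoint_def.1 hcompl.disjoint) m (hW ▸ ⟨hm, hmem.2 hfix⟩) (hle hm)

/-- A subgroup normal in a component and not central in it is the component. -/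
theorem comp_le_of_normal (hp : 5 ≤ p) (hS : IsMinRoot Y S) (hrad : RadFree Y)
    (hn : ∀ g ∈ Y, conjBy (comp Y S) g = comp Y S) {K : Subgroup GL} (hK : K ≤ comp Y S)
    (hKn : ∀ x ∈ comp Y S, conjBy K x = K) {k₀ : GL} (hk₀ : k₀ ∈ K)
    (hnc : ∃ x ∈ comp Y S, k₀ * x ≠ x * k₀) : comp Y S ≤ K := by
  obtain ⟨h2, -, h3⟩ := two_three (p := p) hp
  have hopp := hrad.hasOpposites h2 h3
  have hKr : RadFree K := (hrad.of_normal comp_le hn).of_normal hK hKn
  have hKH : ∀ g ∈ K, conjBy Y g = Y := fun g hg => CfsgLib.RankOne.conjBy_of_mem (comp_le (hK hg))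
  by_cases hcon : ∃ υ : GL, IsMinRoot Y ((υ : E) - 1) ∧ Conn Y S ((υ : E) - 1) ∧ sameActionSubgroup Y υ ≤ K
  · obtain ⟨υ, hυ, hc, hle⟩ := hcon
    refine iSup₂_le fun A hA => ?_
    obtain ⟨τ, hτ, hcτ, rfl⟩ := hA
    obtain ⟨x, hx, e⟩ := conn_conjugate (fun h => h.isMinRoot hυ) h2 h3 rfl ((hc.symm h2 h3).trans hcτ)
    rw [← comp_congr hc h2 h3] at hx
    exact e ▸ hKn x hx ▸ Subgroup.map_mono hle
  · exfalso
    push Not at hcon
    obtain ⟨x, hx, hne⟩ := hnc
    apply hne
    have hle : comp Y S ≤ Subgroup.centralizer {k₀} := iSup₂_le fun A hA => by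
      obtain ⟨τ, hτ, hcτ, rfl⟩ := hA
      intro a ha
      rw [Subgroup.mem_centralizer_singleton_iff]
      rcases centralizes_or_contains hτ hopp h2 h3 hKr hKH
        (fun x hx => hKn x (by rw [comp_congr hcτ h2 h3]; exact hx)) with h | ⟨υ, hυ, hc', hle⟩
      · exact (h a ha k₀ hk₀).symm
      · exact absurd hle (hcon υ hυ (hcτ.trans hc'))
    exact (Subgroup.mem_centralizer_singleton_iff.1 (hle hx)).symm

/-- A root element centralises a component or splits along it. -/
theorem root_split (hp : 5 ≤ p) (hS : IsMinRoot Y S) (hrad : RadFree Y) (hss : Semisimple Y)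
    (hlevel : ∀ S, IsMinRoot Y S → ∀ g ∈ Y, conjBy (comp Y S) g = comp Y S) (hN : IsRoot Y N) :
    fam hN.sq (1 : ZMod p) ∈ Subgroup.centralizer (comp Y S : Set GL) ∨
      ∃ l ∈ comp Y S, l⁻¹ * fam hN.sq (1 : ZMod p) ∈
        Subgroup.centralizer (comp Y S : Set GL) ⊓ trivOn (comp Y S) := by
  obtain ⟨h2, -, h3⟩ := two_three (p := p) hp
  have hopp := hrad.hasOpposites h2 h3
  have hn := hlevel S hS
  induction hr : rk N using Nat.strong_induction_on generalizing N with
  | _ n ih =>
    subst hr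
    by_cases hs : Sandwiched Y N
    · refine Or.inl (Subgroup.mem_centralizer_iff.2 fun x hx => Units.ext ?_)
      have hc : RootCentral Y N := fun S hS => hs.commute_root hN hrad h2 h3 hS
      have h := hc.commute_sigma ((biSup_mono fun A hA => part_subset hA : comp Y S ≤ _) hx)
      rw [Units.val_mul, Units.val_mul, fam_val, one_smul, mul_add, add_mul, mul_one, one_mul, h.eq]
    simp only [Sandwiched, not_forall] at hs
    obtain ⟨W, hW, hne⟩ := hs
    obtain ⟨N₁, hN₁, hab, -, hsq, hfam, hlt⟩ := exists_split hN hW h2 h3 hne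
    have hsum : N₁ + (N - N₁) = N := add_sub_cancel N₁ N
    have e : fam hN.sq (1 : ZMod p) = fam hN₁.sq (1 : ZMod p) * fam hsq (1 : ZMod p) := by
      rw [← fam_add hN₁.sq hsq hab (by rw [hsum]; exact hN.sq)]
      exact Units.ext (by rw [fam_val, fam_val, hsum])
    have hN₁mem : fam hN₁.sq (1 : ZMod p) ∈ comp Y N₁ :=
      mem_comp_of_conn hN₁ Relation.ReflTransGen.refl (fam_val _ _)
    -- the rest
    have hrest : fam hsq (1 : ZMod p) ∈ Subgroup.centralizer (comp Y S : Set GL) ∨
        ∃ l ∈ comp Y S, l⁻¹ * fam hsq (1 : ZMod p) ∈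
          Subgroup.centralizer (comp Y S : Set GL) ⊓ trivOn (comp Y S) := by
      by_cases h0 : N - N₁ = 0
      · left
        rw [show fam hsq (1 : ZMod p) = (1 : GL) from Units.ext (by
          rw [fam_val, h0, smul_zero, add_zero, Units.val_one])]
        exact one_mem _
      · exact ih _ hlt ⟨hsq, h0, hfam⟩ rfl
    rw [e]
    have hR : ((fam hsq (1 : ZMod p) : GL) : E) - 1 = N - N₁ := by rw [fam_val, one_smul, add_sub_cancel_left]
    by_cases hconn : Conn Y S N₁
    · have hlN : fam hN₁.sq (1 : ZMod p) ∈ comp Y S := mem_comp_of_conn hN₁ hconn (fam_val _ _)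
      right
      rcases hrest with hc | ⟨l, hl, hlg⟩
      · refine ⟨_, hlN, ?_⟩
        rw [inv_mul_cancel_left]
        refine ⟨hc, fun a ha => ?_⟩
        rw [hR]
        have hcomm : ∀ b ∈ comp Y N₁, Commute (b : E) (N - N₁) := fun b hb => by
          rw [← comp_congr hconn h2 h3] at hb
          have h := congrArg (fun u : GL => (u : E)) (Subgroup.mem_centralizer_iff.1 hc b hb)
          simp only [Units.val_mul, fam_val, one_smul, mul_add, add_mul, mul_one, one_mul] at h
          exact add_left_cancel h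
        -- the component kills the image
        let K : Subgroup GL :=
          { carrier := {b | ((b : E) - 1) * (N - N₁) = 0}
            one_mem' := by simp
            mul_mem' := fun {b b'} (hb : ((b : E) - 1) * (N - N₁) = 0) (hb' : ((b' : E) - 1) * (N - N₁) = 0) => by
              show (((b * b' : GL) : E) - 1) * (N - N₁) = 0
              rw [Units.val_mul, show (b : E) * (b' : E) - 1 = (b : E) * ((b' : E) - 1) + ((b : E) - 1) by
                noncomm_ring, add_mul, mul_assoc, hb', hb, mul_zero, add_zero]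
            inv_mem' := fun {b} (hb : ((b : E) - 1) * (N - N₁) = 0) => by
              show (((b⁻¹ : GL) : E) - 1) * (N - N₁) = 0
              rw [show ((b⁻¹ : GL) : E) - 1 = -(((b⁻¹ : GL) : E) * ((b : E) - 1)) by
                rw [mul_sub, mul_one, Units.inv_mul, neg_sub], neg_mul, mul_assoc, hb, mul_zero, neg_zero] }
        have hK : comp Y N₁ ≤ K := by
          obtain ⟨σ, -, hσe⟩ := hN₁.toIsRoot.exists_elem
          have hσm : IsMinRoot Y ((σ : E) - 1) := hσe.symm ▸ hN₁
          refine iSup₂_le fun B hB => ?_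
          obtain ⟨τ, hτ, hcτ, rfl⟩ := hB
          obtain ⟨z, hz, ez⟩ := conn_conjugate (τ := τ) (fun h => h.isMinRoot hσm) h2 h3 rfl
            (show Conn Y ((σ : E) - 1) _ by rw [hσe]; exact hcτ)
          rw [hσe] at hz
          rw [ez]
          rintro _ ⟨b, hb, rfl⟩
          show (((z * b * z⁻¹ : GL) : E) - 1) * (N - N₁) = 0
          rw [conjEnd_one_sub, conjEnd, mul_assoc, (hcomm _ (inv_mem hz)).eq, ← mul_assoc, mul_assoc (z : E),
            (mul_eq_zero_of_root hσm ((mem_sameActionSubgroup hσm).1 hb)).2 (by rw [hσe]; exact hab), mul_zero,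
            zero_mul]
        have ha' : a ∈ comp Y N₁ := by rw [← comp_congr hconn h2 h3]; exact ha
        have h : ((a : E) - 1) * (N - N₁) = 0 := hK ha'
        exact ((hcomm a ha').sub_left (Commute.one_left _)).eq.symm.trans h
      · refine ⟨fam hN₁.sq (1 : ZMod p) * l, mul_mem hlN hl, ?_⟩
        rwa [mul_inv_rev, mul_assoc, inv_mul_cancel_left]
    · have hN₁c : fam hN₁.sq (1 : ZMod p) ∈ Subgroup.centralizer (comp Y S : Set GL) :=
        Subgroup.mem_centralizer_iff.2 fun x hx => commute_of_not_conn hopp h2 h3 hconn x hx _ hN₁mem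
      rcases hrest with hc | ⟨l, hl, hlg⟩
      · exact Or.inl (mul_mem hN₁c hc)
      by_cases hcl : l ∈ Subgroup.centralizer (comp Y S : Set GL)
      · left
        refine mul_mem hN₁c ?_
        rw [show fam hsq (1 : ZMod p) = l * (l⁻¹ * fam hsq (1 : ZMod p)) by rw [mul_inv_cancel_left]]
        exact mul_mem hcl hlg.1
      right
      refine ⟨l, hl, ?_⟩
      have hlc : l * fam hN₁.sq (1 : ZMod p) = fam hN₁.sq (1 : ZMod p) * l :=
        Subgroup.mem_centralizer_iff.1 hN₁c l hl
      rw [show l⁻¹ * (fam hN₁.sq (1 : ZMod p) * fam hsq (1 : ZMod p)) =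
        fam hN₁.sq (1 : ZMod p) * (l⁻¹ * fam hsq (1 : ZMod p)) by
          rw [← mul_assoc, ← mul_assoc, (show Commute l (fam hN₁.sq (1 : ZMod p)) from hlc).inv_left.eq]]
      refine mul_mem ⟨hN₁c, ?_⟩ hlg
      have hN₁comm : ∀ a ∈ comp Y S, Commute (a : E) N₁ := fun a ha => by
        have h := congrArg (fun u : GL => (u : E)) (Subgroup.mem_centralizer_iff.1 hN₁c a ha)
        simp only [Units.val_mul, fam_val, one_smul, mul_add, add_mul, mul_one, one_mul] at h
        exact add_left_cancel h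
      obtain ⟨g', hg'⟩ : ∃ g', g' = l⁻¹ * fam hsq (1 : ZMod p) := ⟨_, rfl⟩
      rw [← hg'] at hlg
      have hRe : N - N₁ = (l : E) * ((g' : E) - 1) + ((l : E) - 1) := by
        rw [← hR, hg', Units.val_mul, mul_sub, mul_one, ← mul_assoc, Units.mul_inv, one_mul]; abel
      have hkey : N₁ * ((l : E) - 1) = 0 := by
        refine eq_zero_of_kills hn comp_le hss (fun a ha => ?_) fun m hm => ?_
        · have h := congrArg (· * ((a : E) - 1)) hab
          simp only [zero_mul, hRe, mul_add, add_mul, mul_assoc, hlg.2 a ha, mul_zero, zero_add] at h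
          rw [mul_assoc]
          exact h
        · rw [Module.End.mul_apply, LinearMap.sub_apply, hm l hl, Module.End.one_apply, sub_self, map_zero]
      let K : Subgroup GL :=
        { carrier := {b | b ∈ comp Y S ∧ N₁ * ((b : E) - 1) = 0}
          one_mem' := ⟨one_mem _, by simp⟩
          mul_mem' := fun {b b'} hb hb' => ⟨mul_mem hb.1 hb'.1, by
            rw [Units.val_mul, show (b : E) * (b' : E) - 1 = ((b : E) - 1) * (b' : E) + ((b' : E) - 1) by
              noncomm_ring, mul_add, ← mul_assoc, hb.2, hb'.2, zero_mul, add_zero]⟩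
          inv_mem' := fun {b} hb => ⟨inv_mem hb.1, by
            rw [show ((b⁻¹ : GL) : E) - 1 = -(((b : E) - 1) * ((b⁻¹ : GL) : E)) by
              rw [sub_mul, one_mul, Units.mul_inv, neg_sub], mul_neg, ← mul_assoc, hb.2, zero_mul, neg_zero]⟩ }
      have hKall : comp Y S ≤ K := by
        refine comp_le_of_normal hp hS hrad hn (fun b hb => hb.1) (fun z hz => ?_) (show l ∈ K from ⟨hl, hkey⟩) ?_
        · refine CfsgLib.RankOne.conjBy_eq_self_iff.2 (Subgroup.mem_normalizer_iff.2 fun b => ?_)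
          have hfwd : ∀ z ∈ comp Y S, ∀ b ∈ K, z * b * z⁻¹ ∈ K := fun z hz b hb => by
            refine ⟨mul_mem (mul_mem hz hb.1) (inv_mem hz), ?_⟩
            rw [conjEnd_one_sub, conjEnd, ← mul_assoc, ← mul_assoc, ← (hN₁comm z hz).eq, mul_assoc (z : E) N₁,
              hb.2, mul_zero, zero_mul]
          refine ⟨hfwd z hz b, fun h => ?_⟩
          have := hfwd _ (inv_mem hz) _ h
          simpa [mul_assoc] using this
        · simp only [Subgroup.mem_centralizer_iff, not_forall] at hcl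
          obtain ⟨z, hz, hne⟩ := hcl
          exact ⟨z, hz, fun e => hne e.symm⟩
      intro a ha
      rw [fam_val, one_smul, add_sub_cancel_left]
      exact (hKall ha).2

end CfsgLib.QuadEqui
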