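import Cfsg.Agent.QuadEqui.Regular

/-!
An element of the chain group whose transform of the opposite root is again opposite gives an element
preserving both roots, with known blocks.
-/

set_option autoImplicit false
set_option linter.unusedSectionVars false
set_option linter.deprecated false
set_option linter.style.haveILetI false
set_option linter.unusedSimpArgs false

universe v

namespace CfsgLib.QuadEqui

open Cfsg CfsgLib.QP CfsgLib.QuadFix

variable {p : ℕ} [Fact p.Prime] {M : Type v} [AddCommGroup M] [Module (ZMod p) M] [FiniteDimensional (ZMod p) M]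

local notation "GL" => LinearMap.GeneralLinearGroup (ZMod p) M
local notation "E" => Module.End (ZMod p) M

variable {Y : Subgroup (LinearMap.GeneralLinearGroup (ZMod p) M)} {S T : Module.End (ZMod p) M}

/-- The corner of the range of `S`. -/
def Cor (S T a : E) : Prop := S * T * a = a ∧ a * (S * T) = a

namespace Gr

variable (G : Gr Y S T)
include G

theorem cor_add {a b : E} (ha : Cor S T a) (hb : Cor S T b) : Cor S T (a + b) :=
  ⟨by rw [mul_add, ha.1, hb.1], by rw [add_mul, ha.2, hb.2]⟩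

theorem cor_neg {a : E} (ha : Cor S T a) : Cor S T (-a) := ⟨by rw [mul_neg, ha.1], by rw [neg_mul, ha.2]⟩

theorem cor_sub {a b : E} (ha : Cor S T a) (hb : Cor S T b) : Cor S T (a - b) := by
  rw [sub_eq_add_neg]; exact G.cor_add ha (G.cor_neg hb)

theorem cor_smul {a : E} (ha : Cor S T a) (r : ZMod p) : Cor S T (r • a) :=
  ⟨by rw [mul_smul_comm, ha.1], by rw [smul_mul_assoc, ha.2]⟩

theorem cor_mul {a b : E} (ha : Cor S T a) (hb : Cor S T b) : Cor S T (a * b) :=
  ⟨by rw [← mul_assoc, ha.1], by rw [mul_assoc, hb.2]⟩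

theorem cor_space {A : E} (hA : A ∈ rootSpace Y G.hS.sq) : Cor S T (A * T) := by
  obtain ⟨h1, -⟩ := G.rootSpace_blocks hA
  exact ⟨by rw [← mul_assoc, h1], by rw [mul_assoc, G.TST]⟩

theorem cor_quad {d c e d' c' e' : E} (hb : IsBlocks S T d c e) (hb' : IsBlocks S T d' c' e') :
    Cor S T (d * c' * T) :=
  ⟨by rw [← mul_assoc, ← mul_assoc, hb.d1], by rw [mul_assoc, G.TST]⟩

theorem cor_inv_of_injective {a : E} (ha : Cor S T a) (hinj : ∀ x, (S * T) x = x → a x = 0 → x = 0) :
    ∃ b, Cor S T b ∧ a * b = S * T ∧ b * a = S * T := by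
  have hP : S * T * (S * T) = S * T := by rw [mul_assoc, G.TST]
  obtain ⟨u, hu⟩ : ∃ u, u = a + (1 - S * T) := ⟨_, rfl⟩
  have hPu : S * T * u = a := by rw [hu, mul_add, ha.1, mul_sub, mul_one, hP, sub_self, add_zero]
  have huP : u * (S * T) = a := by rw [hu, add_mul, ha.2, sub_mul, one_mul, hP, sub_self, add_zero]
  have hunit : IsUnit u := by
    rw [Module.End.isUnit_iff]
    have hi : Function.Injective u := by
      rw [← LinearMap.ker_eq_bot, Submodule.eq_bot_iff]
      intro x hx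
      rw [LinearMap.mem_ker] at hx
      have h1 : a x = 0 := by rw [← hPu, Module.End.mul_apply, hx, map_zero]
      rw [hu, LinearMap.add_apply, h1, zero_add, LinearMap.sub_apply, Module.End.one_apply, sub_eq_zero] at hx
      exact hinj x hx.symm h1
    exact ⟨hi, LinearMap.surjective_of_injective hi⟩
  obtain ⟨v, rfl⟩ := hunit
  refine ⟨S * T * (↑v⁻¹ : E) * (S * T), ⟨by rw [← mul_assoc, ← mul_assoc (S * T) (S * T), hP],
    by rw [mul_assoc, hP]⟩, ?_, ?_⟩
  · rw [← mul_assoc, ← mul_assoc a (S * T), ha.2, ← hPu, mul_assoc (S * T) (v : E), Units.mul_inv, mul_one, hP]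
  · rw [mul_assoc, ha.1, ← huP, mul_assoc (S * T), ← mul_assoc (↑v⁻¹ : E), Units.inv_mul, one_mul, hP]

theorem cor_inv_comm {a b : E} (ha : Cor S T a) (hb : Cor S T b) (h : a * b = S * T) : b * a = S * T := by
  have hP : S * T * (S * T) = S * T := by rw [mul_assoc, G.TST]
  obtain ⟨b', hb', h1, h2⟩ := G.cor_inv_of_injective hb fun x hx hbx => by
    rw [← hx, ← h, Module.End.mul_apply, hbx, map_zero]
  have e : b' = a := by
    rw [← hb'.1, ← h, mul_assoc, h1, ha.2]
  rw [← e, h1]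

/-- The conjugates of the root endomorphisms by the Weyl element. -/
theorem conj_weylElem {w : GL} (hw : (w : E) = mid S T + S - T) : conjEnd w S = -T ∧ conjEnd w T = -S := by
  constructor <;>
  · refine conjEnd_eq_of_mul ?_
    rw [hw]
    simp only [sub_mul, add_mul, mul_sub, mul_add, neg_mul, G.mid_S, G.mid_T, G.S_mid, G.SS, G.T_mid, G.TT]
    abel

theorem weylElem_inv {w : GL} (hw : (w : E) = mid S T + S - T) :
    ((w⁻¹ : GL) : E) = mid S T - S + T := by
  refine Units.inv_eq_of_mul_eq_one_right ?_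
  rw [hw]
  simp only [sub_mul, add_mul, mul_sub, mul_add, G.mid_mid, G.mid_S, G.mid_T, G.S_mid, G.SS, G.T_mid, G.TT]
  rw [← G.one_eq]
  abel

/-- An element of the chain group commutes with the root space. -/
theorem chain_commute_space {q : GL} (hq : q ∈ chain Y G.hS.sq) {A : E} (hA : A ∈ rootSpace Y G.hS.sq) :
    conjEnd q A = A := by
  obtain ⟨h1, h2, -⟩ := G.blocks_of_chain hq
  obtain ⟨a1, a2, -⟩ := G.rootSpace_blocks hA
  refine conjEnd_eq_of_mul ?_
  conv_lhs => rw [← a1, ← mul_assoc, h1, a1]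
  conv_rhs => rw [← a2, mul_assoc, h2, a2]

/-- The balanced inverse. -/
theorem inv_val (h2 : (2 : ZMod p) ≠ 0) {q : GL} {d c : E} {A : E}
    (hb : IsBlocks S T d c ((2 : ZMod p)⁻¹ • (d * c) + A))
    (hq : (q : E) = 1 + d + c + ((2 : ZMod p)⁻¹ • (d * c) + A)) :
    IsBlocks S T (-d) (-c) ((2 : ZMod p)⁻¹ • (d * c) - A) ∧
      ((q⁻¹ : GL) : E) = 1 + -d + -c + ((2 : ZMod p)⁻¹ • (d * c) - A) := by
  have hb' : IsBlocks S T (-d) (-c) (-((2 : ZMod p)⁻¹ • (d * c) + A) + d * c) :=
    ⟨by rw [mul_neg, hb.d1], by rw [neg_mul, hb.d2], by rw [mul_neg, hb.c1], by rw [neg_mul, hb.c2],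
      by rw [mul_add, mul_neg, hb.e1, ← mul_assoc, hb.d1], by rw [add_mul, neg_mul, hb.e2, mul_assoc, hb.c2]⟩
  have e : -((2 : ZMod p)⁻¹ • (d * c) + A) + d * c = (2 : ZMod p)⁻¹ • (d * c) - A := by
    have : (2 : ZMod p) • (2 : ZMod p)⁻¹ • (d * c) = d * c := by rw [smul_smul, mul_inv_cancel₀ h2, one_smul]
    rw [two_smul] at this
    nth_rw 2 [← this]
    abel
  rw [← e]
  refine ⟨hb', Units.inv_eq_of_mul_eq_one_right ?_⟩
  rw [hq, hb.mul_val hb' G, add_neg_cancel, add_neg_cancel, add_zero, add_zero, mul_neg]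
  abel

/-- The Levi element of a chain element. -/
theorem exists_levi (hp : 5 ≤ p) {d c : E} (h : InV Y S T d c) {A : E} (hA : A ∈ rootSpace Y G.hS.sq)
    {e e' : E} (he : e = (2 : ZMod p)⁻¹ • (d * c * T) + A * T)
    (he' : e' = (2 : ZMod p)⁻¹ • (d * c * T) - A * T) (hne : e * e' ≠ 0) :
    ∃ ei fi, Cor S T ei ∧ Cor S T fi ∧ e * ei = S * T ∧ ei * e = S * T ∧ e' * fi = S * T ∧ fi * e' = S * T ∧
      InV Y S T (-(fi * d)) (c * T * ei * S) ∧
      ∃ n ∈ Y, Stab S n ∧ Stab T n ∧ (n : E) = -e + (mid S T - c * T * ei * d) + T * fi * S := by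
  obtain ⟨h2, -, h3⟩ := two_three (p := p) hp
  obtain ⟨q, hqY, hb, hq⟩ := G.exists_elem h2 h hA
  obtain ⟨hb', hqi⟩ := G.inv_val h2 hb hq
  obtain ⟨Ev, hEv⟩ : ∃ Ev, Ev = (2 : ZMod p)⁻¹ • (d * c) + A := ⟨_, rfl⟩
  obtain ⟨Fv, hFv⟩ : ∃ Fv, Fv = (2 : ZMod p)⁻¹ • (d * c) - A := ⟨_, rfl⟩
  rw [← hEv] at hb hq
  rw [← hFv] at hb' hqi
  have heT : Ev * T = e := by rw [hEv, he, add_mul, smul_mul_assoc]
  have heT' : Fv * T = e' := by rw [hFv, he', sub_mul, smul_mul_assoc]
  have hFe : Fv = e' * S := by rw [← heT', mul_assoc, hb'.e2]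
  have hce : Cor S T e := by rw [← heT]; exact ⟨by rw [← mul_assoc, hb.e1], by rw [mul_assoc, G.TST]⟩
  have hce' : Cor S T e' := by rw [← heT']; exact ⟨by rw [← mul_assoc, hb'.e1], by rw [mul_assoc, G.TST]⟩
  obtain ⟨zd1, zd2, zd3, zd4, zd5⟩ := hb.zero_d G
  obtain ⟨zc1, zc2, zc3, zc4, zc5⟩ := hb.zero_c G
  obtain ⟨ze1, ze2, ze3, ze4, ze5, ze6⟩ := hb.zero_e G
  have hP : S * T * (S * T) = S * T := by rw [mul_assoc, G.TST]
  -- the transform of the opposite root
  have hT'm : IsMinRoot Y (conjEnd q T) := G.hT.conj hqY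
  have hqT : (q : E) * T = T + c * T + e := by
    rw [hq, add_mul, add_mul, add_mul, one_mul, zd2, add_zero, heT]
  have hTq : T * ((q⁻¹ : GL) : E) = T - T * d + T * e' * S := by
    rw [hqi, mul_add, mul_add, mul_add, mul_one, mul_neg, mul_neg, zc2, neg_zero, add_zero, mul_assoc T e' S,
      ← hFe, sub_eq_add_neg]
  have hTTT : T * conjEnd q T * T = T * e * e' := by
    have e1 : T * (q : E) * T = T * e := by
      rw [mul_assoc, hqT, mul_add, mul_add, G.TT, ← mul_assoc T c, zc2, zero_mul, zero_add, zero_add]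
    have e2 : T * ((q⁻¹ : GL) : E) * T = T * e' := by
      rw [hTq]
      simp only [sub_mul, add_mul, mul_assoc, G.TT, zd2, mul_zero, sub_zero, zero_add]
      rw [hce'.2]
    calc T * conjEnd q T * T = T * (q : E) * T * ((q⁻¹ : GL) : E) * T := by
          simp only [conjEnd, mul_assoc]
      _ = T * e * ((q⁻¹ : GL) : E) * T := by rw [e1]
      _ = T * e * (S * (T * ((q⁻¹ : GL) : E) * T)) := by
          conv_lhs => rw [← hce.2]
          simp only [mul_assoc]
      _ = T * e * e' := by rw [e2, ← mul_assoc S, hce'.1]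
  have hopp : T * conjEnd q T * T ≠ 0 := by
    rw [hTTT]
    intro e0
    apply hne
    rw [← hce.1, mul_assoc (S * T), mul_assoc S T, ← mul_assoc T, e0, mul_zero]
  have hker : LinearMap.ker (T * e * e') = LinearMap.ker T := by
    rw [← hTTT]
    exact ((G.hT.of_mem_rootSpace (sandwich_mem G.hT h2 h3 hT'm.sq hT'm.fam) hopp).2).1
  obtain ⟨kk, hkk, hkk1, hkk2⟩ := G.cor_inv_of_injective (G.cor_mul hce hce') fun x hx hx0 => by
    have h1 : T x = 0 := by
      rw [← LinearMap.mem_ker, ← hker, LinearMap.mem_ker, mul_assoc, Module.End.mul_apply, hx0, map_zero]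
    rw [← hx, Module.End.mul_apply, h1, map_zero]
  obtain ⟨ei, hei⟩ : ∃ ei, ei = e' * kk := ⟨_, rfl⟩
  obtain ⟨fi, hfi⟩ : ∃ fi, fi = kk * e := ⟨_, rfl⟩
  have hcei : Cor S T ei := hei ▸ G.cor_mul hce' hkk
  have hcfi : Cor S T fi := hfi ▸ G.cor_mul hkk hce
  have hee : e * ei = S * T := by rw [hei, ← mul_assoc, hkk1]
  have hie : ei * e = S * T := G.cor_inv_comm hce hcei hee
  have hfe : fi * e' = S * T := by rw [hfi, mul_assoc, hkk2]
  have hef : e' * fi = S * T := G.cor_inv_comm hcfi hce' hfe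
  refine ⟨ei, fi, hcei, hcfi, hee, hie, hef, hfe, ?_⟩
  -- regularity at `T`
  obtain ⟨r₀, hr₀, S2, hS2, hS20, heq⟩ := G.symm.exists_regular hp hT'm hopp
  obtain ⟨r, hr⟩ : ∃ r, r = r₀⁻¹ := ⟨_, rfl⟩
  have hrc : r ∈ chain Y G.hT.sq := hr ▸ inv_mem hr₀
  obtain ⟨δ, γ, η, hbr, hrv⟩ := G.symm.exists_blocks hrc
  obtain ⟨yd1, yd2, yd3, yd4, yd5⟩ := hbr.zero_d G.symm
  obtain ⟨yc1, yc2, yc3, yc4, yc5⟩ := hbr.zero_c G.symm
  obtain ⟨ye1, ye2, ye3, ye4, ye5, ye6⟩ := hbr.zero_e G.symm
  have hδ2 : δ * mid S T = δ := by rw [← mid_comm]; exact hbr.d2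
  have hγ1 : mid S T * γ = γ := by rw [← mid_comm]; exact hbr.c1
  rw [mid_comm] at yd4 yc4 ye3 ye4
  obtain ⟨sb1, sb2, sb3, sb4, sb5, sb6⟩ := G.rootSpace_blocks hS2
  obtain ⟨g, hg⟩ : ∃ g, g = r * q := ⟨_, rfl⟩
  have hgY : g ∈ Y := hg ▸ mul_mem hrc.1 hqY
  have hgT : conjEnd g T = S2 := by
    rw [hg, ← conjEnd_conjEnd, heq, conjEnd_conjEnd, hr, inv_mul_cancel, conjEnd_one]
  have hgT' : (g : E) * T = S2 * (g : E) := by
    rw [← hgT, conjEnd, mul_assoc _ _ (g : E), Units.inv_mul, mul_one]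
  have hTg : T * ((g⁻¹ : GL) : E) = ((g⁻¹ : GL) : E) * S2 := by
    rw [← hgT, conjEnd, ← mul_assoc, ← mul_assoc, Units.inv_mul, one_mul]
  have hgval : (g : E) * T = (1 + δ + γ + η) * (T + c * T + e) := by
    rw [hg, Units.val_mul, mul_assoc, hqT, hrv]
  have k1 : ∀ x : E, δ * (S * x) = 0 := fun x => by rw [← hδ2, mul_assoc, G.mid_S', mul_zero]
  have k2 : ∀ x : E, δ * (T * x) = 0 := fun x => by rw [← hδ2, mul_assoc, G.mid_T', mul_zero]
  have k3 : ∀ x : E, γ * (mid S T * x) = 0 := fun x => by rw [← mul_assoc, yc4, zero_mul]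
  have k4 : ∀ x : E, η * (mid S T * x) = 0 := fun x => by rw [← mul_assoc, ye3, zero_mul]
  have k5 : ∀ x : E, γ * (T * x) = 0 := fun x => by
    rw [← hbr.c2]; simp only [mul_assoc, G.TT', mul_zero]
  have k6 : ∀ x : E, η * (T * x) = 0 := fun x => by rw [← mul_assoc, ye1, zero_mul]
  have hδe : δ * e = 0 := by rw [← hce.1, mul_assoc S, k1]
  have hγc : γ * (c * T) = 0 := by rw [← hb.c1, mul_assoc, k3]
  have hηc : η * (c * T) = 0 := by rw [← hb.c1, mul_assoc, k4]
  have hδT : δ * T = 0 := by rw [← mul_one T, k2]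
  have hγT : γ * T = 0 := by rw [← mul_one T, k5]
  have hηT : η * T = 0 := ye1
  have hme : mid S T * e = 0 := by rw [← hce.1, mul_assoc S, G.mid_S']
  have hTSe : T * S * e = 0 := by rw [← hce.1]; simp only [mul_assoc, G.SS', mul_zero]
  have hγ : γ = -(c * T * ei) := by
    have h0 : mid S T * ((g : E) * T) = 0 := by rw [hgT', ← mul_assoc, sb6, zero_mul]
    have h1 : mid S T * (1 + δ + γ + η) = mid S T + γ := by
      rw [mul_add, mul_add, mul_add, mul_one, yd4, hγ1, ye4, add_zero, add_zero]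
    rw [hgval, ← mul_assoc, h1, add_mul, mul_add, mul_add, mul_add, mul_add, G.mid_T, ← mul_assoc (mid S T) c,
      hb.c1, hme, hγT, hγc, zero_add, add_zero, zero_add, zero_add] at h0
    have h3' : γ * e = -(c * T) := eq_neg_of_add_eq_zero_right h0
    rw [← neg_mul, ← h3', mul_assoc, hee, hbr.c2]
  have hδ : δ = -(T * fi * d) := by
    have h0 : T * ((q⁻¹ : GL) : E) * ((r⁻¹ : GL) : E) * mid S T = 0 := by
      rw [mul_assoc T, ← Units.val_mul, ← mul_inv_rev, ← hg, hTg, mul_assoc, sb5, mul_zero]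
    have hri : ((r⁻¹ : GL) : E) = 1 + -δ + -γ + (-η + δ * γ) := by
      have hb2 : IsBlocks T S (-δ) (-γ) (-η + δ * γ) :=
        ⟨by rw [mul_neg, hbr.d1], by rw [neg_mul, hbr.d2], by rw [mul_neg, hbr.c1], by rw [neg_mul, hbr.c2],
          by rw [mul_add, mul_neg, hbr.e1, ← mul_assoc, hbr.d1],
          by rw [add_mul, neg_mul, hbr.e2, mul_assoc, hbr.c2]⟩
      refine Units.inv_eq_of_mul_eq_one_right ?_
      rw [hrv, hbr.mul_val hb2 G.symm, add_neg_cancel, add_neg_cancel, add_zero, add_zero, mul_neg]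
      abel
    have h1 : ((r⁻¹ : GL) : E) * mid S T = mid S T - δ := by
      rw [hri]
      simp only [add_mul, one_mul, neg_mul, mul_assoc, hδ2, yc4, ye3, mul_zero, neg_zero, add_zero]
      rw [sub_eq_add_neg]
    rw [mul_assoc _ _ (mid S T), h1, hTq] at h0
    simp only [mul_sub, sub_mul, add_mul, mul_assoc, G.T_mid, hb.d2, G.S_mid, mul_zero] at h0
    have hTδ : T * δ = 0 := by rw [← hbr.d1, mul_assoc, G.TT']
    have hdδ : d * δ = 0 := by rw [← hb.d2, mul_assoc, yd4, mul_zero]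
    simp only [hTδ, hdδ, mul_zero, zero_sub, sub_zero, zero_add, add_zero] at h0
    have h4 : S * (-(T * d) - T * (e' * (S * δ))) = 0 := by rw [h0, mul_zero]
    rw [mul_sub, mul_neg, ← mul_assoc S T d, hb.d1, ← mul_assoc S, ← mul_assoc (S * T), hce'.1] at h4
    have h5 : e' * (S * δ) = -d := (sub_eq_zero.1 h4).symm
    have h6 : S * δ = -(fi * d) := by
      rw [← mul_neg, ← h5, ← mul_assoc, hfe, mul_assoc, ← mul_assoc T, hbr.d1]
    calc δ = T * (S * δ) := by rw [← mul_assoc, hbr.d1]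
      _ = -(T * fi * d) := by rw [h6, mul_neg, mul_assoc]
  have hB : d * c * T = e + e' := by
    rw [he, he', add_add_sub_cancel, ← add_smul, ← two_mul, mul_inv_cancel₀ h2, one_smul]
  have hη : η = T * fi := by
    have h0 : T * S * ((g : E) * T) = 0 := by rw [hgT', ← mul_assoc, sb4, zero_mul]
    have h1 : T * S * (1 + δ + γ + η) = T * S + δ + η := by
      rw [mul_add, mul_add, mul_add, mul_one, hbr.d1, mul_assoc T, yc2, mul_zero, hbr.e1, add_zero]
    rw [hgval, ← mul_assoc, h1] at h0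
    simp only [add_mul, mul_add, hδT, hδe, hηT, hηc, hTSe, G.tst] at h0
    rw [← mul_assoc (T * S) c, zc5, zero_mul] at h0
    simp only [add_zero, zero_add] at h0
    have h3' : η * e = T * fi * e := by
      have hδc : δ * (c * T) = -(T * fi * (d * c * T)) := by
        rw [hδ, neg_mul]; simp only [mul_assoc]
      have hT0 : T = T * fi * e' := by rw [mul_assoc, hfe, G.TST]
      rw [hδc, hB] at h0
      nth_rw 1 [hT0] at h0
      rw [mul_add, neg_add] at h0
      rw [← sub_eq_zero]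
      convert h0 using 1
      abel
    rw [← hbr.e2, ← hee, ← mul_assoc, h3', mul_assoc, hee, mul_assoc, hcfi.2]
  -- conjugating by the Weyl element
  obtain ⟨w, hwY, hw, -⟩ := G.exists_weylElem 1
  rw [inv_one, Units.val_one, one_smul, one_smul] at hw
  obtain ⟨hwS, hwT⟩ := G.conj_weylElem hw
  refine ⟨?_, ?_⟩
  · have hmem : w * r * w⁻¹ ∈ chain Y G.hS.sq := by
      refine chain_map hwY ?_ ?_ hrc <;> rw [hwT]
      exacts [LinearMap.range_neg _, LinearMap.ker_neg _]
    have hv := G.invV_of_chain hmem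
    have e1 : S * T * (w : E) = S := by
      rw [hw]
      simp only [mul_sub, mul_add, mul_assoc, G.T_mid, G.TT, mul_zero, sub_zero, zero_add]
      rw [G.STS]
    have e2 : ((w⁻¹ : GL) : E) * mid S T = mid S T := by
      rw [G.weylElem_inv hw]
      simp only [add_mul, sub_mul, G.mid_mid, G.S_mid, G.T_mid, sub_zero, add_zero]
    have e3 : mid S T * (w : E) = mid S T := by
      rw [hw]
      simp only [mul_add, mul_sub, G.mid_mid, G.mid_S, G.mid_T, sub_zero, add_zero]
    have e4 : ((w⁻¹ : GL) : E) * (T * S) = -S := by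
      rw [G.weylElem_inv hw]
      simp only [add_mul, sub_mul, G.mid_T', G.STS, G.TT', zero_sub, add_zero]
    have f1 : S * T * ((w * r * w⁻¹ : GL) : E) * mid S T = -(fi * d) := by
      rw [show S * T * ((w * r * w⁻¹ : GL) : E) * mid S T =
        S * T * (w : E) * (r : E) * (((w⁻¹ : GL) : E) * mid S T) by simp only [Units.val_mul, mul_assoc],
        e1, e2, mul_assoc, hrv]
      simp only [add_mul, one_mul, hδ2, yc4, ye3, mul_add, mul_zero, add_zero, G.S_mid, zero_add]
      rw [hδ, mul_neg, ← mul_assoc, ← mul_assoc, hcfi.1]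
    have f2 : mid S T * ((w * r * w⁻¹ : GL) : E) * (T * S) = c * T * ei * S := by
      rw [show mid S T * ((w * r * w⁻¹ : GL) : E) * (T * S) =
        mid S T * (w : E) * (r : E) * (((w⁻¹ : GL) : E) * (T * S)) by simp only [Units.val_mul, mul_assoc],
        e3, e4, hrv]
      simp only [mul_add, add_mul, mul_one, yd4, ye4, hγ1, zero_mul, add_zero, mul_neg, G.mid_S, zero_add]
      rw [hγ, neg_mul, neg_neg]
    rw [f1, f2] at hv
    exact hv
  -- the element preserving both roots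
  obtain ⟨m, hm⟩ : ∃ m, m = r * (q * w) := ⟨_, rfl⟩
  have hmY : m ∈ Y := hm ▸ mul_mem hrc.1 (mul_mem hqY hwY)
  have hmS : conjEnd m S = -S2 := by
    rw [hm, ← mul_assoc, ← hg, ← conjEnd_conjEnd, hwS, ← neg_one_smul (ZMod p) T, conjEnd_smul, hgT,
      neg_one_smul]
  obtain ⟨-, hkS2, hrS2⟩ := G.hS.of_mem_rootSpace hS2 hS20
  have hopp2 : S * conjEnd m T * S ≠ 0 := by
    intro e0
    have h1 : conjEnd m (S * T * S) = 0 := by
      rw [← conjEnd_mul, ← conjEnd_mul, hmS, neg_mul, mul_neg, neg_mul, neg_neg]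
      obtain ⟨a1, a2⟩ : S2 = S * (T * S2) ∧ S2 = S2 * T * S :=
        ⟨by rw [← mul_assoc, sb1], by rw [mul_assoc, sb2]⟩
      calc S2 * conjEnd m T * S2 = S2 * T * S * conjEnd m T * (S * (T * S2)) := by rw [← a2, ← a1]
        _ = S2 * T * (S * conjEnd m T * S) * (T * S2) := by simp only [mul_assoc]
        _ = 0 := by rw [e0, mul_zero, zero_mul]
    rw [G.sts] at h1
    exact G.hS.ne (conjEnd_eq_zero h1)
  obtain ⟨q2, hq2, T2, hT2, hT20, heq2⟩ := G.exists_regular hp (G.hT.conj hmY) hopp2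
  obtain ⟨n, hn⟩ : ∃ n, n = q2⁻¹ * m := ⟨_, rfl⟩
  have hnY : n ∈ Y := hn ▸ mul_mem (inv_mem hq2.1) hmY
  have hnS : conjEnd n S = -S2 := by
    rw [hn, ← conjEnd_conjEnd, hmS, G.chain_commute_space (inv_mem hq2) (neg_mem hS2)]
  have hnT : conjEnd n T = T2 := by
    rw [hn, ← conjEnd_conjEnd, heq2, conjEnd_conjEnd, inv_mul_cancel, conjEnd_one]
  obtain ⟨-, hkT2, hrT2⟩ := G.hT.of_mem_rootSpace hT2 hT20
  have hstS : Stab S n := by
    refine ⟨?_, ?_⟩
    · rw [← range_conjEnd, hnS, LinearMap.range_neg, hrS2]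
    · rw [← ker_conjEnd, hnS, LinearMap.ker_neg, hkS2]
  have hstT : Stab T n := by
    refine ⟨?_, ?_⟩
    · rw [← range_conjEnd, hnT, hrT2]
    · rw [← ker_conjEnd, hnT, hkT2]
  refine ⟨n, hnY, hstS, hstT, ?_⟩
  have nS : S * T * (n : E) * S = (n : E) * S := by
    refine LinearMap.ext fun x => ?_
    have h1 : (n : E) (S x) ∈ LinearMap.range S := hstS.1 ▸ Submodule.mem_map_of_mem ⟨x, rfl⟩
    rw [mul_assoc (S * T)]
    exact G.mem_range_iff.1 h1
  have nT : T * S * (n : E) * T = (n : E) * T := by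
    refine LinearMap.ext fun x => ?_
    have h1 : (n : E) (T x) ∈ LinearMap.range T := hstT.1 ▸ Submodule.mem_map_of_mem ⟨x, rfl⟩
    rw [mul_assoc (T * S)]
    exact G.symm.mem_range_iff.1 h1
  have nKS : S * (n : E) * mid S T = 0 := by
    refine LinearMap.ext fun x => ?_
    have h1 : (n : E) (mid S T x) ∈ LinearMap.ker S :=
      hstS.2 ▸ Submodule.mem_map_of_mem (LinearMap.congr_fun G.S_mid x)
    exact h1
  have nKT : T * (n : E) * mid S T = 0 := by
    refine LinearMap.ext fun x => ?_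
    have h1 : (n : E) (mid S T x) ∈ LinearMap.ker T :=
      hstT.2 ▸ Submodule.mem_map_of_mem (LinearMap.congr_fun G.T_mid x)
    exact h1
  have a1 : T * S * (n : E) * (S * T) = 0 := by
    have : T * S * (n : E) * (S * T) = T * S * ((n : E) * S) * T := by simp only [mul_assoc]
    rw [this, ← nS]
    simp only [mul_assoc, G.SS', mul_zero, zero_mul]
  have a2 : mid S T * (n : E) * (S * T) = 0 := by
    have : mid S T * (n : E) * (S * T) = mid S T * ((n : E) * S) * T := by simp only [mul_assoc]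
    rw [this, ← nS]
    simp only [mul_assoc, G.mid_S', zero_mul]
  have a3 : S * T * (n : E) * (T * S) = 0 := by
    have : S * T * (n : E) * (T * S) = S * T * ((n : E) * T) * S := by simp only [mul_assoc]
    rw [this, ← nT]
    simp only [mul_assoc, G.TT', mul_zero, zero_mul]
  have a4 : mid S T * (n : E) * (T * S) = 0 := by
    have : mid S T * (n : E) * (T * S) = mid S T * ((n : E) * T) * S := by simp only [mul_assoc]
    rw [this, ← nT]
    simp only [mul_assoc, G.mid_T', zero_mul]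
  have a5 : S * T * (n : E) * mid S T = 0 := by
    simp only [mul_assoc] at nKT ⊢
    rw [nKT, mul_zero]
  have a6 : T * S * (n : E) * mid S T = 0 := by
    simp only [mul_assoc] at nKS ⊢
    rw [nKS, mul_zero]
  have hdiag : (n : E) = S * T * (n : E) * (S * T) + mid S T * (n : E) * mid S T + T * S * (n : E) * (T * S) := by
    conv_lhs => rw [G.decomp (S := S) (T := T) (n : E), a1, a2, a3, a4, a5, a6]
    abel
  obtain ⟨b1, b2, b3⟩ := G.blocks_of_chain hq2
  have hmn : (m : E) = (q2 : E) * (n : E) := by rw [hn, ← Units.val_mul, mul_inv_cancel_left]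
  have c1 : S * T * (m : E) * (S * T) = S * T * (n : E) * (S * T) := by
    have h1 : (n : E) * (S * T) = S * T * (n : E) * (S * T) := by
      simp only [← mul_assoc]
      rw [nS]
    rw [show S * T * (m : E) * (S * T) = S * T * ((q2 : E) * ((n : E) * (S * T))) by
        rw [hmn]; simp only [mul_assoc], h1, ← mul_assoc (q2 : E), ← mul_assoc (q2 : E), b1,
      ← mul_assoc (S * T) (S * T * (n : E)), ← mul_assoc (S * T) (S * T), hP]
  have c2 : mid S T * (m : E) * mid S T = mid S T * (n : E) * mid S T := by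
    have h1 : (n : E) * mid S T = mid S T * (n : E) * mid S T := by
      conv_lhs => rw [← one_mul (n : E), ← G.one_eq, add_mul, add_mul, add_mul, add_mul, a5, a6, add_zero,
        add_zero]
    rw [hmn, mul_assoc, mul_assoc (q2 : E), h1]
    simp only [← mul_assoc]
    rw [b3]
  have c3 : T * S * (m : E) * (T * S) = T * S * (n : E) * (T * S) := by
    rw [hmn, ← mul_assoc (T * S), b2]
  rw [hdiag, ← c1, ← c2, ← c3]
  have hmval : (m : E) = (S - e + d) + (mid S T + γ * d + γ * S) + η * S := by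
    have hqw : (q : E) * (w : E) = mid S T + d + S - T - c * T - e := by
      rw [hw, hq]
      simp only [mul_sub, mul_add, add_mul, one_mul, hb.d2, zd1, zd2, zc4, ze3, ze1, heT]
      rw [show c * S = 0 by rw [← hb.c2]; simp only [mul_assoc, G.SS, mul_zero]]
      abel
    have hδd : δ * d = 0 := by rw [← hb.d1, mul_assoc S, k1]
    have hδc : δ * (c * T) = η * d + η * S + η * e - η * S - η * e - η * d + δ * (c * T) := by abel
    have hcor : δ - δ * (c * T) + η * d - η * e = T := by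
      rw [hδ, hη, neg_mul, sub_neg_eq_add, ← mul_assoc _ c T, mul_assoc (T * fi) d, mul_assoc (T * fi) (d * c),
        hB, mul_add]
      rw [mul_assoc T fi e', hfe, G.TST]
      abel
    have hγe : γ * e = -(c * T) := by rw [hγ, neg_mul, mul_assoc, hie, mul_assoc c, G.TST]
    rw [hm, Units.val_mul, Units.val_mul, hqw, hrv]
    simp only [mul_sub, mul_add, add_mul, one_mul, hδ2, hδd, hδT, hδe, yc4, ye3, hγT, hγc, hηT, hηc]
    rw [show δ * S = 0 by rw [← mul_one S, k1], hγe]
    rw [← sub_eq_zero]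
    refine Eq.trans ?_ (sub_eq_zero.2 hcor)
    abel
  rw [hmval]
  have l1 : S * T * (S - e + d + (mid S T + γ * d + γ * S) + η * S) * (S * T) = -e := by
    have g1 : S * T * γ = 0 := by rw [mul_assoc, yc1, mul_zero]
    have g2 : S * T * η = 0 := by rw [← hbr.e1]; simp only [mul_assoc, G.TT', mul_zero, zero_mul]
    have g3 : S * T * mid S T = 0 := by rw [mul_assoc, G.T_mid, mul_zero]
    simp only [mul_add, add_mul, mul_sub, sub_mul, ← mul_assoc (S * T) γ, ← mul_assoc (S * T) η, g1, g2, g3,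
      hce.1, hce.2, hb.d1, zd5, G.sts, zero_mul, add_zero]
    rw [G.SS', zero_sub]
  have l2 : mid S T * (S - e + d + (mid S T + γ * d + γ * S) + η * S) * mid S T =
      mid S T - c * T * ei * d := by
    simp only [mul_add, add_mul, mul_sub, sub_mul, ← mul_assoc (mid S T) γ, ← mul_assoc (mid S T) η, hγ1, ye4,
      G.mid_S, hme, zd4, G.mid_mid, zero_mul, sub_zero, zero_add, add_zero]
    rw [mul_assoc γ d, hb.d2, mul_assoc γ S, G.S_mid, mul_zero, add_zero, hγ, neg_mul, sub_eq_add_neg]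
  have l3 : T * S * (S - e + d + (mid S T + γ * d + γ * S) + η * S) * (T * S) = T * fi * S := by
    have h1 : T * S * γ = 0 := by rw [← hγ1]; simp only [mul_assoc, G.S_mid', mul_zero]
    have h2' : T * S * mid S T = 0 := by rw [mul_assoc, G.S_mid, mul_zero]
    have h3' : T * S * S = 0 := by rw [mul_assoc, G.SS, mul_zero]
    simp only [mul_add, add_mul, mul_sub, sub_mul, ← mul_assoc (T * S) γ, ← mul_assoc (T * S) η, h1, h2', h3',
      hTSe, zd3, hbr.e1, zero_mul, sub_zero, zero_add, add_zero]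
    rw [mul_assoc η S, G.STS, hη]
  rw [l1, l2, l3]

end Gr

end CfsgLib.QuadEqui
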