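import Cfsg.Agent.QuadEqui.Absorb
import Cfsg.Agent.Solvable.CoprimeAbelian
import Cfsg.Agent.Comp.Basic

/-!
A noncyclic abelian group of operators centralising `O^p(F*(C(a)))` for all its nontrivial elements `a`
centralises `O^p(F*(G))`, for `p ≥ 5`.
-/

set_option autoImplicit false
set_option linter.unusedSectionVars false
set_option linter.deprecated false
set_option linter.style.haveILetI false
set_option linter.unusedSimpArgs false

namespace CfsgLib.QuadEqui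

open Subgroup

universe u

variable {X : Type u} [Group X] [Finite X] {p : ℕ} [Fact p.Prime] {G R : Subgroup X}

/-- In a nilpotent subgroup an element is a product of a power of its `p'`-part and an element of `O_p`. -/
theorem exists_fixed_mul {E : Subgroup X} (hnil : Group.IsNilpotent E) {e : X} (he : e ∈ E) :
    ∃ k : ℕ, ∃ f ∈ zpowers (e ^ p ^ k), ∃ s ∈ Cfsg.pCoreOf p E,
      (orderOf (e ^ p ^ k)).Coprime p ∧ e = f * s := by
  obtain ⟨k, m, hm, hkm⟩ := Nat.exists_eq_pow_mul_and_not_dvd (orderOf_pos e).ne' p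
    (Fact.out : p.Prime).ne_one
  have hmp : m.Coprime p := ((Fact.out : p.Prime).coprime_iff_not_dvd.2 hm).symm
  have hord : orderOf (e ^ p ^ k) = m := by
    rw [orderOf_pow' e (pow_ne_zero k (Fact.out : p.Prime).ne_zero), hkm, Nat.gcd_mul_right_left,
      Nat.mul_div_cancel_left _ (pow_pos (Fact.out : p.Prime).pos k)]
  obtain ⟨u, hu⟩ := exists_pow_eq_self_of_coprime (x := e ^ p ^ k) (n := p ^ k)
    (by rw [hord]; exact hmp.symm.pow_left k)
  refine ⟨k, (e ^ p ^ k) ^ u, pow_mem (mem_zpowers _) u, ((e ^ p ^ k) ^ u)⁻¹ * e, ?_, hord ▸ hmp,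
    (mul_inv_cancel_left _ _).symm⟩
  obtain ⟨s, hs⟩ : ∃ s : E, s = ⟨((e ^ p ^ k) ^ u)⁻¹ * e, mul_mem (inv_mem (pow_mem (pow_mem he _) _)) he⟩ :=
    ⟨_, rfl⟩
  have hs1 : s ^ p ^ k = 1 := by
    refine Subtype.ext ?_
    rw [Subgroup.coe_pow, Subgroup.coe_one, hs]
    show (((e ^ p ^ k) ^ u)⁻¹ * e) ^ p ^ k = 1
    rw [(((Commute.pow_self e (p ^ k)).pow_left u).inv_left).mul_pow, inv_pow, ← pow_mul, mul_comm u (p ^ k),
      pow_mul, hu, inv_mul_cancel]
  have hsp : IsPGroup p (zpowers s) := by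
    rintro ⟨z, hz⟩
    obtain ⟨n, rfl⟩ := hz
    refine ⟨k, Subtype.ext ?_⟩
    show (s ^ n) ^ p ^ k = 1
    rw [← zpow_natCast (s ^ n), ← zpow_mul, mul_comm, zpow_mul, zpow_natCast, hs1, one_zpow]
  refine ⟨s, ?_, by rw [hs]; rfl⟩
  haveI := hnil
  obtain ⟨S, hS⟩ := hsp.exists_le_sylow
  exact Solvable.le_pCore p (inferInstance : (S : Subgroup E).Normal) S.2 (hS (mem_zpowers s))

/-- Commutators with a fixed element of an element of `O·T`. -/
theorem comm_mem_of_mul {T : Subgroup X} {o t ρ : X} (ho : o ∈ normalizer (T : Set X)) (hρ : ρ ∈ normalizer (T : Set X))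
    (hc : ρ * o = o * ρ) (ht : t ∈ T) : ρ * (o * t) * ρ⁻¹ * (o * t)⁻¹ ∈ T := by
  have e : ρ * (o * t) * ρ⁻¹ * (o * t)⁻¹ = o * (ρ * t * ρ⁻¹ * t⁻¹) * o⁻¹ := by
    calc ρ * (o * t) * ρ⁻¹ * (o * t)⁻¹ = (ρ * o) * t * ρ⁻¹ * t⁻¹ * o⁻¹ := by group
      _ = o * (ρ * t * ρ⁻¹ * t⁻¹) * o⁻¹ := by rw [hc]; group
  rw [e]
  exact (mem_normalizer_iff.1 ho _).1 (mul_mem ((mem_normalizer_iff.1 hρ t).1 ht) (inv_mem ht))

/-- If the operators act trivially modulo a `p`-subgroup centralised by an element of order prime to `p`,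
they centralise that element. -/
theorem mem_centralizer_of_comm_mem {T : Subgroup X} (hT : IsPGroup p T) {x : X} (hco : (orderOf x).Coprime p)
    (hx : x ∈ centralizer (T : Set X)) (h : ∀ ρ ∈ R, ρ * x * ρ⁻¹ * x⁻¹ ∈ T) : x ∈ centralizer (R : Set X) := by
  refine mem_centralizer_iff.2 fun ρ hρ => ?_
  obtain ⟨z, hz⟩ : ∃ z, z = ρ * x * ρ⁻¹ * x⁻¹ := ⟨_, rfl⟩
  have hzT : z ∈ T := hz ▸ h ρ hρ
  have hc : Commute z x := mem_centralizer_iff.1 hx z hzT
  have e : ρ * x * ρ⁻¹ = z * x := by rw [hz]; group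
  have h1 : (z * x) ^ orderOf x = 1 := by
    rw [← e, show ρ * x * ρ⁻¹ = MulAut.conj ρ x from rfl, ← map_pow, pow_orderOf_eq_one, map_one]
  rw [hc.mul_pow, pow_orderOf_eq_one, mul_one] at h1
  rw [eq_one_of_pow hT hzT hco h1, one_mul] at e
  exact mul_inv_eq_iff_eq_mul.1 e

/-- The commutator with coprime operators lies in `T` when it is spanned by elements fixed modulo `T`. -/
theorem commutator_fixed_mod {B W T : Subgroup X} (hRB : R ≤ normalizer (B : Set X))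
    (hcop : (Nat.card R).Coprime (Nat.card B)) (hRT : R ≤ normalizer (T : Set X))
    (hBT : B ≤ normalizer (T : Set X))
    (hW : ∀ y ∈ B, ∀ ρ ∈ R, ρ * y * ρ⁻¹ * y⁻¹ ∈ W) (hWT : ∀ z ∈ W, ∀ ρ ∈ R, ρ * z * ρ⁻¹ * z⁻¹ ∈ T) :
    ∀ y ∈ B, ∀ ρ ∈ R, ρ * y * ρ⁻¹ * y⁻¹ ∈ T := by
  have hle : ⁅B, R⁆ ≤ W := commutator_le.2 fun y hy ρ hρ => by
    have := inv_mem (hW y hy ρ hρ)
    simpa [commutatorElement_def, mul_assoc] using this
  have hle' : ⁅⁅B, R⁆, R⁆ ≤ T := commutator_le.2 fun z hz ρ hρ => by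
    have := inv_mem (hWT z (hle hz) ρ hρ)
    simpa [commutatorElement_def, mul_assoc] using this
  rw [CfsgLib.CoprimeAct.commutator_commutator hRB hcop (CfsgLib.QuadFix.solvable_or_of_coprime hcop)] at hle'
  intro y hy ρ hρ
  have := inv_mem (hle' (commutator_mem_commutator hy hρ))
  simpa [commutatorElement_def, mul_assoc] using this

/-- A commutator with a fixed element centralises what both fix. -/
theorem comm_centralizes {S : Set X} {y ρ : X} (hy : ∀ k ∈ S, y⁻¹ * k * y ∈ S) (hρ : ∀ k ∈ S, ρ * k = k * ρ) :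
    ρ * y * ρ⁻¹ * y⁻¹ ∈ centralizer S := by
  refine mem_centralizer_iff.2 fun k hk => ?_
  have h1 := hρ _ (hy k hk)
  have h2 := hρ k hk
  have h1' : ρ⁻¹ * (y⁻¹ * k * y) = (y⁻¹ * k * y) * ρ⁻¹ := by
    calc ρ⁻¹ * (y⁻¹ * k * y) = ρ⁻¹ * ((y⁻¹ * k * y) * ρ) * ρ⁻¹ := by group
      _ = (y⁻¹ * k * y) * ρ⁻¹ := by rw [← h1]; group
  calc k * (ρ * y * ρ⁻¹ * y⁻¹) = (k * ρ) * y * ρ⁻¹ * y⁻¹ := by group
    _ = ρ * y * ((y⁻¹ * k * y) * ρ⁻¹) * y⁻¹ := by rw [← h2]; group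
    _ = ρ * y * (ρ⁻¹ * (y⁻¹ * k * y)) * y⁻¹ := by rw [h1']
    _ = ρ * y * ρ⁻¹ * y⁻¹ * k := by group

/-- A group whose elements of order prime to `p` centralise the operators is centralised modulo `O_p`. -/
theorem commutator_mem_pCoreOf {B : Subgroup X} (hRB : R ≤ normalizer (B : Set X))
    (hcop : (Nat.card R).Coprime (Nat.card B))
    (hB : ∀ y ∈ B, (orderOf y).Coprime p → y ∈ centralizer (R : Set X)) :
    ∀ y ∈ B, ∀ ρ ∈ R, ρ * y * ρ⁻¹ * y⁻¹ ∈ Cfsg.pCoreOf p B := by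
  obtain ⟨O, hO⟩ : ∃ O : Set X, O = {k | k ∈ B ∧ (orderOf k).Coprime p} := ⟨_, rfl⟩
  have hOinv : ∀ g ∈ normalizer (B : Set X), ∀ k ∈ O, g⁻¹ * k * g ∈ O := by
    intro g hg k hk
    rw [hO] at hk ⊢
    refine ⟨by simpa using (mem_normalizer_iff.1 (inv_mem hg) k).1 hk.1, ?_⟩
    rw [show g⁻¹ * k * g = (MulAut.conj g⁻¹).toMonoidHom k by simp, orderOf_injective _ (MulAut.conj g⁻¹).injective]
    exact hk.2
  obtain ⟨E, hE⟩ : ∃ E, E = B ⊓ centralizer O := ⟨_, rfl⟩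
  have hEB : E ≤ B := hE ▸ inf_le_left
  have hEn : ∀ g ∈ normalizer (B : Set X), ∀ e ∈ E, g * e * g⁻¹ ∈ E := by
    intro g hg e he
    rw [hE] at he ⊢
    refine ⟨(mem_normalizer_iff.1 hg e).1 he.1, mem_centralizer_iff.2 fun k hk => ?_⟩
    have h := mem_centralizer_iff.1 he.2 _ (hOinv g hg k hk)
    calc k * (g * e * g⁻¹) = g * ((g⁻¹ * k * g) * e) * g⁻¹ := by group
      _ = g * (e * (g⁻¹ * k * g)) * g⁻¹ := by rw [h]
      _ = g * e * g⁻¹ * k := by group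
  have hBE : B ≤ normalizer (E : Set X) := le_normalizer_of_conj_mem fun g hg e he => hEn g (le_normalizer hg) e he
  have hRE : R ≤ normalizer (E : Set X) := le_normalizer_of_conj_mem fun g hg e he => hEn g (hRB hg) e he
  have hnil : Group.IsNilpotent E := by
    have hq : IsPGroup p (E ⧸ center E) := by
      intro y
      obtain ⟨x, rfl⟩ := QuotientGroup.mk'_surjective (center E) y
      obtain ⟨k, hk⟩ := pow_mem_closure_coprime (p := p) x
      refine ⟨k, ?_⟩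
      rw [← map_pow]
      refine (QuotientGroup.eq_one_iff _).2 (?_ : x ^ p ^ k ∈ center E)
      refine ((closure_le _).2 ?_ : closure {y : E | (orderOf y).Coprime p} ≤ center E) hk
      intro z hz
      rw [SetLike.mem_coe, mem_center_iff]
      intro w
      apply Subtype.ext
      have hz' : (z : X) ∈ O := hO ▸ ⟨hEB z.2, by rwa [orderOf_coe]⟩
      have hw : (w : X) ∈ B ⊓ centralizer O := hE ▸ w.2
      exact (mem_centralizer_iff.1 hw.2 _ hz').symm
    haveI := hq.isNilpotent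
    exact Subgroup.isNilpotent_of_ker_le_center (QuotientGroup.mk' (center E))
      (by rw [QuotientGroup.ker_mk'])
  refine commutator_fixed_mod hRB hcop (le_normalizer_pCoreOf hRB) (le_normalizer_pCoreOf_self B) (W := E)
    (fun y hy ρ hρ => ?_) fun e he ρ hρ => ?_
  · refine hE ▸ ⟨mul_mem ((mem_normalizer_iff.1 (hRB hρ) y).1 hy) (B.inv_mem hy), ?_⟩
    refine comm_centralizes (fun k hk => hOinv y (le_normalizer hy) k hk) fun k hk => ?_
    rw [hO] at hk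
    exact mem_centralizer_iff.1 (hB k hk.1 hk.2) ρ hρ
  · obtain ⟨k, f, hf, s, hs, hco, rfl⟩ := exists_fixed_mul (p := p) hnil he
    have hle : Cfsg.pCoreOf p E ≤ Cfsg.pCoreOf p B :=
      le_pCoreOf ((pCoreOf_le E).trans hEB) (isPGroup_pCoreOf E) (le_normalizer_pCoreOf hBE)
    have hfR : f ∈ centralizer (R : Set X) :=
      zpowers_le.2 (hB _ (pow_mem (hEB he) _) hco) hf
    have hfE : f ∈ E := (zpowers_le.2 (pow_mem he _)) hf
    exact hle (comm_mem_of_mul (le_normalizer_pCoreOf_self E hfE) (le_normalizer_pCoreOf hRE hρ)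
      (mem_centralizer_iff.1 hfR ρ hρ) hs)

/-- The conclusion for `G`, from its fixed-point subgroups. -/
theorem fixes_of_local (hp : 5 ≤ p) (hRG : R ≤ normalizer (G : Set X)) (hcop : (Nat.card R).Coprime (Nat.card G))
    (hab : IsMulCommutative R) (hnc : ¬ IsCyclic R)
    (hH : ∀ a ∈ R, a ≠ 1 → Fixes p R (G ⊓ centralizer {a})) : Fixes p R G := by
  haveI := hab
  obtain ⟨T, hT⟩ : ∃ T, T = Cfsg.pCoreOf p G := ⟨_, rfl⟩
  obtain ⟨Y, hY⟩ : ∃ Y, Y = G ⊓ centralizer (T : Set X) := ⟨_, rfl⟩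
  have hTp : IsPGroup p T := hT ▸ isPGroup_pCoreOf G
  have hGT : G ≤ normalizer (T : Set X) := hT ▸ le_normalizer_pCoreOf_self G
  have hRT : R ≤ normalizer (T : Set X) := hT ▸ le_normalizer_pCoreOf hRG
  have hYG : Y ≤ G := hY ▸ inf_le_left
  have hGY : G ≤ normalizer (Y : Set X) := hY ▸ le_normalizer_inf' le_normalizer (le_normalizer_centralizer hGT)
  have hRY : R ≤ normalizer (Y : Set X) := hY ▸ le_normalizer_inf' hRG (le_normalizer_centralizer hRT)
  have hcopY : (Nat.card R).Coprime (Nat.card Y) := hcop.coprime_dvd_right (card_dvd_of_le hYG)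
  -- the hypothesis is inherited
  have hYfix : ∀ a ∈ R, a ≠ 1 → Fixes p R (Y ⊓ centralizer {a}) := by
    intro a ha ha1 x hx hco hxc
    refine hH a ha ha1 x ⟨hYG hx.1, hx.2⟩ hco ?_
    have hn : G ⊓ centralizer ({a} : Set X) ≤ normalizer ((Y ⊓ centralizer {a} : Subgroup X) : Set X) :=
      le_normalizer_inf' (inf_le_left.trans hGY) (inf_le_right.trans le_normalizer)
    have hxH : x ∈ G ⊓ centralizer ({a} : Set X) := ⟨hYG hx.1, hx.2⟩
    refine centralizes_of_stab (T0 := Cfsg.pCoreOf p (G ⊓ centralizer {a}) ⊓ (Y ⊓ centralizer {a}))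
      (isPGroup_pCoreOf _) inf_le_left hco (centralizer_le (SetLike.coe_subset_coe.2 ?_) hxc) fun u hu => ⟨?_, ?_⟩
    · exact le_pCoreOf inf_le_right ((isPGroup_pCoreOf _).to_le inf_le_left)
        (le_normalizer_inf' ((inf_le_inf_right _ hYG).trans (le_normalizer_pCoreOf_self _)) le_normalizer)
    · exact mul_mem ((mem_normalizer_iff.1 (le_normalizer_pCoreOf_self _ hxH) u).1 hu)
        (Subgroup.inv_mem _ hu)
    · have h1 : u * x⁻¹ * u⁻¹ ∈ Y ⊓ centralizer ({a} : Set X) :=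
        (mem_normalizer_iff.1 (hn (pCoreOf_le _ hu)) _).1 (inv_mem hx)
      rw [show x * u * x⁻¹ * u⁻¹ = x * (u * x⁻¹ * u⁻¹) by group]
      exact mul_mem hx h1
  -- the characteristic subgroup
  obtain ⟨P, hP⟩ : ∃ P, P = meetSylow p Y R := ⟨_, rfl⟩
  have hPY : P ≤ Y := hP ▸ meetSylow_le hRY hcopY
  have hPp : IsPGroup p P := hP ▸ isPGroup_meetSylow hRY hcopY
  have hgen := CfsgLib.CoprimeAct.generated_by_centralizers hnc hRY hcopY
  have hWc := CfsgLib.Functor.isConjugacyFunctor_induced (G := X) (CfsgLib.Kinf.isCharPFunctor_kInf.{u} p).1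
  obtain ⟨K, hK⟩ : ∃ K, K = Cfsg.inducedFunctor Cfsg.kInfLower P := ⟨_, rfl⟩
  have hKP : K ≤ P := hK ▸ CfsgLib.Functor.functor_le hWc hPp
  have hYK : Y ≤ normalizer (K : Set X) := by
    conv_lhs => rw [← hgen]
    refine iSup₂_le fun a ha => ?_
    rw [hK, hP]
    exact fixed_le_normalizer_kInf hp hRY hcopY hab ha.1 (hYfix a ha.1 ha.2)
  have hKT : K ≤ T := hT ▸ (le_pCoreOf (hKP.trans hPY) (hPp.to_le hKP) hYK).trans
    (le_pCoreOf ((pCoreOf_le Y).trans hYG) (isPGroup_pCoreOf Y) (le_normalizer_pCoreOf hGY))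
  have hPT : P ≤ T := by
    intro x hx
    refine hKT ?_
    have hc : x ∈ G ⊓ centralizer (T : Set X) := hY ▸ hPY hx
    rw [hK]
    refine ⟨⟨x, hx⟩, CfsgLib.Kinf.centralizer_kInfLower_le hPp (mem_centralizer_iff.2 fun v hv => ?_), rfl⟩
    exact Subtype.ext (mem_centralizer_iff.1 hc.2 _ (hKT (hK ▸ mem_map_of_mem P.subtype hv)))
  -- the operators are trivial modulo `T`
  let N0 : Subgroup X :=
    { carrier := {y | y ∈ normalizer (T : Set X) ∧ ∀ ρ ∈ R, ρ * y * ρ⁻¹ * y⁻¹ ∈ T}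
      one_mem' := ⟨one_mem _, fun ρ _ => by simp⟩
      mul_mem' := fun {y z} hy hz => ⟨mul_mem hy.1 hz.1, fun ρ hρ => by
        rw [show ρ * (y * z) * ρ⁻¹ * (y * z)⁻¹ =
          (ρ * y * ρ⁻¹ * y⁻¹) * (y * (ρ * z * ρ⁻¹ * z⁻¹) * y⁻¹) by group]
        exact mul_mem (hy.2 ρ hρ) ((mem_normalizer_iff.1 hy.1 _).1 (hz.2 ρ hρ))⟩
      inv_mem' := fun {y} hy => ⟨inv_mem hy.1, fun ρ hρ => by
        have h := (mem_normalizer_iff.1 (inv_mem hy.1) _).1 (inv_mem (hy.2 ρ hρ))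
        rw [inv_inv] at h
        rw [show ρ * y⁻¹ * ρ⁻¹ * y⁻¹⁻¹ = y⁻¹ * (ρ * y * ρ⁻¹ * y⁻¹)⁻¹ * y by group]
        exact h⟩ }
  have hYN0 : Y ≤ N0 := by
    conv_lhs => rw [← hgen]
    refine iSup₂_le fun a ha y hy => ⟨hGT (hYG hy.1), ?_⟩
    have hRB := le_normalizer_fixed hab ha.1 hRY
    have hle : Cfsg.pCoreOf p (Y ⊓ centralizer {a}) ≤ T := by
      refine le_trans ?_ hPT
      rw [hP]
      exact le_meetSylow hRY hcopY ((pCoreOf_le _).trans inf_le_left) (isPGroup_pCoreOf _)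
        (le_normalizer_pCoreOf hRB) ((fixed_le_fixed ha.1).trans (le_normalizer_pCoreOf_self _))
    refine fun ρ hρ => hle (commutator_mem_pCoreOf hRB (hcopY.coprime_dvd_right (card_dvd_of_le inf_le_left))
      (fun x hx hco => hYfix a ha.1 ha.2 x hx hco ?_) y hy ρ hρ)
    have hxY : x ∈ G ⊓ centralizer (T : Set X) := hY ▸ hx.1
    exact centralizer_le (SetLike.coe_subset_coe.2 hle) hxY.2
  intro x hx hco hxc
  rw [← hT] at hxc
  exact mem_centralizer_of_comm_mem hTp hco hxc (hYN0 (hY ▸ ⟨hx, hxc⟩)).2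

end CfsgLib.QuadEqui
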