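import Cfsg.Agent.QuadEqui.Local

/-!
Centralising `O^p(F*(Y))` means the same as centralising the elements of order prime to `p` that centralise
`O_p(Y)`.
-/

set_option autoImplicit false
set_option linter.unusedSectionVars false
set_option linter.deprecated false
set_option linter.style.haveILetI false
set_option linter.unusedSimpArgs false

namespace CfsgLib.QuadEqui

open Subgroup

universe u

section

variable {H : Type*} [Group H] [Finite H] {p : ℕ} [Fact p.Prime]

theorem fstar_le_sup : Cfsg.generalizedFittingSubgroup H ≤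
    closure {g : H | g ∈ Cfsg.generalizedFittingSubgroup H ∧ (orderOf g).Coprime p} ⊔ Cfsg.pCore p H := by
  obtain ⟨F, hF⟩ : ∃ F, F = Cfsg.generalizedFittingSubgroup H := ⟨_, rfl⟩
  rw [← hF]
  have hlF : Cfsg.layer H ≤ F := hF ▸ CfsgLib.Comp.layer_le_Fstar
  have hfF : Cfsg.fittingSubgroup H ≤ F := hF ▸ CfsgLib.Comp.fitting_le_Fstar
  refine le_trans (hF.le.trans (sup_le ?_ ?_ : Cfsg.layer H ⊔ Cfsg.fittingSubgroup H ≤ _)) le_rfl
  · refine le_sup_of_le_left ?_
    obtain ⟨O, hO⟩ : ∃ O : Subgroup F, O = closure {y : F | (orderOf y).Coprime p} := ⟨_, rfl⟩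
    haveI : O.Normal := hO ▸ normal_closure_coprime
    have hq : IsPGroup p (F ⧸ O) := by
      intro y
      obtain ⟨x, rfl⟩ := QuotientGroup.mk'_surjective O y
      obtain ⟨k, hk⟩ := pow_mem_closure_coprime (p := p) x
      exact ⟨k, by rw [← map_pow]; exact (QuotientGroup.eq_one_iff _).2 (hO ▸ hk)⟩
    obtain ⟨M, hM⟩ : ∃ M, M = ((Cfsg.layer H).subgroupOf F).map (QuotientGroup.mk' O) := ⟨_, rfl⟩
    have hperf : ⁅(Cfsg.layer H).subgroupOf F, (Cfsg.layer H).subgroupOf F⁆ = (Cfsg.layer H).subgroupOf F := by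
      apply map_injective F.subtype_injective
      rw [map_commutator, map_subgroupOf_eq_of_le hlF, CfsgLib.Comp.layer_perfect]
    have hMp : ⁅M, M⁆ = M := by rw [hM, ← map_commutator, hperf]
    haveI := hq.isNilpotent
    obtain ⟨n, hn⟩ := (inferInstance : Group.IsSolvable (F ⧸ O))
    have hle : ∀ n, M ≤ derivedSeries (F ⧸ O) n := by
      intro n
      induction n with
      | zero => exact le_top
      | succ n ih => rw [derivedSeries_succ, ← hMp]; exact commutator_mono ih ih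
    have hM1 : M = ⊥ := le_bot_iff.1 ((hle n).trans hn.le)
    rw [hM, Subgroup.map_eq_bot_iff, QuotientGroup.ker_mk'] at hM1
    rw [← map_subgroupOf_eq_of_le hlF]
    refine (map_mono hM1).trans ?_
    rw [hO, MonoidHom.map_closure]
    refine closure_mono ?_
    rintro _ ⟨y, hy, rfl⟩
    exact ⟨y.2, by rw [Subgroup.coe_subtype, orderOf_coe]; exact hy⟩
  · rw [CfsgLib.Solvable.fittingSubgroup_eq_iSup_pCore]
    refine iSup_le fun q => ?_
    haveI := Fact.mk q.2
    by_cases hqp : (q : ℕ) = p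
    · rw [hqp]; exact le_sup_right
    · refine le_sup_of_le_left fun g hg => subset_closure ⟨hfF (CfsgLib.Solvable.pCore_le_fittingSubgroup _ hg), ?_⟩
      obtain ⟨k, hk⟩ := IsPGroup.iff_orderOf.1 (CfsgLib.Solvable.isPGroup_pCore (G := H) (q : ℕ)) ⟨g, hg⟩
      rw [Subgroup.orderOf_mk] at hk
      rw [hk]
      exact ((Nat.coprime_primes q.2 Fact.out).2 hqp).pow_left k

theorem fstar_le_centralizer_sup :
    Cfsg.generalizedFittingSubgroup H ≤ centralizer (Cfsg.pCore p H : Set H) ⊔ Cfsg.pCore p H := by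
  refine sup_le (le_sup_of_le_left ?_) ?_
  · exact CfsgLib.Comp.layer_le_centralizer_fitting.trans
      (centralizer_le (SetLike.coe_subset_coe.2 (CfsgLib.Solvable.pCore_le_fittingSubgroup _)))
  · rw [CfsgLib.Solvable.fittingSubgroup_eq_iSup_pCore]
    refine iSup_le fun q => ?_
    haveI := Fact.mk q.2
    by_cases hqp : (q : ℕ) = p
    · rw [hqp]; exact le_sup_right
    · refine le_sup_of_le_left fun g hg => mem_centralizer_iff.2 fun t ht => ?_
      exact commute_of_normal_of_disjoint (Cfsg.pCore p H) (Cfsg.pCore (q : ℕ) H) inferInstance inferInstance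
        (IsPGroup.disjoint_of_ne _ _ (Ne.symm hqp) _ _ (CfsgLib.Solvable.isPGroup_pCore _)
          (CfsgLib.Solvable.isPGroup_pCore _)) t g ht hg

theorem mem_centralizer_pCore {g : H} (hg : g ∈ Cfsg.generalizedFittingSubgroup H) (hco : (orderOf g).Coprime p) :
    g ∈ centralizer (Cfsg.pCore p H : Set H) := by
  obtain ⟨π, hπ⟩ : ∃ π, π = QuotientGroup.mk' (centralizer (Cfsg.pCore p H : Set H)) := ⟨_, rfl⟩
  have h := fstar_le_centralizer_sup (p := p) hg
  rw [mem_sup_of_normal_left] at h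
  obtain ⟨c, hc, t, ht, rfl⟩ := h
  obtain ⟨k, hk⟩ := CfsgLib.Solvable.isPGroup_pCore (G := H) p ⟨t, ht⟩
  replace hk : t ^ p ^ k = 1 := congrArg Subtype.val hk
  have hc1 : π c = 1 := hπ ▸ (QuotientGroup.eq_one_iff c).2 hc
  have he : π (c * t) = π t := by rw [map_mul, hc1, one_mul]
  have h1 : π t ^ orderOf (c * t) = 1 := by rw [← he, ← map_pow, pow_orderOf_eq_one, map_one]
  have h2 : π t ^ p ^ k = 1 := by rw [← map_pow, hk, map_one]
  have h3 := pow_gcd_eq_one.2 ⟨h1, h2⟩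
  rw [(hco.pow_right k).gcd_eq_one, pow_one, ← he, hπ] at h3
  exact (QuotientGroup.eq_one_iff _).1 h3

end

variable {X : Type u} [Group X] [Finite X] {p : ℕ} [Fact p.Prime] {Y R : Subgroup X}

/-- The elements of `O^p(F*(Y))` of order prime to `p` centralise `R`. -/
theorem centralizes_of_le {g : Y}
    (h : R ≤ centralizer ((((Cfsg.pResidual p ↥(Cfsg.generalizedFittingSubgroup ↥Y)).map
      (Cfsg.generalizedFittingSubgroup ↥Y).subtype).map Y.subtype : Subgroup X) : Set X))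
    (hg : g ∈ Cfsg.generalizedFittingSubgroup ↥Y) (hco : (orderOf g).Coprime p) :
    (g : X) ∈ centralizer (R : Set X) := by
  refine le_centralizer_iff.1 h ?_
  refine ⟨g, ⟨⟨g, hg⟩, subset_closure (show (orderOf (⟨g, hg⟩ : Cfsg.generalizedFittingSubgroup ↥Y)).Coprime p by
    rwa [Subgroup.orderOf_mk]), rfl⟩, rfl⟩

/-- From the statement's hypothesis. -/
theorem fixes_of_le (hRY : R ≤ normalizer (Y : Set X)) (hcop : (Nat.card R).Coprime (Nat.card Y))
    (h : R ≤ centralizer ((((Cfsg.pResidual p ↥(Cfsg.generalizedFittingSubgroup ↥Y)).map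
      (Cfsg.generalizedFittingSubgroup ↥Y).subtype).map Y.subtype : Subgroup X) : Set X)) :
    Fixes p R Y := by
  obtain ⟨F, hF⟩ : ∃ F, F = Cfsg.generalizedFittingSubgroup ↥Y := ⟨_, rfl⟩
  haveI hFn : F.Normal := hF ▸ (inferInstanceAs (Cfsg.layer ↥Y ⊔ Cfsg.fittingSubgroup ↥Y).Normal)
  obtain ⟨S, hS⟩ : ∃ S : Set Y, S = {g | g ∈ F ∧ (orderOf g).Coprime p} := ⟨_, rfl⟩
  obtain ⟨T, hT⟩ : ∃ T, T = Cfsg.pCoreOf p Y := ⟨_, rfl⟩
  obtain ⟨B, hB⟩ : ∃ B, B = Y ⊓ centralizer (T : Set X) := ⟨_, rfl⟩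
  have hFle : F ≤ closure S ⊔ Cfsg.pCore p ↥Y := hS ▸ hF ▸ fstar_le_sup
  have hSR : ∀ k ∈ S, (k : X) ∈ centralizer (R : Set X) := fun k hk => by
    rw [hS] at hk; exact centralizes_of_le h (hF ▸ hk.1) hk.2
  have hYT : Y ≤ normalizer (T : Set X) := hT ▸ le_normalizer_pCoreOf_self Y
  have hRT : R ≤ normalizer (T : Set X) := hT ▸ le_normalizer_pCoreOf hRY
  have hRB : R ≤ normalizer (B : Set X) := hB ▸ le_normalizer_inf' hRY (le_normalizer_centralizer hRT)
  have hBY : B ≤ Y := hB ▸ inf_le_left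
  have hcom : ∀ y ∈ B, ∀ ρ ∈ R, ρ * y * ρ⁻¹ * y⁻¹ ∈ T := by
    refine commutator_fixed_mod hRB (hcop.coprime_dvd_right (card_dvd_of_le hBY)) hRT (hBY.trans hYT)
      (W := F.map Y.subtype) (fun y hy ρ hρ => ?_) ?_
    · have hwB : ρ * y * ρ⁻¹ * y⁻¹ ∈ B := mul_mem ((mem_normalizer_iff.1 (hRB hρ) y).1 hy) (B.inv_mem hy)
      refine ⟨⟨_, hBY hwB⟩, ?_, rfl⟩
      rw [SetLike.mem_coe, hF]
      refine CfsgLib.Comp.centralizer_Fstar_le (mem_centralizer_iff.2 fun g hg => ?_)
      have hle : closure S ⊔ Cfsg.pCore p ↥Y ≤ centralizer {(⟨_, hBY hwB⟩ : Y)} := by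
        refine sup_le ((closure_le _).2 fun k hk => ?_) fun t ht => ?_
        · rw [SetLike.mem_coe, mem_centralizer_singleton_iff]
          apply Subtype.ext
          refine mem_centralizer_iff.1 (comm_centralizes (S := Subtype.val '' S) ?_ ?_) _ ⟨k, hk, rfl⟩
          · rintro _ ⟨k', hk', rfl⟩
            refine ⟨⟨y, hBY hy⟩⁻¹ * k' * ⟨y, hBY hy⟩, ?_, by simp⟩
            rw [hS] at hk' ⊢
            refine ⟨by simpa using hFn.conj_mem k' hk'.1 (⟨y, hBY hy⟩ : Y)⁻¹, ?_⟩
            rw [show (⟨y, hBY hy⟩ : Y)⁻¹ * k' * ⟨y, hBY hy⟩ = (MulAut.conj (⟨y, hBY hy⟩ : Y)⁻¹).toMonoidHom k' by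
              simp, orderOf_injective _ (MulAut.conj _).injective]
            exact hk'.2
          · rintro _ ⟨k', hk', rfl⟩
            exact mem_centralizer_iff.1 (hSR k' hk') ρ hρ
        · rw [mem_centralizer_singleton_iff]
          apply Subtype.ext
          have hw : ρ * y * ρ⁻¹ * y⁻¹ ∈ Y ⊓ centralizer (T : Set X) := hB ▸ hwB
          exact mem_centralizer_iff.1 hw.2 _ (hT ▸ mem_map_of_mem _ ht)
      exact mem_centralizer_singleton_iff.1 (hle (hFle (hF ▸ hg)))
    · rintro _ ⟨z, hz, rfl⟩ ρ hρ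
      have hz' := hFle hz
      rw [mem_sup_of_normal_right] at hz'
      obtain ⟨o, ho, t, ht, rfl⟩ := hz'
      have hoR : (o : X) ∈ centralizer (R : Set X) :=
        ((closure_le _).2 hSR : closure S ≤ (centralizer (R : Set X)).comap Y.subtype) ho
      rw [map_mul]
      exact comm_mem_of_mul (hYT o.2) (hRT hρ) (mem_centralizer_iff.1 hoR ρ hρ) (hT ▸ mem_map_of_mem _ ht)
  intro x hx hco hxc
  rw [← hT] at hxc
  exact mem_centralizer_of_comm_mem (hT ▸ isPGroup_pCoreOf Y) hco hxc (hcom x (hB ▸ ⟨hx, hxc⟩))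

/-- To the statement's conclusion. -/
theorem le_of_fixes (h : Fixes p R Y) :
    R ≤ centralizer ((((Cfsg.pResidual p ↥(Cfsg.generalizedFittingSubgroup ↥Y)).map
      (Cfsg.generalizedFittingSubgroup ↥Y).subtype).map Y.subtype : Subgroup X) : Set X) := by
  rw [le_centralizer_iff, map_le_iff_le_comap, map_le_iff_le_comap]
  refine (closure_le _).2 fun g hg => ?_
  replace hg : (orderOf g).Coprime p := hg
  have hco : (orderOf (g : Y)).Coprime p := by rwa [orderOf_coe]
  refine h _ (g : Y).2 (by rwa [Subgroup.coe_subtype, Subgroup.coe_subtype, orderOf_coe]) (mem_centralizer_iff.2 ?_)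
  rintro _ ⟨t, ht, rfl⟩
  exact congrArg Subtype.val (mem_centralizer_iff.1 (mem_centralizer_pCore g.2 hco) t ht)

end CfsgLib.QuadEqui
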