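import Cfsg.Agent.QuadEqui.Invariant
import Cfsg.Agent.QuadEqui.Unip
import Cfsg.Agent.QuadFix.Stable

/-!
Passing to an invariant subspace and to the quotient by it; the irreducible case.
-/

set_option autoImplicit false
set_option linter.unusedSectionVars false
set_option linter.deprecated false
set_option linter.style.haveILetI false
set_option linter.unusedSimpArgs false

universe v

namespace CfsgLib.QuadEqui

open Cfsg CfsgLib.QP CfsgLib.QuadFix

variable {p : ℕ} [Fact p.Prime]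

/-- The statement for one group of automorphisms of `M`. -/
def Normalises (p : ℕ) [Fact p.Prime] (M : Type v) [AddCommGroup M] [Module (ZMod p) M]
    (Y : Subgroup (LinearMap.GeneralLinearGroup (ZMod p) M)) : Prop :=
  ∀ (A P : Subgroup (LinearMap.GeneralLinearGroup (ZMod p) M)),
    A ≤ Subgroup.normalizer (Y : Set (LinearMap.GeneralLinearGroup (ZMod p) M)) →
    (Nat.card A).Coprime (Nat.card Y) → (Odd (Nat.card A) ∨ Odd (Nat.card Y)) →
    P ≤ Y → IsPGroup p P → A ≤ Subgroup.normalizer (P : Set (LinearMap.GeneralLinearGroup (ZMod p) M)) →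
    Y ⊓ Subgroup.centralizer (A : Set (LinearMap.GeneralLinearGroup (ZMod p) M)) ≤
      Subgroup.normalizer (P : Set (LinearMap.GeneralLinearGroup (ZMod p) M)) →
    ∀ x ∈ P, ((x : Module.End (ZMod p) M) - 1) * ((x : Module.End (ZMod p) M) - 1) = 0 →
      ∃ I ≤ Y, IsUnipotentOn I ∧ (∀ g ∈ Y, conjBy I g = I) ∧ x ∈ I

variable {M : Type v} [AddCommGroup M] [Module (ZMod p) M] [FiniteDimensional (ZMod p) M]

local notation "GL" => LinearMap.GeneralLinearGroup (ZMod p) M
local notation "E" => Module.End (ZMod p) M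

theorem pow_val_eq_one {g : GL} {k : ℕ} (h : (((g : E) - 1) ^ p ^ k) = 0) : g ^ p ^ k = 1 := by
  rcases subsingleton_or_nontrivial M with hM | hM
  · exact Units.ext (LinearMap.ext fun m => Subsingleton.elim _ _)
  have : CharP E p := charP_of_injective_algebraMap (FaithfulSMul.algebraMap_injective (ZMod p) E) p
  apply Units.ext
  rw [Units.val_pow_eq_pow_val, Units.val_one, ← sub_eq_zero, ← one_pow (M := E) (p ^ k)]
  rw [← sub_pow_char_pow_of_commute (p := p) k (Commute.one_right (g : E)), h]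

/-- A unipotent group in characteristic `p` is a `p`-group. -/
theorem isPGroup_of_isUnipotentOn {H : Subgroup GL} (h : IsUnipotentOn H) : IsPGroup p H := by
  obtain ⟨n, hn⟩ := (unipotent_iff H).1 h
  intro g
  refine ⟨n, Subtype.ext ?_⟩
  rw [Subgroup.coe_pow, Subgroup.coe_one]
  refine pow_val_eq_one ?_
  have h1 := Submodule.pow_mem_pow _ (mem_lam g.2) n
  rw [hn, Submodule.mem_bot] at h1
  have hle : n ≤ p ^ n := (Nat.lt_pow_self (Fact.out : p.Prime).one_lt).le
  rw [← Nat.add_sub_cancel' hle, pow_add, h1, zero_mul]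

/-- Restriction to an invariant subspace. -/
noncomputable def resHom (W : Submodule (ZMod p) M) :
    setStab W →* LinearMap.GeneralLinearGroup (ZMod p) W :=
  MonoidHom.toHomUnits (G := setStab W) (M := Module.End (ZMod p) W)
    { toFun := fun g => ((g : GL) : E).restrict (fun m hm => by
        have := Submodule.mem_map_of_mem (f := ((g : GL) : E)) hm
        rwa [show W.map ((g : GL) : E) = W from g.2] at this)
      map_one' := rfl
      map_mul' := fun g h => rfl }

theorem resHom_apply (W : Submodule (ZMod p) M) (g : setStab W) (w : W) :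
    ((resHom W g : Module.End (ZMod p) W) w : M) = ((g : GL) : E) w := rfl

/-- The action on the quotient by an invariant subspace. -/
noncomputable def quotHom (W : Submodule (ZMod p) M) :
    setStab W →* LinearMap.GeneralLinearGroup (ZMod p) (M ⧸ W) :=
  MonoidHom.toHomUnits (G := setStab W) (M := Module.End (ZMod p) (M ⧸ W))
    { toFun := fun g => Submodule.mapQ W W ((g : GL) : E) (fun m hm => by
        have := Submodule.mem_map_of_mem (f := ((g : GL) : E)) hm
        rwa [show W.map ((g : GL) : E) = W from g.2] at this)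
      map_one' := LinearMap.ext fun x => by
        induction x using Submodule.Quotient.induction_on with
        | _ m => rfl
      map_mul' := fun g h => LinearMap.ext fun x => by
        induction x using Submodule.Quotient.induction_on with
        | _ m => rfl }

theorem quotHom_apply (W : Submodule (ZMod p) M) (g : setStab W) (m : M) :
    (quotHom W g : Module.End (ZMod p) (M ⧸ W)) (Submodule.Quotient.mk m) =
      Submodule.Quotient.mk (((g : GL) : E) m) := rfl

theorem exists_image {V : Type v} [AddCommGroup V] [Module (ZMod p) V] [FiniteDimensional (ZMod p) V]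
    {H : Subgroup GL} (f : H →* LinearMap.GeneralLinearGroup (ZMod p) V)
    (hV : ∀ Y' : Subgroup (LinearMap.GeneralLinearGroup (ZMod p) V), Normalises p V Y')
    {Y A P : Subgroup GL} (hYH : Y ≤ H) (hAH : A ≤ H) (hAY : A ≤ Subgroup.normalizer (Y : Set GL))
    (hcop : (Nat.card A).Coprime (Nat.card Y)) (hodd : Odd (Nat.card A) ∨ Odd (Nat.card Y))
    (hPY : P ≤ Y) (hPp : IsPGroup p P) (hAP : A ≤ Subgroup.normalizer (P : Set GL))
    (hCP : Y ⊓ Subgroup.centralizer (A : Set GL) ≤ Subgroup.normalizer (P : Set GL))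
    {x : H} (hx : (x : GL) ∈ P)
    (hx2 : ((f x : Module.End (ZMod p) V) - 1) * ((f x : Module.End (ZMod p) V) - 1) = 0) :
    ∃ J : Subgroup H, x ∈ J ∧ (∀ g : H, (g : GL) ∈ Y → ∀ j ∈ J, g * j * g⁻¹ ∈ J) ∧
      ∀ j ∈ J, ∃ k : ℕ, f j ^ p ^ k = 1 := by
  have hsub : ∀ {U U' : Subgroup GL}, U ≤ Subgroup.normalizer (U' : Set GL) →
      U.subgroupOf H ≤ Subgroup.normalizer (U'.subgroupOf H : Set H) := by
    intro U U' h g hg
    rw [Subgroup.mem_normalizer_iff]
    intro z
    exact Subgroup.mem_normalizer_iff.1 (h hg) (z : GL)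
  have hmap : ∀ {U U' : Subgroup H}, U ≤ Subgroup.normalizer (U' : Set H) →
      U.map f ≤ Subgroup.normalizer ((U'.map f : Subgroup (LinearMap.GeneralLinearGroup (ZMod p) V)) : Set _) :=
    fun h => (Subgroup.map_mono h).trans (Subgroup.le_normalizer_map f)
  have hcard : ∀ {U : Subgroup GL}, U ≤ H → Nat.card ((U.subgroupOf H).map f) ∣ Nat.card U := fun {U} h => by
    rw [← Nat.card_congr (Subgroup.subgroupOfEquivOfLe h).toEquiv]
    exact Subgroup.card_map_dvd _ _
  have hcopH : (Nat.card (A.subgroupOf H)).Coprime (Nat.card (Y.subgroupOf H)) := by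
    rw [Nat.card_congr (Subgroup.subgroupOfEquivOfLe hAH).toEquiv,
      Nat.card_congr (Subgroup.subgroupOfEquivOfLe hYH).toEquiv]
    exact hcop
  obtain ⟨I, -, hI, hIn, hxI⟩ := hV ((Y.subgroupOf H).map f) ((A.subgroupOf H).map f) ((P.subgroupOf H).map f)
    (hmap (hsub hAY)) ((hcop.coprime_dvd_left (hcard hAH)).coprime_dvd_right (hcard hYH))
    (hodd.imp (fun h => h.of_dvd_nat (hcard hAH)) (fun h => h.of_dvd_nat (hcard hYH)))
    (Subgroup.map_mono fun z hz => hPY hz) ((hPp.comap_subtype (K := H)).map f) (hmap (hsub hAP))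
    ((fixed_map_le f (hsub hAY) hcopH).trans (hmap fun z hz => by
      rw [Subgroup.mem_normalizer_iff]
      intro w
      refine Subgroup.mem_normalizer_iff.1 (hCP ⟨hz.1, Subgroup.mem_centralizer_iff.2 fun a ha => ?_⟩) (w : GL)
      exact congrArg Subtype.val (Subgroup.mem_centralizer_iff.1 hz.2 ⟨a, hAH ha⟩ ha)))
    (f x) ⟨x, hx, rfl⟩ hx2
  refine ⟨I.comap f, hxI, fun g hg j hj => ?_, fun j hj => ?_⟩
  · show f (g * j * g⁻¹) ∈ I
    rw [map_mul, map_mul, map_inv, ← hIn (f g) ⟨g, hg, rfl⟩]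
    exact CfsgLib.RankOne.conj_mem_conjBy hj
  · obtain ⟨k, hk⟩ := isPGroup_of_isUnipotentOn hI ⟨f j, hj⟩
    exact ⟨k, congrArg Subtype.val hk⟩

/-- The reduction to an invariant subspace and the quotient by it. -/
theorem normalises_of_invariant {Y A P : Subgroup GL} {W : Submodule (ZMod p) M}
    (hWY : Invariant Y W) (hWA : Invariant A W)
    (hW : ∀ Y' : Subgroup (LinearMap.GeneralLinearGroup (ZMod p) W), Normalises p W Y')
    (hQ : ∀ Y' : Subgroup (LinearMap.GeneralLinearGroup (ZMod p) (M ⧸ W)), Normalises p (M ⧸ W) Y')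
    (hAY : A ≤ Subgroup.normalizer (Y : Set GL))
    (hcop : (Nat.card A).Coprime (Nat.card Y)) (hodd : Odd (Nat.card A) ∨ Odd (Nat.card Y))
    (hPY : P ≤ Y) (hPp : IsPGroup p P) (hAP : A ≤ Subgroup.normalizer (P : Set GL))
    (hCP : Y ⊓ Subgroup.centralizer (A : Set GL) ≤ Subgroup.normalizer (P : Set GL))
    {x : GL} (hx : x ∈ P) (hx2 : ((x : E) - 1) * ((x : E) - 1) = 0) :
    ∃ I ≤ Y, IsUnipotentOn I ∧ (∀ g ∈ Y, conjBy I g = I) ∧ x ∈ I := by
  have hstab : ∀ {U : Subgroup GL}, Invariant U W → U ≤ setStab W := fun {U} hU g hg =>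
    Submodule.eq_of_le_of_finrank_le (Submodule.map_le_iff_le_comap.2 fun m hm => hU g hg m hm)
      (le_of_eq (W.equivMapOfInjective _ ((Module.End.isUnit_iff _).1 g.isUnit).1).finrank_eq)
  have hYH := hstab hWY
  have hAH := hstab hWA
  have hxH : x ∈ setStab W := hYH (hPY hx)
  have hres : ((resHom W ⟨x, hxH⟩ : Module.End (ZMod p) W) - 1) * ((resHom W ⟨x, hxH⟩ : Module.End (ZMod p) W) - 1) = 0 := by
    refine LinearMap.ext fun w => Subtype.ext ?_
    exact LinearMap.congr_fun hx2 (w : M)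
  have hquot : ((quotHom W ⟨x, hxH⟩ : Module.End (ZMod p) (M ⧸ W)) - 1) *
      ((quotHom W ⟨x, hxH⟩ : Module.End (ZMod p) (M ⧸ W)) - 1) = 0 := by
    refine LinearMap.ext fun z => ?_
    induction z using Submodule.Quotient.induction_on with
    | _ m =>
      have h := congrArg (Submodule.Quotient.mk (p := W)) (LinearMap.congr_fun hx2 m)
      exact h
  obtain ⟨J₁, hxJ₁, hJ₁n, hJ₁p⟩ := exists_image (resHom W) hW hYH hAH hAY hcop hodd hPY hPp hAP hCP
    (x := ⟨x, hxH⟩) hx hres
  obtain ⟨J₂, hxJ₂, hJ₂n, hJ₂p⟩ := exists_image (quotHom W) hQ hYH hAH hAY hcop hodd hPY hPp hAP hCP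
    (x := ⟨x, hxH⟩) hx hquot
  obtain ⟨J, hJ⟩ : ∃ J : Subgroup (setStab W), J = Y.subgroupOf (setStab W) ⊓ (J₁ ⊓ J₂) := ⟨_, rfl⟩
  refine ⟨J.map (setStab W).subtype, ?_, isUnipotentOn_of_isPGroup (p := p) ?_, fun g hg => ?_, ⟨⟨x, hxH⟩, ?_, rfl⟩⟩
  · rintro _ ⟨j, hj, rfl⟩
    rw [hJ] at hj
    exact hj.1
  · rintro ⟨_, j, hj, rfl⟩
    rw [hJ] at hj
    obtain ⟨k₁, hk₁⟩ := hJ₁p j hj.2.1
    obtain ⟨k₂, hk₂⟩ := hJ₂p j hj.2.2
    obtain ⟨N, hN⟩ : ∃ N, N = p ^ (k₁ + k₂) := ⟨_, rfl⟩
    have h1 : resHom W (j ^ N) = 1 := by rw [map_pow, hN, pow_add, pow_mul, hk₁, one_pow]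
    have h2 : quotHom W (j ^ N) = 1 := by rw [map_pow, hN, pow_add, mul_comm, pow_mul, hk₂, one_pow]
    obtain ⟨u, hu⟩ : ∃ u, u = ((j ^ N : setStab W) : GL) := ⟨_, rfl⟩
    have hsq : ((u : E) - 1) ^ p ^ 1 = 0 := by
      have h0 : ((u : E) - 1) * ((u : E) - 1) = 0 := by
        refine LinearMap.ext fun m => ?_
        have hm : ((u : E) - 1) m ∈ W := by
          have e := LinearMap.congr_fun (congrArg (fun g : LinearMap.GeneralLinearGroup (ZMod p) (M ⧸ W) =>
            (g : Module.End (ZMod p) (M ⧸ W))) h2) (Submodule.Quotient.mk m)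
          rw [quotHom_apply, Units.val_one, Module.End.one_apply, Submodule.Quotient.eq, ← hu] at e
          exact e
        have e := congrArg (fun v : W => (v : M)) (LinearMap.congr_fun
          (congrArg (fun g : LinearMap.GeneralLinearGroup (ZMod p) W => (g : Module.End (ZMod p) W)) h1)
          ⟨_, hm⟩)
        simp only [resHom_apply, Units.val_one, Module.End.one_apply, ← hu] at e
        rw [Module.End.mul_apply, LinearMap.sub_apply, e, Module.End.one_apply, sub_self]
        rfl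
      rw [pow_one, show ((u : E) - 1) ^ p = ((u : E) - 1) ^ (p - 2) * ((u : E) - 1) ^ 2 by
        rw [← pow_add, Nat.sub_add_cancel (Fact.out : p.Prime).two_le], pow_two, h0, mul_zero]
    refine ⟨k₁ + k₂ + 1, Subtype.ext ?_⟩
    have := pow_val_eq_one hsq
    rw [hu, Subgroup.coe_pow, ← pow_mul, hN, ← pow_add] at this
    exact this
  · refine CfsgLib.RankOne.conjBy_eq_self_iff.2 (Subgroup.mem_normalizer_iff.2 fun z => ?_)
    have hfwd : ∀ g ∈ Y, ∀ z ∈ J.map (setStab W).subtype, g * z * g⁻¹ ∈ J.map (setStab W).subtype := by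
      rintro g hg _ ⟨j, hj, rfl⟩
      rw [hJ] at hj ⊢
      exact ⟨⟨g, hYH hg⟩ * j * ⟨g, hYH hg⟩⁻¹, ⟨(Y.subgroupOf (setStab W)).mul_mem
        ((Y.subgroupOf (setStab W)).mul_mem (x := ⟨g, hYH hg⟩) hg hj.1)
        ((Y.subgroupOf (setStab W)).inv_mem (x := ⟨g, hYH hg⟩) hg),
        hJ₁n ⟨g, hYH hg⟩ hg j hj.2.1, hJ₂n ⟨g, hYH hg⟩ hg j hj.2.2⟩, rfl⟩
    refine ⟨hfwd g hg z, fun h => ?_⟩
    have := hfwd _ (inv_mem hg) _ h
    simpa [mul_assoc] using this
  · rw [hJ]; exact ⟨hPY hx, hxJ₁, hxJ₂⟩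

/-- Facts about an irreducible normalised group. -/
theorem irreducible_facts {Y A : Subgroup GL} (hAY : A ≤ Subgroup.normalizer (Y : Set GL))
    (hY1 : Y ≠ ⊥) (hirr : ∀ W : Submodule (ZMod p) M, Invariant Y W → Invariant A W → W = ⊥ ∨ W = ⊤) :
    RadFree Y ∧ Semisimple Y ∧ NoFixed Y := by
  have hM : Nontrivial M := by
    by_contra h
    rw [not_nontrivial_iff_subsingleton] at h
    refine hY1 ((Subgroup.eq_bot_iff_forall Y).2 fun g _ => Units.ext (LinearMap.ext fun m => Subsingleton.elim _ _))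
  have hconjY : ∀ a ∈ A, conjBy Y a = Y := fun a ha => CfsgLib.RankOne.conjBy_eq_self_iff.2 (hAY ha)
  refine ⟨fun I hIY hI hIn => ?_, ?_, ?_⟩
  · obtain ⟨𝒲, h𝒲⟩ : ∃ 𝒲 : Set (Subgroup GL),
        𝒲 = {J | J ≤ Y ∧ IsUnipotentOn J ∧ ∀ g ∈ Y, conjBy J g = J} := ⟨_, rfl⟩
    have hWY : ∀ J ∈ 𝒲, J ≤ Y := fun J hJ => (h𝒲 ▸ hJ : J ∈ {J | J ≤ Y ∧ IsUnipotentOn J ∧ ∀ g ∈ Y, conjBy J g = J}).1
    have hWconjY : ∀ J ∈ 𝒲, ∀ g ∈ Y, conjBy J g ∈ 𝒲 := fun J hJ g hg => by
      have h : J ≤ Y ∧ IsUnipotentOn J ∧ ∀ g ∈ Y, conjBy J g = J := by rw [h𝒲] at hJ; exact hJ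
      rw [h.2.2 g hg]; exact hJ
    have hWW : ∀ J ∈ 𝒲, ∀ J' ∈ 𝒲, IsUnipotentOn (J ⊔ J') := by
      rw [h𝒲]
      exact fun J hJ J' hJ' => isUnipotentOn_sup hJ.2.1 hJ'.2.1 fun b hb => hJ.2.2 b (hJ'.1 hb)
    have hWconjA : ∀ J ∈ 𝒲, ∀ a ∈ A, conjBy J a ∈ 𝒲 := by
      rw [h𝒲]
      rintro J ⟨h1, h2, h3⟩ a ha
      refine ⟨hconjY a ha ▸ Subgroup.map_mono h1, isUnipotentOn_conjBy h2 a, fun g hg => ?_⟩
      rw [CfsgLib.RankOne.conjBy_conjBy, show g * a = a * (a⁻¹ * g * a) by group,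
        ← CfsgLib.RankOne.conjBy_conjBy, h3 _ ?_]
      have := (Subgroup.mem_normalizer_iff.1 (hAY (inv_mem ha)) g).1 hg
      rwa [inv_inv] at this
    obtain ⟨O, hO⟩ : ∃ O : Subgroup GL, O = supW 𝒲 := ⟨_, rfl⟩
    have hOu : IsUnipotentOn O := hO ▸ unipotent_of_pairs hWY hWW hWconjY
    obtain ⟨m, hm⟩ := exists_ne (0 : M)
    obtain ⟨v, hv0, hv⟩ := exists_fixed_ne_zero hOu hm
    have hmem : ∀ {w}, w ∈ fixedSubmodule O ↔ ∀ a ∈ O, (a : E) w = w := by
      intro w; simp [fixedSubmodule, Submodule.mem_iInf, sub_eq_zero]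
    have hinv : ∀ {U : Subgroup GL}, (∀ J ∈ 𝒲, ∀ g ∈ U, conjBy J g ∈ 𝒲) → Invariant U (fixedSubmodule O) := by
      intro U hU g hg w hw
      refine hmem.2 fun a ha => ?_
      rw [hO, ← conjBy_supW_eq hU hg] at ha
      obtain ⟨b, hb, rfl⟩ := ha
      show ((g * b * g⁻¹ : GL) : E) ((g : E) w) = (g : E) w
      rw [← Module.End.mul_apply, ← Units.val_mul, inv_mul_cancel_right, Units.val_mul, Module.End.mul_apply,
        hmem.1 hw b (hO ▸ hb)]
    rcases hirr _ (hinv hWconjY) (hinv hWconjA) with h | h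
    · refine absurd ?_ hv0
      have : v ∈ fixedSubmodule O := hmem.2 fun a ha => sub_eq_zero.1 (hv a ha)
      rwa [h, Submodule.mem_bot] at this
    · refine (Subgroup.eq_bot_iff_forall I).2 fun g hg => Units.ext (LinearMap.ext fun w => ?_)
      exact hmem.1 (h ▸ Submodule.mem_top : w ∈ fixedSubmodule O) g
        (hO ▸ le_supW (h𝒲 ▸ ⟨hIY, hI, hIn⟩) hg)
  · obtain ⟨Soc, hSoc⟩ : ∃ Soc : Submodule (ZMod p) M,
        Soc = sSup {W | Invariant Y W ∧ W ≠ ⊥ ∧ ∀ W', Invariant Y W' → W' ≤ W → W' = ⊥ ∨ W' = W} := ⟨_, rfl⟩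
    have hinvY : Invariant Y Soc := by
      intro g hg
      have hle : Soc ≤ Soc.comap (g : E) := by
        nth_rw 1 [hSoc]
        refine sSup_le fun W hW w hw => ?_
        exact (le_sSup hW : W ≤ sSup _).trans_eq hSoc.symm (hW.1 g hg w hw)
      exact fun w hw => hle hw
    have hinvA : Invariant A Soc := by
      intro a ha
      have hle : Soc ≤ Soc.comap (a : E) := by
        nth_rw 1 [hSoc]
        refine sSup_le ?_
        rintro W ⟨hW, hW0, hWmin⟩
        have hinvW : ∀ {U : Submodule (ZMod p) M} {b : GL}, b ∈ A → Invariant Y U → Invariant Y (U.map (b : E)) := by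
          rintro U b hb hU g hg _ ⟨u, hu, rfl⟩
          have hg' : b⁻¹ * g * b ∈ Y := by
            have := (Subgroup.mem_normalizer_iff.1 (hAY (inv_mem hb)) g).1 hg
            rwa [inv_inv] at this
          refine ⟨_, hU _ hg' u hu, ?_⟩
          rw [← Module.End.mul_apply, ← Module.End.mul_apply, ← Units.val_mul, ← Units.val_mul]
          congr 2
          group
        refine Submodule.map_le_iff_le_comap.1 (le_trans ?_ hSoc.ge)
        refine le_sSup ⟨hinvW ha hW, fun e => hW0 ?_, fun W' hW' hle => ?_⟩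
        · rw [eq_bot_iff]
          intro w hw
          have h0 : (a : E) w = 0 := by
            rw [← Submodule.mem_bot (ZMod p), ← e]; exact Submodule.mem_map_of_mem hw
          exact ((Module.End.isUnit_iff _).1 a.isUnit).1 (h0.trans (map_zero _).symm)
        · have hback : W'.map ((a⁻¹ : GL) : E) ≤ W := by
            rintro _ ⟨w, hw, rfl⟩
            obtain ⟨u, hu, rfl⟩ := hle hw
            rw [← Module.End.mul_apply, Units.inv_mul]
            exact hu
          have hid : (W'.map ((a⁻¹ : GL) : E)).map (a : E) = W' := by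
            rw [← Submodule.map_comp, ← Module.End.mul_eq_comp, Units.mul_inv]; exact Submodule.map_id W'
          rcases hWmin _ (hinvW (inv_mem ha) hW') hback with h | h
          · exact Or.inl (by rw [← hid, h, Submodule.map_bot])
          · exact Or.inr (by rw [← hid, h])
      exact fun w hw => hle hw
    have hmin : ∀ U : Submodule (ZMod p) M, Invariant Y U → U ≠ ⊥ →
        ∃ W, W ≤ U ∧ Invariant Y W ∧ W ≠ ⊥ ∧ ∀ W', Invariant Y W' → W' ≤ W → W' = ⊥ ∨ W' = W := by
      intro U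
      induction hd : Module.finrank (ZMod p) U using Nat.strong_induction_on generalizing U with
      | _ d ih =>
        subst hd
        intro hU hU0
        by_cases h : ∀ W', Invariant Y W' → W' ≤ U → W' = ⊥ ∨ W' = U
        · exact ⟨U, le_rfl, hU, hU0, h⟩
        push Not at h
        obtain ⟨W', hW', hle, h0, hne⟩ := h
        obtain ⟨W, hWle, hW⟩ := ih _ (Submodule.finrank_lt_finrank_of_lt (lt_of_le_of_ne hle hne)) W' rfl hW' h0
        exact ⟨W, hWle.trans hle, hW⟩
    have htop : Soc = ⊤ := by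
      refine (hirr Soc hinvY hinvA).resolve_left fun h => ?_
      obtain ⟨W, -, hW⟩ := hmin ⊤ (fun _ _ _ _ => Submodule.mem_top) top_ne_bot
      have hle : W ≤ Soc := by rw [hSoc]; exact le_sSup hW
      rw [h, le_bot_iff] at hle
      exact hW.2.1 hle
    intro W hW
    obtain ⟨C, -, ⟨hC, hdisj⟩, hmax⟩ := exists_maximal_ge_of_wellFoundedGT
      (fun C : Submodule (ZMod p) M => Invariant Y C ∧ W ⊓ C = ⊥) ⊥
      ⟨fun g _ m hm => by rw [Submodule.mem_bot] at hm ⊢; rw [hm, map_zero], inf_bot_eq W⟩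
    refine ⟨C, hC, disjoint_iff.2 hdisj, codisjoint_iff.2 ?_⟩
    rw [eq_top_iff, ← htop, hSoc]
    refine sSup_le ?_
    rintro U ⟨hU, -, hUmin⟩
    have hWC : Invariant Y (W ⊔ C) := fun g hg m hm => by
      obtain ⟨a, ha, b, hb, rfl⟩ := Submodule.mem_sup.1 hm
      rw [map_add]
      exact add_mem (Submodule.mem_sup_left (hW g hg a ha)) (Submodule.mem_sup_right (hC g hg b hb))
    rcases hUmin _ (hU.inf hWC) inf_le_left with h | h
    · have hCU : Invariant Y (C ⊔ U) := fun g hg m hm => by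
        obtain ⟨a, ha, b, hb, rfl⟩ := Submodule.mem_sup.1 hm
        rw [map_add]
        exact add_mem (Submodule.mem_sup_left (hC g hg a ha)) (Submodule.mem_sup_right (hU g hg b hb))
      have hd : W ⊓ (C ⊔ U) = ⊥ := by
        rw [eq_bot_iff]
        rintro w ⟨hw, hw'⟩
        obtain ⟨c, hc, s, hs, rfl⟩ := Submodule.mem_sup.1 hw'
        have hs0 : s = 0 := by
          have : s ∈ U ⊓ (W ⊔ C) := ⟨hs, by
            have := sub_mem (Submodule.mem_sup_left hw : c + s ∈ W ⊔ C) (Submodule.mem_sup_right hc)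
            rwa [add_sub_cancel_left] at this⟩
          rwa [h, Submodule.mem_bot] at this
        rw [hs0, add_zero] at hw ⊢
        rw [← hdisj]
        exact ⟨hw, hc⟩
      have := hmax ⟨hCU, hd⟩ le_sup_left
      exact le_trans (le_trans le_sup_right this) le_sup_right
    · rw [← h]; exact inf_le_right
  · intro m hm
    obtain ⟨F, hF⟩ : ∃ F : Submodule (ZMod p) M, F = fixedSubmodule Y := ⟨_, rfl⟩
    have hmem : ∀ {w}, w ∈ F ↔ ∀ a ∈ Y, (a : E) w = w := by
      intro w; rw [hF]; simp [fixedSubmodule, Submodule.mem_iInf, sub_eq_zero]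
    have hinvA : Invariant A F := by
      intro a ha w hw
      refine hmem.2 fun g hg => ?_
      rw [← hconjY a ha] at hg
      obtain ⟨b, hb, rfl⟩ := hg
      show ((a * b * a⁻¹ : GL) : E) ((a : E) w) = (a : E) w
      rw [← Module.End.mul_apply, ← Units.val_mul, inv_mul_cancel_right, Units.val_mul, Module.End.mul_apply,
        hmem.1 hw b hb]
    rcases hirr F (fun g hg w hw => by rw [hmem.1 hw g hg]; exact hw) hinvA with h | h
    · have : m ∈ F := hmem.2 hm
      rwa [h, Submodule.mem_bot] at this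
    · exfalso
      refine hY1 ((Subgroup.eq_bot_iff_forall Y).2 fun g hg => Units.ext (LinearMap.ext fun w => ?_))
      exact hmem.1 (h ▸ Submodule.mem_top : w ∈ F) g hg

end CfsgLib.QuadEqui
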