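import Cfsg.Agent.RootSubgroups.RankOne
import Mathlib.GroupTheory.NoncommPiCoprod
import Mathlib.GroupTheory.GroupAction.Quotient

/-!
Spreading the fixed points of the stabiliser of a factor over its pairwise commuting conjugates.
-/

set_option autoImplicit false
set_option linter.unusedSectionVars false
set_option linter.style.haveILetI false

namespace CfsgLib.QuadEqui

open Cfsg

variable {G : Type*} [Group G] [Finite G]

/-- If the conjugates of `L` under `A` other than `L` commute with it, the fixed points in `L` of its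
stabiliser in `A` map to the fixed points of `A`, each lift differing from the original by an element centralising `L`. -/
theorem exists_spread_coset (A L Y : Subgroup G) (hLY : L ≤ Y)
    (hAY : A ≤ Subgroup.normalizer (Y : Set G))
    (hcomm : ∀ a ∈ A, a ∉ Subgroup.normalizer (L : Set G) → ∀ x ∈ L, ∀ y ∈ L,
      x * (a * y * a⁻¹) = a * y * a⁻¹ * x) :
    ∃ δ : ↥(L ⊓ Subgroup.centralizer ((A ⊓ Subgroup.normalizer (L : Set G) : Subgroup G) : Set G)) →*
        ↥(Y ⊓ Subgroup.centralizer (A : Set G)),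
      ∀ x : ↥(L ⊓ Subgroup.centralizer ((A ⊓ Subgroup.normalizer (L : Set G) : Subgroup G) : Set G)),
        (x : G)⁻¹ * (δ x : G) ∈ Subgroup.centralizer (L : Set G) := by
  classical
  set N := Subgroup.normalizer (L : Set G) with hN
  set D := L ⊓ Subgroup.centralizer ((A ⊓ N : Subgroup G) : Set G) with hD
  let Ω := ↥A ⧸ N.subgroupOf A
  let _ := Fintype.ofFinite Ω
  let f : Ω → ↥D →* G := fun q => (MulAut.conj ((q.out : A) : G)).toMonoidHom.comp D.subtype
  have hf : ∀ (q : Ω) (x : D), f q x = ((q.out : A) : G) * x * ((q.out : A) : G)⁻¹ := fun q x => rfl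
  have hne : ∀ {q q' : Ω}, q ≠ q' → ((q.out : A) : G)⁻¹ * ((q'.out : A) : G) ∉ N := by
    intro q q' hqq h
    apply hqq
    rw [← QuotientGroup.out_eq' q, ← QuotientGroup.out_eq' q']
    refine QuotientGroup.eq.2 ?_
    rw [Subgroup.mem_subgroupOf]
    simpa using h
  have hpair : Pairwise fun q q' : Ω => ∀ x y : D, Commute (f q x) (f q' y) := by
    intro q q' hqq x y
    have h := hcomm _ (mul_mem (inv_mem (q.out : A).2) (q'.out : A).2) (hne hqq) x x.2.1 y y.2.1
    rw [hf, hf]
    set a := ((q.out : A) : G)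
    set b := ((q'.out : A) : G)
    calc a * x * a⁻¹ * (b * y * b⁻¹) = a * (x * (a⁻¹ * b * y * (a⁻¹ * b)⁻¹)) * a⁻¹ := by group
      _ = a * (a⁻¹ * b * y * (a⁻¹ * b)⁻¹ * x) * a⁻¹ := by rw [h]
      _ = b * y * b⁻¹ * (a * x * a⁻¹) := by group
  let P : (Ω → D) →* G := MonoidHom.noncommPiCoprod f hpair
  let diag : D →* (Ω → D) := MonoidHom.mk' (fun x _ => x) (fun _ _ => rfl)
  have hmemY : ∀ g : Ω → D, P g ∈ Y := fun g => by
    show Finset.univ.noncommProd (fun q => f q (g q)) (fun _ _ _ _ h => hpair h _ _) ∈ Y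
    refine Subgroup.noncommProd_mem Y _ fun q _ => ?_
    rw [hf]
    exact (Subgroup.mem_normalizer_iff.1 (hAY (q.out : A).2) _).1 (hLY (g q).2.1)
  have hfix : ∀ (a : A) (x : D), (a : G) * P (diag x) * (a : G)⁻¹ = P (diag x) := by
    intro a x
    let perm : (Ω → D) →* (Ω → D) := MonoidHom.mk' (fun g q => g (a⁻¹ • q)) (fun _ _ => rfl)
    have key : (MulAut.conj (a : G)).toMonoidHom.comp P = P.comp perm := by
      apply (MonoidHom.noncommPiCoprodEquiv (N := fun _ : Ω => D) (M := G)).symm.injective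
      refine Subtype.ext (funext fun q => MonoidHom.ext fun y => ?_)
      have hperm : perm (Pi.mulSingle q y) = Pi.mulSingle (a • q) y := by
        funext r
        show (Pi.mulSingle q y : Ω → D) (a⁻¹ • r) = _
        rcases eq_or_ne r (a • q) with rfl | hr
        · rw [inv_smul_smul, Pi.mulSingle_eq_same, Pi.mulSingle_eq_same]
        · rw [Pi.mulSingle_eq_of_ne hr, Pi.mulSingle_eq_of_ne fun e => hr (inv_smul_eq_iff.1 e)]
      show (a : G) * P (Pi.mulSingle q y) * (a : G)⁻¹ = P (perm (Pi.mulSingle q y))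
      rw [hperm, MonoidHom.noncommPiCoprod_mulSingle, MonoidHom.noncommPiCoprod_mulSingle, hf, hf]
      obtain ⟨m, hm⟩ := QuotientGroup.mk_out_eq_mul (N.subgroupOf A) (a * q.out)
      have e : (a • q : Ω) = QuotientGroup.mk (a * q.out) := by
        conv_lhs => rw [← QuotientGroup.out_eq' q]
        rfl
      rw [e, hm]
      have hmy : ((m : A) : G) * y * ((m : A) : G)⁻¹ = y := by
        have hmem : ((m : A) : G) ∈ A ⊓ N := ⟨(m : A).2, Subgroup.mem_subgroupOf.1 m.2⟩
        rw [Subgroup.mem_centralizer_iff.1 y.2.2 _ hmem, mul_inv_cancel_right]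
      push_cast
      conv_lhs => rw [← hmy]
      group
    have := DFunLike.congr_fun key (diag x)
    exact this
  let δ : D →* ↥(Y ⊓ Subgroup.centralizer (A : Set G)) := (P.comp diag).codRestrict _ fun x =>
    ⟨hmemY _, Subgroup.mem_centralizer_iff.2 fun a ha => by
      have := hfix ⟨a, ha⟩ x
      exact mul_inv_eq_iff_eq_mul.1 this⟩
  refine ⟨δ, fun x => ?_⟩
  let q₀ : Ω := QuotientGroup.mk 1
  have hq₀ : f q₀ x = (x : G) := by
    obtain ⟨m, hm⟩ := QuotientGroup.mk_out_eq_mul (N.subgroupOf A) 1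
    have hmem : ((m : A) : G) ∈ A ⊓ N := ⟨(m : A).2, Subgroup.mem_subgroupOf.1 m.2⟩
    rw [hf, show (q₀.out : A) = 1 * (m : A) from hm, one_mul,
      Subgroup.mem_centralizer_iff.1 x.2.2 _ hmem, mul_inv_cancel_right]
  have hsplit : diag x = Pi.mulSingle q₀ x * Function.update (diag x) q₀ 1 := by
    funext r
    rcases eq_or_ne r q₀ with rfl | hr
    · show x = _ * _
      rw [Pi.mulSingle_eq_same, Function.update_self, mul_one]
    · show x = _ * _
      rw [Pi.mulSingle_eq_of_ne hr, Function.update_of_ne hr, one_mul]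
      rfl
  have hrest : P (Function.update (diag x) q₀ 1) ∈ Subgroup.centralizer (L : Set G) := by
    show Finset.univ.noncommProd (fun q => f q (Function.update (diag x) q₀ 1 q))
      (fun _ _ _ _ h => hpair h _ _) ∈ Subgroup.centralizer (L : Set G)
    refine Subgroup.noncommProd_mem _ _ fun q _ => ?_
    rcases eq_or_ne q q₀ with rfl | hq
    · rw [Function.update_self, map_one]; exact one_mem _
    rw [Function.update_of_ne hq, hf, Subgroup.mem_centralizer_iff]
    intro z hz
    refine hcomm _ (q.out : A).2 (fun h => hq ?_) z hz _ x.2.1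
    rw [← QuotientGroup.out_eq' q]
    refine QuotientGroup.eq.2 ?_
    rw [mul_one, Subgroup.mem_subgroupOf]
    exact inv_mem h
  show (x : G)⁻¹ * P (diag x) ∈ _
  rw [hsplit, map_mul, MonoidHom.noncommPiCoprod_mulSingle, hq₀, inv_mul_cancel_left]
  exact hrest

end CfsgLib.QuadEqui
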