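import Cfsg.Agent.QuadEqui.Stabilise
import Cfsg.Agent.QuadEqui.Level
import Cfsg.Agent.QuadEqui.Reduce
import Cfsg.Agent.QuadEqui.Spread

/-!
A quadratic element of a `p`-subgroup normalised by a coprime group of operators and by its fixed points
lies in a normal unipotent subgroup, for `p ≥ 5`.
-/

set_option autoImplicit false
set_option linter.unusedSectionVars false
set_option linter.deprecated false
set_option linter.style.haveILetI false
set_option linter.unusedSimpArgs false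

universe v

namespace CfsgLib.QuadEqui

open Cfsg CfsgLib.QP CfsgLib.QuadFix

variable {p : ℕ} [Fact p.Prime] {M : Type v} [AddCommGroup M] [Module (ZMod p) M] [FiniteDimensional (ZMod p) M]

local notation "GL" => LinearMap.GeneralLinearGroup (ZMod p) M
local notation "E" => Module.End (ZMod p) M

variable {Y A P : Subgroup (LinearMap.GeneralLinearGroup (ZMod p) M)} {x : LinearMap.GeneralLinearGroup (ZMod p) M}

/-- A group with a pair of opposite roots has even order. -/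
theorem two_dvd_card (hp : 5 ≤ p) {S T : E} (G : Gr Y S T) : 2 ∣ Nat.card Y := by
  obtain ⟨h2, -, -⟩ := two_three (p := p) hp
  obtain ⟨t, htY, ht⟩ := G.exists_torusElem (-1)
  rw [inv_neg, inv_one, Units.val_neg, Units.val_one, neg_one_smul, neg_one_smul] at ht
  have h1 : orderOf t = 2 := by
    refine orderOf_eq_prime ?_ fun e => ?_
    · refine Units.ext ?_
      rw [pow_two, Units.val_mul, ht, Units.val_one, ← G.one_eq]
      simp only [mul_add, add_mul, mul_neg, neg_mul, neg_neg, G.mid_mid, mul_assoc, G.TST, G.STS, G.SS', G.TT',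
        G.mid_S', G.mid_T', G.S_mid, G.T_mid, mul_zero, neg_zero, add_zero, zero_add]
    · rw [e, Units.val_one] at ht
      have h := congrArg (· * S) ht
      simp only [one_mul, add_mul, neg_mul, G.mid_S, G.sts, mul_assoc T, G.SS, mul_zero, neg_zero, zero_add,
        add_zero] at h
      have h' : (2 : ZMod p) • S = 0 := by rw [two_smul]; nth_rw 1 [h]; exact neg_add_cancel S
      exact G.hS.ne ((smul_eq_zero.1 h').resolve_left h2)
  rw [← h1]
  exact Y.orderOf_dvd_natCard htY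

/-- The irreducible case with a single component. -/
theorem eq_one_of_comp (hp : 5 ≤ p) {S₀ : E} (hS₀ : IsMinRoot Y S₀) (hcomp : comp Y S₀ = Y) (hrad : RadFree Y)
    (hss : Semisimple Y) (hfix : NoFixed Y) (hAY : A ≤ Subgroup.normalizer (Y : Set GL))
    (hcop : (Nat.card A).Coprime (Nat.card Y)) (hodd : Odd (Nat.card A) ∨ Odd (Nat.card Y))
    (hPY : P ≤ Y) (hPp : IsPGroup p P) (hAP : A ≤ Subgroup.normalizer (P : Set GL))
    (hCP : Y ⊓ Subgroup.centralizer (A : Set GL) ≤ Subgroup.normalizer (P : Set GL))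
    (hx : x ∈ P) (hx2 : ((x : E) - 1) * ((x : E) - 1) = 0)
    (ih : ∀ Y' : Subgroup GL, Nat.card Y' < Nat.card Y → Normalises p M Y') : x = 1 := by
  obtain ⟨h2, -, h3⟩ := two_three (p := p) hp
  have hopp := hrad.hasOpposites h2 h3
  have hoddA : Odd (Nat.card A) := by
    refine hodd.resolve_right fun h => ?_
    obtain ⟨T₀, hT₀, hne₀⟩ := hopp _ hS₀
    obtain ⟨V, hV, -, h1, h1'⟩ := exists_normal_opposite hS₀ hT₀ h2 h3 hne₀
    exact (Nat.not_even_iff_odd.2 h) (even_iff_two_dvd.2 (two_dvd_card hp ⟨hS₀, hV, h1, h1'⟩))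
  have hsolA : Group.IsSolvable A := CfsgLib.OddEnd.odd_solvable _ hoddA
  obtain ⟨U, U', hU, hU', hcU, hne, hfixU⟩ := exists_fixed_pair (p := p) hp hS₀ hopp h2 h3 hAY
    (by rw [hcomp]; exact hAY) hoddA hsolA (by rw [hcomp]; exact hcop)
  obtain ⟨V, hV, hVU', hUVU, hVUV⟩ := exists_normal_opposite hU hU' h2 h3 hne
  have G : Gr Y U V := ⟨hU, hV, hUVU, hVUV⟩
  obtain ⟨-, hkV, hrV⟩ := hU'.of_mem_rootSpace hVU' hV.ne
  have hYa : ∀ a ∈ A, conjBy Y a = Y := fun a ha => CfsgLib.RankOne.conjBy_eq_self_iff.2 (hAY ha)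
  have hfixV : ∀ a ∈ A, conjEnd a V = V := by
    intro a ha
    obtain ⟨hfU, hfU'⟩ := hfixU a ha
    refine G.eq_of_opposite ⟨?_, ?_, hV.fam.conj_of_normalizes (hYa a ha)⟩ ?_
    · rw [hkV, ker_conjEnd, hkV, ← ker_conjEnd, hfU']
    · rw [hrV, range_conjEnd, hrV, ← range_conjEnd, hfU']
    · calc U * conjEnd a V * U = conjEnd a (U * V * U) := by rw [← conjEnd_mul, ← conjEnd_mul, hfU]
        _ = U := by rw [hUVU, hfU]
  have hYU : Y ≤ comp Y U := by rw [← comp_congr hcU h2 h3, hcomp]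
  have hcUV : Conn Y U V := conn_single hU hV (by rw [hUVU]; exact hU.ne)
  have hYV : Y ≤ comp Y V := by rw [← comp_congr hcUV h2 h3]; exact hYU
  have hsol : Group.IsSolvable A ∨ Group.IsSolvable Y := Or.inl hsolA
  have hxU := G.fixes_root hp hYU hrad hss hfix hAY hcop hsol (fun a ha => (hfixU a ha).1) hfixV hPY hPp hAP hCP hx
  have hxV := G.symm.fixes_root hp hYV hrad hss hfix hAY hcop hsol hfixV (fun a ha => (hfixU a ha).1) hPY hPp hAP
    hCP hx
  obtain ⟨N2, hN2⟩ : ∃ N2, N2 = Y ⊓ (rootStab (rootSpace Y G.hS.sq) ⊓ rootStab (rootSpace Y G.hT.sq)) := ⟨_, rfl⟩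
  have hmemN2 : ∀ n : GL, conjBy Y n = Y → Stab U n → Stab V n →
      n ∈ rootStab (rootSpace Y G.hS.sq) ⊓ rootStab (rootSpace Y G.hT.sq) := fun n hn h1 h2 =>
    ⟨mem_rootStab_of_map G.hS hn h1.2 h1.1, mem_rootStab_of_map G.hT hn h2.2 h2.1⟩
  have hlt : Nat.card N2 < Nat.card Y := by
    refine lt_of_le_of_ne (Subgroup.card_le_of_le (hN2 ▸ inf_le_left)) fun e => ?_
    have heq := Subgroup.eq_of_le_of_card_ge (hN2 ▸ inf_le_left : N2 ≤ Y) e.ge
    have hu : fam G.hS.sq (1 : ZMod p) ∈ N2 := by rw [heq]; exact fam_mem G.hS.fam _ _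
    rw [hN2] at hu
    obtain ⟨b1, b2, b3, b4, -⟩ :=
      G.symm.rootSpace_blocks (mem_rootStab.1 hu.2.2 V (mem_rootSpace_self G.hT.toIsRoot))
    rw [conjEnd, fam_val, fam_inv_val, one_smul] at b4
    have h5 : U * V - U = 0 := by
      refine Eq.trans ?_ b4
      simp only [mul_add, add_mul, mul_sub, sub_mul, mul_one, one_mul, mul_assoc, G.TT', G.SS', G.STS', G.TST',
        G.TST, G.STS, G.TT, G.SS, mul_zero]
      abel
    apply G.hS.ne
    have h6 := congrArg (· * U) h5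
    simp only [sub_mul, zero_mul, G.sts, G.SS, sub_zero] at h6
    exact h6
  have hAN2 : A ≤ Subgroup.normalizer (N2 : Set GL) := by
    intro a ha
    have hmem := hmemN2 a (hYa a ha)
      ⟨by rw [← range_conjEnd, (hfixU a ha).1], by rw [← ker_conjEnd, (hfixU a ha).1]⟩
      ⟨by rw [← range_conjEnd, hfixV a ha], by rw [← ker_conjEnd, hfixV a ha]⟩
    rw [hN2, Subgroup.mem_normalizer_iff]
    intro z
    exact and_congr (Subgroup.mem_normalizer_iff.1 (hAY ha) z)
      (Subgroup.mem_normalizer_iff.1 (Subgroup.le_normalizer hmem) z)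
  have hN2Y : N2 ≤ Y := hN2 ▸ inf_le_left
  have hxN2 : x ∈ N2 := hN2 ▸ ⟨hPY hx, hmemN2 x (CfsgLib.RankOne.conjBy_of_mem (hPY hx))
    ⟨by rw [← range_conjEnd, hxU], by rw [← ker_conjEnd, hxU]⟩
    ⟨by rw [← range_conjEnd, hxV], by rw [← ker_conjEnd, hxV]⟩⟩
  obtain ⟨I, hIN, hI, hIn, hxI⟩ := ih N2 hlt A (P ⊓ N2) hAN2 (hcop.coprime_dvd_right (Subgroup.card_dvd_of_le hN2Y))
    (Or.inl hoddA) inf_le_right (hPp.to_le inf_le_left)
    (fun a ha => by
      rw [Subgroup.mem_normalizer_iff]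
      intro z
      exact and_congr (Subgroup.mem_normalizer_iff.1 (hAP ha) z) (Subgroup.mem_normalizer_iff.1 (hAN2 ha) z))
    (fun c hc => by
      rw [Subgroup.mem_normalizer_iff]
      intro z
      exact and_congr (Subgroup.mem_normalizer_iff.1 (hCP ⟨hN2Y hc.1, hc.2⟩) z)
        (Subgroup.mem_normalizer_iff.1 (Subgroup.le_normalizer hc.1) z))
    x ⟨hx, hxN2⟩ hx2
  refine G.eq_one_of_fixes hp hYU hss hfix hI (hIN.trans hN2Y) (fun i hi => ?_) (fun n hn hnU hnV i hi => ?_) hxI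
    hxU hxV hx2
  · have := hIN hi
    rw [hN2] at this
    exact stab_of_mem_rootStab G.hS this.2.1
  · have hn2 : n ∈ N2 := hN2 ▸ ⟨hn, hmemN2 n (CfsgLib.RankOne.conjBy_of_mem hn) hnU hnV⟩
    constructor
    · rw [← hIn n hn2]; exact CfsgLib.RankOne.conj_mem_conjBy hi
    · have h := CfsgLib.RankOne.conj_mem_conjBy (g := n⁻¹) hi
      rwa [hIn _ (inv_mem hn2), inv_inv] at h

/-- The irreducible case. -/
theorem eq_one_of_irreducible (hp : 5 ≤ p) (hrad : RadFree Y) (hss : Semisimple Y) (hfix : NoFixed Y)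
    (hAY : A ≤ Subgroup.normalizer (Y : Set GL))
    (hcop : (Nat.card A).Coprime (Nat.card Y)) (hodd : Odd (Nat.card A) ∨ Odd (Nat.card Y))
    (hPY : P ≤ Y) (hPp : IsPGroup p P) (hAP : A ≤ Subgroup.normalizer (P : Set GL))
    (hCP : Y ⊓ Subgroup.centralizer (A : Set GL) ≤ Subgroup.normalizer (P : Set GL))
    (hx : x ∈ P) (hx2 : ((x : E) - 1) * ((x : E) - 1) = 0)
    (ih : ∀ Y' : Subgroup GL, Nat.card Y' < Nat.card Y → Normalises p M Y') : x = 1 := by
  classical
  by_contra hx1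
  obtain ⟨h2, -, h3⟩ := two_three (p := p) hp
  have hopp := hrad.hasOpposites h2 h3
  have hYa : ∀ a ∈ A, conjBy Y a = Y := fun a ha => CfsgLib.RankOne.conjBy_eq_self_iff.2 (hAY ha)
  have hN : IsRoot Y ((x : E) - 1) :=
    ⟨hx2, fun e => hx1 (Units.ext (sub_eq_zero.1 e)), hasFam_of_mem hx2 (hPY hx) (add_sub_cancel 1 (x : E)).symm⟩
  have hfamx : fam hN.sq (1 : ZMod p) = x := Units.ext (by rw [fam_val, one_smul, add_sub_cancel])
  -- proper normal invariant subgroups do not contain `x`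
  have hproper : ∀ Z : Subgroup GL, Z ≤ Y → (∀ g ∈ Y, conjBy Z g = Z) → A ≤ Subgroup.normalizer (Z : Set GL) →
      x ∈ Z → Z = Y := by
    intro Z hZY hZn hAZ hxZ
    by_contra hne
    have hlt : Nat.card Z < Nat.card Y :=
      lt_of_le_of_ne (Subgroup.card_le_of_le hZY) fun e => hne (Subgroup.eq_of_le_of_card_ge hZY e.ge)
    obtain ⟨I, hIZ, hI, hIn, hxI⟩ := ih Z hlt A (P ⊓ Z) hAZ (hcop.coprime_dvd_right (Subgroup.card_dvd_of_le hZY))
      (hodd.imp id fun h => h.of_dvd_nat (Subgroup.card_dvd_of_le hZY)) inf_le_right (hPp.to_le inf_le_left)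
      (fun a ha => by
        rw [Subgroup.mem_normalizer_iff]
        intro z
        exact and_congr (Subgroup.mem_normalizer_iff.1 (hAP ha) z) (Subgroup.mem_normalizer_iff.1 (hAZ ha) z))
      (fun c hc => by
        rw [Subgroup.mem_normalizer_iff]
        intro z
        exact and_congr (Subgroup.mem_normalizer_iff.1 (hCP ⟨hZY hc.1, hc.2⟩) z)
          (Subgroup.mem_normalizer_iff.1 (Subgroup.le_normalizer hc.1) z))
      x ⟨hx, hxZ⟩ hx2
    have := (hrad.of_normal hZY hZn) I hIZ hI hIn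
    rw [this, Subgroup.mem_bot] at hxI
    exact hx1 hxI
  -- `Y` is generated by root elements
  have hlevel : IsLevel Y Y := by
    refine ⟨le_rfl, fun g hg => CfsgLib.RankOne.conjBy_of_mem hg, ?_, le_sup_left⟩
    obtain ⟨Gn', hGn⟩ : ∃ Gn' : Subgroup GL,
        Gn' = Subgroup.closure {g : GL | ∃ N, IsRoot Y N ∧ ∃ c : ZMod p, (g : E) = 1 + c • N} := ⟨_, rfl⟩
    have hconj : ∀ g : GL, conjBy Y g = Y → conjBy Gn' g ≤ Gn' := by
      intro g hg
      rw [hGn, conjBy, MonoidHom.map_closure, Subgroup.closure_le]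
      rintro _ ⟨z, ⟨N, hN', c, hc⟩, rfl⟩
      exact Subgroup.subset_closure ⟨conjEnd g N, hN'.conj_of_normalizes hg, c, conj_one_add g z hc⟩
    have heq : ∀ g : GL, conjBy Y g = Y → conjBy Gn' g = Gn' := fun g hg => le_antisymm (hconj g hg) fun z hz =>
      ⟨g⁻¹ * z * g, hconj g⁻¹ (conjBy_inv_eq_self hg) ⟨z, hz, by simp⟩, by
        simp only [MulEquiv.coe_toMonoidHom, MulAut.conj_apply]; group⟩
    have hle : Gn' ≤ Y := by
      rw [hGn, Subgroup.closure_le]
      rintro g ⟨N, hN', c, hc⟩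
      rw [SetLike.mem_coe, show g = fam hN'.sq c from Units.ext hc]
      exact fam_mem hN'.fam hN'.sq c
    have := hproper Gn' hle (fun g hg => heq g (CfsgLib.RankOne.conjBy_of_mem hg))
      (fun a ha => CfsgLib.RankOne.conjBy_eq_self_iff.1 (heq a (hYa a ha)))
      (hGn ▸ Subgroup.subset_closure ⟨_, hN, 1, by rw [one_smul, add_sub_cancel]⟩)
    exact le_of_eq (this.symm.trans hGn)
  have hcn : ∀ S, IsMinRoot Y S → ∀ g ∈ Y, conjBy (comp Y S) g = comp Y S := fun S hS =>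
    hlevel.conjBy_comp_eq hrad hS h2 h3
  -- a component not centralised by `x`
  obtain ⟨S, hS, hxS⟩ : ∃ S, IsMinRoot Y S ∧ x ∉ Subgroup.centralizer (comp Y S : Set GL) := by
    by_contra hall
    push Not at hall
    obtain ⟨Sg, hSg⟩ : ∃ Sg : Subgroup GL, Sg = ⨆ A ∈ quadraticRootSubgroups Y, A := ⟨_, rfl⟩
    have hxc : x ∈ Subgroup.centralizer (Sg : Set GL) := by
      have : Sg ≤ Subgroup.centralizer {x} := by
        rw [hSg]
        refine iSup₂_le fun B hB => ?_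
        obtain ⟨σ, hσ, rfl⟩ := hB
        have hσm := mem_minimal_iff.1 hσ
        intro b hb
        rw [Subgroup.mem_centralizer_singleton_iff]
        exact Subgroup.mem_centralizer_iff.1 (hall _ hσm) b
          (sameAction_le_comp hσm Relation.ReflTransGen.refl hb)
      exact Subgroup.mem_centralizer_iff.2 fun b hb => Subgroup.mem_centralizer_singleton_iff.1 (this hb)
    have hSgn : ∀ g : GL, conjBy Y g = Y → ∀ b ∈ Sg, g * b * g⁻¹ ∈ Sg := by
      intro g hg b hb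
      have : Sg.map (MulAut.conj g).toMonoidHom ≤ Sg := by
        rw [hSg, Subgroup.map_iSup]
        refine iSup_le fun B => ?_
        rw [Subgroup.map_iSup]
        refine iSup_le fun hB => ?_
        obtain ⟨σ, hσ, rfl⟩ := hB
        have hσm := mem_minimal_iff.1 hσ
        refine (sameActionSubgroup_conj_of_normalizes hσm hg).le.trans ?_
        exact le_iSup₂ (f := fun A (_ : A ∈ quadraticRootSubgroups Y) => A) _
          ⟨g * σ * g⁻¹, mem_minimal_iff.2 ((conjEnd_one_sub g σ).symm ▸ hσm.conj_of_normalizes hg), rfl⟩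
      exact this ⟨b, hb, rfl⟩
    obtain ⟨Z, hZ⟩ : ∃ Z, Z = Y ⊓ Subgroup.centralizer (Sg : Set GL) := ⟨_, rfl⟩
    have hZn : ∀ g : GL, conjBy Y g = Y → g ∈ Subgroup.normalizer (Z : Set GL) := by
      intro g hg
      rw [hZ, Subgroup.mem_normalizer_iff]
      have key : ∀ g : GL, conjBy Y g = Y → ∀ z ∈ Y ⊓ Subgroup.centralizer (Sg : Set GL),
          g * z * g⁻¹ ∈ Y ⊓ Subgroup.centralizer (Sg : Set GL) := by
        intro g hg z hz
        refine ⟨hg ▸ CfsgLib.RankOne.conj_mem_conjBy hz.1, Subgroup.mem_centralizer_iff.2 fun b hb => ?_⟩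
        have hb' := hSgn g⁻¹ (conjBy_inv_eq_self hg) b hb
        rw [inv_inv] at hb'
        have h := Subgroup.mem_centralizer_iff.1 hz.2 _ hb'
        calc b * (g * z * g⁻¹) = g * (g⁻¹ * b * g * z) * g⁻¹ := by group
          _ = g * (z * (g⁻¹ * b * g)) * g⁻¹ := by rw [h]
          _ = g * z * g⁻¹ * b := by group
      refine fun z => ⟨key g hg z, fun h => ?_⟩
      have := key _ (conjBy_inv_eq_self hg) _ h
      simpa [mul_assoc] using this
    have hZY := hproper Z (hZ ▸ inf_le_left)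
      (fun g hg => CfsgLib.RankOne.conjBy_eq_self_iff.2 (hZn g (CfsgLib.RankOne.conjBy_of_mem hg)))
      (fun a ha => hZn a (hYa a ha)) (hZ ▸ ⟨hPY hx, hxc⟩)
    obtain ⟨S, hS⟩ := exists_minRoot ⟨_, hN⟩
    apply comp_ne_bot hS
    rw [← comp_commutator_eq hS hopp h2 h3, Subgroup.commutator_eq_bot_iff_le_centralizer]
    intro b hb
    have hbY : b ∈ Z := hZY.symm ▸ comp_le hb
    rw [hZ] at hbY
    refine Subgroup.mem_centralizer_iff.2 fun b' hb' => Subgroup.mem_centralizer_iff.1 hbY.2 b' ?_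
    rw [hSg]
    exact (biSup_mono fun A hA => part_subset hA : comp Y S ≤ _) hb'
  obtain ⟨L, hL⟩ : ∃ L, L = comp Y S := ⟨_, rfl⟩
  rcases eq_or_ne L Y with hLY | hLY
  · exact hx1 (eq_one_of_comp hp hS (hL ▸ hLY) hrad hss hfix hAY hcop hodd hPY hPp hAP hCP hx hx2 ih)
  rcases root_split hp hS hrad hss hcn hN with hc | ⟨l, hl, hlg⟩
  · rw [hfamx] at hc; exact hxS hc
  rw [hfamx] at hlg
  rw [← hL] at hl hlg hxS
  have hLle : L ≤ Y := hL ▸ comp_le
  have hLn : ∀ g ∈ Y, conjBy L g = L := hL ▸ hcn S hS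
  -- the quadratic part in `L`
  have hl2 : ((l : E) - 1) * ((l : E) - 1) = 0 := by
    obtain ⟨g, hg⟩ : ∃ g, g = l⁻¹ * x := ⟨_, rfl⟩
    rw [← hg] at hlg
    obtain ⟨u, hu⟩ : ∃ u, u = (l : E) - 1 := ⟨_, rfl⟩
    obtain ⟨v, hv⟩ : ∃ v, v = (g : E) - 1 := ⟨_, rfl⟩
    have huv : v * u = 0 := by rw [hu, hv]; exact hlg.2 l hl
    have hcomm : u * v = v * u := by
      have h := congrArg (fun z : GL => (z : E)) (Subgroup.mem_centralizer_iff.1 hlg.1 l hl)
      simp only [Units.val_mul] at h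
      rw [hu, hv]
      simp only [mul_sub, sub_mul, mul_one, one_mul, h]
      abel
    have hxe : (x : E) - 1 = u + v := by
      have : (x : E) = (l : E) * (g : E) := by rw [hg, ← Units.val_mul, mul_inv_cancel_left]
      have h0 : u * v = 0 := hcomm.trans huv
      rw [this, show (l : E) = 1 + u by rw [hu, add_sub_cancel], show (g : E) = 1 + v by rw [hv, add_sub_cancel]]
      simp only [mul_add, add_mul, mul_one, one_mul, h0]
      abel
    have hsum : u * u + v * v = 0 := by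
      rw [hxe] at hx2
      simpa [mul_add, add_mul, huv, hcomm] using hx2
    have hkey : ∀ m, (u * u) m = 0 := fun m => by
      refine range_fixed_eq_zero hLn hLle hss
        (Submodule.mem_iSup_of_mem l (Submodule.mem_iSup_of_mem hl ⟨u m, by rw [hu]; rfl⟩)) fun a ha => ?_
      have h0 : ((a : E) - 1) * v = 0 := by
        have h := congrArg (fun z : GL => (z : E)) (Subgroup.mem_centralizer_iff.1 hlg.1 a ha)
        simp only [Units.val_mul] at h
        rw [← hlg.2 a ha, hv]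
        simp only [mul_sub, sub_mul, mul_one, one_mul, h]
        abel
      have h1 := LinearMap.congr_fun h0 (v m)
      rw [← sub_eq_zero, show (u * u) m = -((v * v) m) from eq_neg_of_add_eq_zero_left (LinearMap.congr_fun hsum m),
        ← Module.End.one_apply (R := ZMod p) (-((v * v) m))]
      rw [← Module.End.mul_apply, ← LinearMap.sub_apply, map_neg, neg_eq_zero, mul_one]
      exact h1
    rw [← hu]
    exact LinearMap.ext hkey
  -- the projection of `P`
  obtain ⟨D, hD⟩ : ∃ D : Subgroup GL, D = Subgroup.centralizer (L : Set GL) ⊓ trivOn L := ⟨_, rfl⟩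
  let P₁ : Subgroup GL :=
    { carrier := {l | l ∈ L ∧ ∃ g ∈ D, g * l ∈ P}
      one_mem' := ⟨one_mem _, 1, one_mem _, by rw [mul_one]; exact one_mem _⟩
      mul_mem' := fun {a b} ⟨ha, g, hg, hga⟩ ⟨hb, g', hg', hgb⟩ => ⟨mul_mem ha hb, g * g', mul_mem hg hg', by
        rw [show g * g' * (a * b) = g * (g' * a) * b by group,
          ← Subgroup.mem_centralizer_iff.1 (hD ▸ hg' : g' ∈ _ ⊓ trivOn L).1 a ha,
          show g * (a * g') * b = g * a * (g' * b) by group]
        exact mul_mem hga hgb⟩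
      inv_mem' := fun {a} ⟨ha, g, hg, hga⟩ => ⟨inv_mem ha, g⁻¹, inv_mem hg, by
        rw [← mul_inv_rev, show a * g = g * a from Subgroup.mem_centralizer_iff.1 (hD ▸ hg : g ∈ _ ⊓ trivOn L).1 a ha]
        exact inv_mem hga⟩ }
  have hP₁L : P₁ ≤ L := fun a ha => ha.1
  have hlP : l ∈ P₁ := ⟨hl, l⁻¹ * x, hD ▸ hlg, by
    rw [← Subgroup.mem_centralizer_iff.1 hlg.1 l hl, mul_inv_cancel_left]; exact hx⟩
  have hP₁p : IsPGroup p P₁ := by
    rintro ⟨a, ha, g, hg, hga⟩
    obtain ⟨k, hk⟩ := hPp ⟨g * a, hga⟩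
    refine ⟨k, Subtype.ext ?_⟩
    rw [Subgroup.coe_pow, Subgroup.coe_one]
    rw [hD] at hg
    have hcm : Commute g a := (Subgroup.mem_centralizer_iff.1 hg.1 a ha).symm
    have h1 : g ^ p ^ k * a ^ p ^ k = 1 := by
      rw [← hcm.mul_pow]; exact congrArg Subtype.val hk
    have hu : ((a ^ p ^ k : GL) : E) - 1 = 0 := by
      have htr : a ^ p ^ k ∈ trivOn L := by
        rw [show a ^ p ^ k = (g ^ p ^ k)⁻¹ from (inv_eq_of_mul_eq_one_right h1).symm]
        exact inv_mem (pow_mem hg.2 _)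
      refine eq_zero_of_kills hLn hLle hss htr fun m hm => ?_
      rw [LinearMap.sub_apply, hm _ (pow_mem ha _), Module.End.one_apply, sub_self]
    exact Units.ext (sub_eq_zero.1 hu)
  obtain ⟨A₀, hA₀⟩ : ∃ A₀, A₀ = A ⊓ Subgroup.normalizer (L : Set GL) := ⟨_, rfl⟩
  have hconjD : ∀ n : GL, conjBy L n = L → ∀ g ∈ D, n * g * n⁻¹ ∈ D := by
    intro n hn g hg
    rw [hD] at hg ⊢
    refine ⟨Subgroup.mem_centralizer_iff.2 fun b hb => ?_, conj_mem_trivOn hg.2 hn⟩
    rw [← hn] at hb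
    obtain ⟨b', hb', rfl⟩ := hb
    show n * b' * n⁻¹ * (n * g * n⁻¹) = n * g * n⁻¹ * (n * b' * n⁻¹)
    have h := Subgroup.mem_centralizer_iff.1 hg.1 b' hb'
    calc n * b' * n⁻¹ * (n * g * n⁻¹) = n * (b' * g) * n⁻¹ := by group
      _ = n * (g * b') * n⁻¹ := by rw [h]
      _ = n * g * n⁻¹ * (n * b' * n⁻¹) := by group
  have hA₀P : ∀ a ∈ A₀, ∀ b ∈ P₁, a * b * a⁻¹ ∈ P₁ := by
    rintro a ha b ⟨hb, g, hg, hgb⟩
    rw [hA₀] at ha
    refine ⟨(Subgroup.mem_normalizer_iff.1 ha.2 b).1 hb, a * g * a⁻¹,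
      hconjD a (CfsgLib.RankOne.conjBy_eq_self_iff.2 ha.2) g hg, ?_⟩
    rw [show a * g * a⁻¹ * (a * b * a⁻¹) = a * (g * b) * a⁻¹ by group]
    exact (Subgroup.mem_normalizer_iff.1 (hAP ha.1) _).1 hgb
  obtain ⟨δ, hδ⟩ := exists_spread_coset A L Y hLle hAY (fun a ha hnot b hb b' hb' => by
    have hnc : ¬ Conn Y S (conjEnd a S) := fun hc => hnot (CfsgLib.RankOne.conjBy_eq_self_iff.1 (by
      rw [hL, conjBy_comp (hYa a ha), comp_congr hc h2 h3]))
    rw [hL] at hb hb'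
    refine commute_of_not_conn hopp h2 h3 hnc b hb _ ?_
    rw [← conjBy_comp (hYa a ha)]
    exact CfsgLib.RankOne.conj_mem_conjBy hb')
  have hdP : ∀ d ∈ L ⊓ Subgroup.centralizer (A₀ : Set GL), ∀ b ∈ P₁, d * b * d⁻¹ ∈ P₁ := by
    rintro d hd b ⟨hb, g, hg, hgb⟩
    rw [hA₀] at hd
    obtain ⟨r, hr⟩ : ∃ r, r = d⁻¹ * (δ ⟨d, hd⟩ : GL) := ⟨_, rfl⟩
    have hrc : r ∈ Subgroup.centralizer (L : Set GL) := hr ▸ hδ ⟨d, hd⟩
    have he : (δ ⟨d, hd⟩ : GL) = d * r := by rw [hr, mul_inv_cancel_left]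
    have hnL := hLn _ (δ ⟨d, hd⟩).2.1
    refine ⟨mul_mem (mul_mem hd.1 hb) (inv_mem hd.1), _, hconjD _ hnL g hg, ?_⟩
    have h1 : (δ ⟨d, hd⟩ : GL) * b * (δ ⟨d, hd⟩ : GL)⁻¹ = d * b * d⁻¹ := by
      rw [he, mul_inv_rev, show d * r * b * (r⁻¹ * d⁻¹) = d * (r * b) * r⁻¹ * d⁻¹ by group,
        ← Subgroup.mem_centralizer_iff.1 hrc b hb]
      group
    rw [← h1, show ∀ n : GL, n * g * n⁻¹ * (n * b * n⁻¹) = n * (g * b) * n⁻¹ from fun n => by group]
    exact (Subgroup.mem_normalizer_iff.1 (hCP (δ ⟨d, hd⟩).2) _).1 hgb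
  have hnorm : ∀ {Z : Subgroup GL}, (∀ z ∈ Z, ∀ b ∈ P₁, z * b * z⁻¹ ∈ P₁) →
      Z ≤ Subgroup.normalizer (P₁ : Set GL) := by
    intro Z h z hz
    rw [Subgroup.mem_normalizer_iff]
    refine fun b => ⟨h z hz b, fun hb => ?_⟩
    have := h _ (inv_mem hz) _ hb
    simpa [mul_assoc] using this
  have hlt : Nat.card L < Nat.card Y :=
    lt_of_le_of_ne (Subgroup.card_le_of_le hLle) fun e => hLY (Subgroup.eq_of_le_of_card_ge hLle e.ge)
  have hA₀A : A₀ ≤ A := hA₀ ▸ inf_le_left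
  obtain ⟨I, hIL, hI, hIn, hlI⟩ := ih L hlt A₀ P₁ (hA₀ ▸ inf_le_right)
    ((hcop.coprime_dvd_left (Subgroup.card_dvd_of_le hA₀A)).coprime_dvd_right (Subgroup.card_dvd_of_le hLle))
    (hodd.imp (fun h => h.of_dvd_nat (Subgroup.card_dvd_of_le hA₀A))
      (fun h => h.of_dvd_nat (Subgroup.card_dvd_of_le hLle)))
    hP₁L hP₁p (hnorm hA₀P) (hnorm hdP) l hlP hl2
  have hIbot := (hrad.of_normal hLle hLn) I hIL hI hIn
  rw [hIbot, Subgroup.mem_bot] at hlI
  rw [hlI, inv_one, one_mul] at hlg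
  exact hxS hlg.1

/-- The main statement. -/
theorem normalises (hp : 5 ≤ p) : ∀ (M : Type v) [AddCommGroup M] [Module (ZMod p) M] [FiniteDimensional (ZMod p) M]
    (Y : Subgroup (LinearMap.GeneralLinearGroup (ZMod p) M)), Normalises p M Y := by
  suffices key : ∀ (n m : ℕ) (M : Type v) [AddCommGroup M] [Module (ZMod p) M] [FiniteDimensional (ZMod p) M]
      (Y : Subgroup (LinearMap.GeneralLinearGroup (ZMod p) M)),
      Module.finrank (ZMod p) M = n → Nat.card Y = m → Normalises p M Y by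
    intro M _ _ _ Y
    exact key _ _ M Y rfl rfl
  intro n
  induction n using Nat.strong_induction_on with
  | _ n ihn =>
  intro m
  induction m using Nat.strong_induction_on with
  | _ m ihm =>
  intro M _ _ _ Y hn hm A P hAY hcop hodd hPY hPp hAP hCP x hx hx2
  by_cases hY1 : Y = ⊥
  · refine ⟨⊥, bot_le, isUnipotentOn_of_isPGroup (p := p) IsPGroup.of_bot, fun g _ => ?_, ?_⟩
    · exact Subgroup.map_bot _
    · rw [← hY1]; exact hPY hx
  by_cases hred : ∃ W : Submodule (ZMod p) M, Invariant Y W ∧ Invariant A W ∧ W ≠ ⊥ ∧ W ≠ ⊤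
  · obtain ⟨W, hWY, hWA, hW0, hW1⟩ := hred
    refine normalises_of_invariant hWY hWA (fun Y' => ?_) (fun Y' => ?_) hAY hcop hodd hPY hPp hAP hCP hx hx2
    · exact ihn _ (hn ▸ Submodule.finrank_lt hW1) _ W Y' rfl rfl
    · refine ihn _ ?_ _ (M ⧸ W) Y' rfl rfl
      have h1 := W.finrank_quotient_add_finrank
      have : 0 < Module.finrank (ZMod p) W := Submodule.one_le_finrank_iff.2 hW0
      omega
  push Not at hred
  obtain ⟨hrad, hss, hfix⟩ := irreducible_facts hAY hY1 fun W h1 h2 => by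
    by_cases h : W = ⊥
    · exact Or.inl h
    · exact Or.inr (hred W h1 h2 h)
  have hx1 := eq_one_of_irreducible hp hrad hss hfix hAY hcop hodd hPY hPp hAP hCP hx hx2
    fun Y' hlt => ihm _ (hm ▸ hlt) M Y' hn rfl
  exact ⟨⊥, bot_le, isUnipotentOn_of_isPGroup (p := p) IsPGroup.of_bot,
    fun g _ => Subgroup.map_bot _, Subgroup.mem_bot.2 hx1⟩

end CfsgLib.QuadEqui
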