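import Cfsg.Agent.QuadEqui.Transform

/-!
The chain group of a component without fixed vectors has no elements central modulo the root group.
-/

set_option autoImplicit false
set_option linter.unusedSectionVars false
set_option linter.deprecated false
set_option linter.style.haveILetI false
set_option linter.unusedSimpArgs false

universe v

namespace CfsgLib.QuadEqui

open Cfsg CfsgLib.QP CfsgLib.QuadFix

variable {p : ℕ} [Fact p.Prime] {M : Type v} [AddCommGroup M] [Module (ZMod p) M] [FiniteDimensional (ZMod p) M]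

local notation "GL" => LinearMap.GeneralLinearGroup (ZMod p) M
local notation "E" => Module.End (ZMod p) M

variable {Y : Subgroup (LinearMap.GeneralLinearGroup (ZMod p) M)} {S T : Module.End (ZMod p) M}

/-- A unipotent group fixes a non-zero vector of every non-zero invariant subspace. -/
theorem exists_fixed_mem {H : Subgroup GL} (hH : IsUnipotentOn H) {C : Submodule (ZMod p) M}
    (hC : ∀ g ∈ H, ∀ m ∈ C, (g : E) m ∈ C) {m : M} (hm : m ∈ C) (hm0 : m ≠ 0) :
    ∃ v ∈ C, v ≠ 0 ∧ ∀ g ∈ H, (g : E) v = v := by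
  obtain ⟨n, hn⟩ := (unipotent_iff H).1 hH
  by_contra hcon
  push Not at hcon
  have hex : ∀ j, ∃ y ∈ lam H ^ j, y m ∈ C ∧ y m ≠ 0 := by
    intro j
    induction j with
    | zero => exact ⟨1, by rw [pow_zero]; exact Submodule.one_le.1 le_rfl, hm, hm0⟩
    | succ j ih =>
      obtain ⟨y, hy, hyC, hym⟩ := ih
      obtain ⟨g, hg, hgy⟩ := hcon (y m) hyC hym
      refine ⟨((g : E) - 1) * y, by rw [pow_succ']; exact Submodule.mul_mem_mul (mem_lam hg) hy,
        sub_mem (hC g hg _ hyC) hyC, fun e => hgy (sub_eq_zero.1 e)⟩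
  obtain ⟨y, hy, -, hym⟩ := hex n
  rw [hn, Submodule.mem_bot] at hy
  exact hym (by rw [hy]; rfl)

/-- Alternating words of length eight in two square-zero elements. -/
theorem word_eq_zero {R : Type*} [Ring R] {x y : R} (hx : x * x = 0) (hy : y * y = 0)
    (h1 : (x * y) * (x * y) * ((x * y) * (x * y)) = 0) (h2 : (y * x) * (y * x) * ((y * x) * (y * x)) = 0)
    {l : List R} (hl : ∀ z ∈ l, z = x ∨ z = y) (hlen : l.length = 8) : l.prod = 0 := by
  match l, hlen with
  | [a₁, a₂, a₃, a₄, a₅, a₆, a₇, a₈], _ =>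
    have hpair : ∀ {a b : R}, (a = x ∨ a = y) → (b = x ∨ b = y) → a * b = 0 ∨ a * b = x * y ∨ a * b = y * x := by
      rintro a b (rfl | rfl) (rfl | rfl)
      exacts [Or.inl hx, Or.inr (Or.inl rfl), Or.inr (Or.inr rfl), Or.inl hy]
    have hcross : x * y * (y * x) = 0 ∧ y * x * (x * y) = 0 :=
      ⟨by rw [mul_assoc, ← mul_assoc y, hy, zero_mul, mul_zero],
       by rw [mul_assoc, ← mul_assoc x, hx, zero_mul, mul_zero]⟩
    have hquad : ∀ {a b c d : R}, (a = x ∨ a = y) → (b = x ∨ b = y) → (c = x ∨ c = y) → (d = x ∨ d = y) →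
        a * b * (c * d) = 0 ∨ a * b * (c * d) = x * y * (x * y) ∨ a * b * (c * d) = y * x * (y * x) := by
      intro a b c d ha hb hc hd
      rcases hpair ha hb with e | e | e <;> rcases hpair hc hd with e' | e' | e' <;> rw [e, e'] <;>
        first
        | exact Or.inl (zero_mul _)
        | exact Or.inl (mul_zero _)
        | exact Or.inl hcross.1
        | exact Or.inl hcross.2
        | exact Or.inr (Or.inl rfl)
        | exact Or.inr (Or.inr rfl)
    simp only [List.mem_cons, List.not_mem_nil, or_false, forall_eq_or_imp, forall_eq] at hl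
    obtain ⟨m1, m2, m3, m4, m5, m6, m7, m8⟩ := hl
    rw [show [a₁, a₂, a₃, a₄, a₅, a₆, a₇, a₈].prod = a₁ * a₂ * (a₃ * a₄) * (a₅ * a₆ * (a₇ * a₈)) by
      simp [mul_assoc]]
    rcases hquad m1 m2 m3 m4 with e | e | e <;> rcases hquad m5 m6 m7 m8 with e' | e' | e' <;> rw [e, e']
    all_goals first
      | exact zero_mul _
      | exact mul_zero _
      | exact h1
      | exact h2
      | rw [mul_assoc, ← mul_assoc (x * y) (y * x), hcross.1, zero_mul, mul_zero]
      | rw [mul_assoc, ← mul_assoc (y * x) (x * y), hcross.2, zero_mul, mul_zero]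

namespace Gr

variable (G : Gr Y S T)
include G

theorem rad_symm {b a b' a' : E} (hz : RadV Y S T b a) (hz' : RadV Y S T b' a') :
    b' * a * T = b * a' * T := by rw [hz'.2 b a hz.1]

theorem rad_pair_nil (hp : 5 ≤ p) {b a b' a' : E} (hz : RadV Y S T b a) (hz' : RadV Y S T b' a') :
    b * a * T * (b' * a' * T) * (b * a * T * (b' * a' * T)) *
      (b * a * T * (b' * a' * T) * (b * a * T * (b' * a' * T))) = 0 := by
  obtain ⟨h2, h3', -⟩ := two_three (p := p) hp
  obtain ⟨hzz, hpol, hzβ⟩ := G.rad_polar hp hz hz'.1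
  obtain ⟨hzz', -, -⟩ := G.rad_polar hp hz' hz.1
  have hanti := G.rad_anti hp hz hz'.1
  -- the transform of `z` by itself
  have ht := G.rad_transform hp hz hz.1
  have hr : ((2 : ZMod p)⁻¹ + 1) ≠ 0 := fun e => h3' (by linear_combination (2 : ZMod p) * e - mul_inv_cancel₀ h2)
  have ht' : RadV Y S T (-(b * a * T * b)) ((a * T * (b * a * T)) * S) := by
    have := G.radV_smul ht ((2 : ZMod p)⁻¹ + 1)⁻¹
    convert this using 1
    · rw [show b * a * T * b = b * (a * T * b) by simp only [mul_assoc],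
        show (2 : ZMod p)⁻¹ • (b * (a * T * b)) + b * (a * T * b) = ((2 : ZMod p)⁻¹ + 1) • (b * (a * T * b)) by
          rw [add_smul, one_smul], smul_neg, smul_smul, inv_mul_cancel₀ hr, one_smul]
    · rw [show (2 : ZMod p)⁻¹ • (a * T * (b * a * T)) + a * T * (b * a * T) =
          ((2 : ZMod p)⁻¹ + 1) • (a * T * (b * a * T)) by rw [add_smul, one_smul], smul_mul_assoc, smul_smul,
        inv_mul_cancel₀ hr, one_smul]
  have hcomm := G.rad_anti hp ht' hz'.1
  rw [show -(b * a * T * b) * a' * T = -(b * a * T * (b * a' * T)) by simp only [neg_mul, mul_assoc]] at hcomm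
  have hB := G.cor_invV hp hz.1 hz.1
  generalize b * a * T = B at hzz hpol hzβ hcomm hB ⊢
  generalize b' * a' * T = C at hzz' hpol hanti hcomm ⊢
  generalize b * a' * T = β at hpol hzβ hanti hcomm
  rw [mul_neg, neg_mul, ← mul_assoc, mul_assoc B β C] at hcomm
  have hβC : β * C = -(C * β) := eq_neg_of_add_eq_zero_right hanti
  have hBβ : β * B = -(B * β) := eq_neg_of_add_eq_zero_right hzβ
  have h4 : C * B = -(B * C) - (4 : ZMod p) • (β * β) := by
    rw [eq_sub_iff_add_eq, ← sub_eq_zero, sub_neg_eq_add]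
    refine Eq.trans ?_ hpol
    abel
  have hswap : B * (C * β) = C * (B * β) := by
    rw [hβC, mul_neg, neg_neg, mul_assoc] at hcomm
    rw [← sub_eq_zero]
    refine Eq.trans ?_ hcomm
    abel
  have hBC : B * (C * β) = -((2 : ZMod p) • (β * β * β)) := by
    have e : C * (B * β) = -(B * (C * β)) - (4 : ZMod p) • (β * β * β) := by
      rw [← mul_assoc C, h4, sub_mul, neg_mul, mul_assoc B, smul_mul_assoc]
    rw [← hswap] at e
    have e2 : (2 : ZMod p) • (B * (C * β) + (2 : ZMod p) • (β * β * β)) = 0 := by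
      rw [← sub_eq_zero.2 e]; match_scalars <;> ring1
    exact eq_neg_of_add_eq_zero_left ((smul_eq_zero.1 e2).resolve_left h2)
  have hB3 : B * (β * β * β) = 0 := by
    have := congrArg (B * ·) hBC
    simp only [← mul_assoc, hzz, zero_mul, mul_neg, mul_smul_comm] at this
    rw [eq_comm, neg_eq_zero, smul_eq_zero] at this
    rw [← mul_assoc, ← mul_assoc]
    exact this.resolve_left h2
  have hβ5 : β * β * β * (β * β) = 0 := by
    have h1 : β * β * β * C = -(C * (β * β * β)) := by
      rw [mul_assoc, hβC, mul_neg, ← mul_assoc, mul_assoc β β C, hβC, mul_neg, ← mul_assoc, hβC]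
      simp only [neg_mul, mul_neg, neg_neg, mul_assoc]
    have h5 : B * (C * (β * β * β)) = 0 := by
      rw [← neg_eq_zero, ← mul_neg, ← h1, ← mul_assoc B, hB3, zero_mul]
    have h6 := congrArg (· * (β * β)) hBC
    simp only [mul_assoc] at h5 h6
    rw [h5, neg_mul, smul_mul_assoc, eq_comm, neg_eq_zero, smul_eq_zero] at h6
    simp only [mul_assoc]
    have h7 := h6.resolve_left h2
    simp only [mul_assoc] at h7
    exact h7
  have hB2 : ∀ x : E, β * (β * (B * x)) = B * (β * (β * x)) := fun x => by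
    rw [← mul_assoc β B, hBβ, neg_mul, mul_neg, mul_assoc, ← mul_assoc β B, hBβ]
    simp only [neg_mul, neg_neg, mul_assoc]
  have hX : B * C * (B * C) = -((4 : ZMod p) • (β * β * (B * C))) := by
    rw [mul_assoc, ← mul_assoc C, h4, sub_mul, mul_sub, neg_mul, mul_neg, mul_assoc B C C, hzz', mul_zero, mul_zero,
      neg_zero, zero_sub, smul_mul_assoc, mul_smul_comm, mul_assoc β β C, mul_assoc β β (B * C), hB2]
  have hc : β * β * (B * C) = B * C * (β * β) := by
    have h1 : β * β * C = C * (β * β) := by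
      rw [mul_assoc, hβC, mul_neg, ← mul_assoc, hβC, neg_mul, neg_neg, mul_assoc]
    rw [mul_assoc β β, hB2, ← mul_assoc β β C, h1, mul_assoc]
  rw [hX]
  simp only [neg_mul, mul_neg, neg_neg, smul_mul_assoc, mul_smul_comm, smul_smul]
  have e : β * β * (B * C) * (β * β * (B * C)) = β * β * (β * β) * (B * C * (B * C)) := by
    rw [mul_assoc (β * β) (B * C), ← mul_assoc (B * C) (β * β), ← hc]
    simp only [mul_assoc]
  rw [e, hX, mul_neg, mul_smul_comm,
    show β * β * (β * β) * (β * β * (B * C)) = β * β * β * (β * β) * β * (B * C) by simp only [mul_assoc],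
    hβ5, zero_mul, zero_mul]
  simp

theorem rad_conj_quad (hp : 5 ≤ p) {b a b' a' : E} (hz : RadV Y S T b a) (hz' : RadV Y S T b' a') :
    ∃ b'' a'', RadV Y S T b'' a'' ∧ b'' * a'' * T = (1 + b' * a' * T) * (b * a * T) * (1 - b' * a' * T) := by
  obtain ⟨h2, -, -⟩ := two_three (p := p) hp
  have hy := G.rad_transform hp hz hz'.1
  refine ⟨_, _, G.radV_add hz (G.radV_smul hy (-2 : ZMod p)), ?_⟩
  have hanti := G.rad_anti hp hz hz'.1
  obtain ⟨-, hCr⟩ := G.cor_invV hp hz'.1 hz'.1
  obtain ⟨-, hβr⟩ := G.cor_invV hp hz.1 hz'.1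
  have hsym := G.rad_symm hz hz'
  have eb : b + (-2 : ZMod p) • -((2 : ZMod p)⁻¹ • (b' * a' * T * b) + b * a' * T * b') =
      b + b' * a' * T * b + (2 : ZMod p) • (b * a' * T * b') := by
    rw [neg_smul, smul_neg, neg_neg, smul_add, smul_smul, mul_inv_cancel₀ h2, one_smul, add_assoc]
  have ea : (a + (-2 : ZMod p) • (((2 : ZMod p)⁻¹ • (a * T * (b' * a' * T)) + a' * T * (b * a' * T)) * S)) * T =
      a * T - a * T * (b' * a' * T) - (2 : ZMod p) • (a' * T * (b * a' * T)) := by
    rw [add_mul, smul_mul_assoc, mul_assoc _ S T, add_mul, smul_mul_assoc,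
      mul_assoc (a * T) (b' * a' * T) (S * T), hCr, mul_assoc (a' * T) (b * a' * T) (S * T), hβr, neg_smul,
      smul_add, smul_smul, mul_inv_cancel₀ h2, one_smul]
    abel
  rw [mul_assoc, ea, eb]
  simp only [add_mul, mul_sub, smul_mul_assoc, mul_smul_comm, smul_sub, smul_smul]
  have t1 : b * (a * T) = b * a * T := (mul_assoc _ _ _).symm
  have t2 : b * (a * T * (b' * a' * T)) = b * a * T * (b' * a' * T) := by simp only [mul_assoc]
  have t3 : b * (a' * T * (b * a' * T)) = b * a' * T * (b * a' * T) := by simp only [mul_assoc]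
  have t4 : b' * a' * T * b * (a * T) = b' * a' * T * (b * a * T) := by simp only [mul_assoc]
  have t5 : b' * a' * T * b * (a * T * (b' * a' * T)) = b' * a' * T * (b * a * T) * (b' * a' * T) := by
    simp only [mul_assoc]
  have t6 : b' * a' * T * b * (a' * T * (b * a' * T)) = b' * a' * T * (b * a' * T * (b * a' * T)) := by
    simp only [mul_assoc]
  have t7 : b * a' * T * b' * (a * T) = b * a' * T * (b * a' * T) := by
    rw [mul_assoc, ← mul_assoc b', hsym]
  have t8 : b * a' * T * b' * (a * T * (b' * a' * T)) = b * a' * T * (b * a' * T) * (b' * a' * T) := by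
    rw [← t7]; simp only [mul_assoc]
  have t9 : b * a' * T * b' * (a' * T * (b * a' * T)) = b * a' * T * (b' * a' * T) * (b * a' * T) := by
    simp only [mul_assoc]
  rw [t1, t2, t3, t4, t5, t6, t7, t8, t9]
  generalize b * a' * T = β at hanti ⊢
  generalize b' * a' * T = C at hanti ⊢
  generalize b * a * T = B
  have e : β * C = -(C * β) := eq_neg_of_add_eq_zero_right hanti
  have e' : β * β * C = C * (β * β) := by rw [mul_assoc, e, mul_neg, ← mul_assoc, e, neg_mul, neg_neg, mul_assoc]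
  rw [e', e, neg_mul, mul_assoc C β β]
  match_scalars <;> ring1

theorem rad_quad_eq_zero (hp : 5 ≤ p) (hY : Y ≤ comp Y S) (hss : Semisimple Y) {b a : E}
    (hz : RadV Y S T b a) : b * a * T = 0 := by
  classical
  obtain ⟨h2, -, -⟩ := two_three (p := p) hp
  obtain ⟨SB, hSB⟩ : ∃ SB : Set E, SB = {x | ∃ b a, RadV Y S T b a ∧ b * a * T = x} := ⟨_, rfl⟩
  have hsq : ∀ x ∈ SB, x * x = 0 := by
    rw [hSB]; rintro _ ⟨b, a, h, rfl⟩
    exact (G.rad_polar hp h h.1).1
  obtain ⟨W, hW⟩ : ∃ W : Set (Subgroup GL), W = {A | ∃ x, ∃ h : x ∈ SB, A = Subgroup.zpowers (fam (hsq x h) (1 : ZMod p))} :=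
    ⟨_, rfl⟩
  let Gs : Subgroup GL :=
    { carrier := {g | conjEnd g '' SB = SB}
      one_mem' := by simp [conjEnd_one]
      mul_mem' := fun {g h} hg hh => by
        show conjEnd (g * h) '' SB = SB
        calc conjEnd (g * h) '' SB = conjEnd g '' (conjEnd h '' SB) := by
              rw [Set.image_image]; simp only [conjEnd_conjEnd]
          _ = SB := by rw [hh, hg]
      inv_mem' := fun {g} hg => by
        show conjEnd g⁻¹ '' SB = SB
        conv_lhs => rw [← hg, Set.image_image]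
        simp [conjEnd_conjEnd, conjEnd_one] }
  have hgen : ∀ x (h : x ∈ SB), fam (hsq x h) (1 : ZMod p) ∈ Gs := by
    intro x hx
    refine Set.eq_of_subset_of_ncard_le ?_ (le_of_eq (Set.ncard_image_of_injective _ fun u v e => ?_).symm)
      (Set.toFinite _)
    · rintro _ ⟨y, hy, rfl⟩
      rw [hSB] at hx hy ⊢
      obtain ⟨b', a', hz', rfl⟩ := hx
      obtain ⟨b, a, hz, rfl⟩ := hy
      obtain ⟨b'', a'', h'', e⟩ := G.rad_conj_quad hp hz hz'
      exact ⟨b'', a'', h'', by rw [e, conjEnd, fam_val, fam_inv_val, one_smul]⟩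
    · have := congrArg (conjEnd (fam (hsq x hx) (1 : ZMod p))⁻¹) e
      rwa [conjEnd_conjEnd, conjEnd_conjEnd, inv_mul_cancel, conjEnd_one, conjEnd_one] at this
  have hWG : ∀ A ∈ W, A ≤ Gs := by
    rw [hW]; rintro _ ⟨x, hx, rfl⟩
    exact Subgroup.zpowers_le.2 (hgen x hx)
  have hWW : ∀ A ∈ W, ∀ B ∈ W, IsUnipotentOn (A ⊔ B) := by
    rw [hW]; rintro _ ⟨x, hx, rfl⟩ _ ⟨y, hy, rfl⟩
    obtain ⟨b₁, a₁, hz₁, e₁⟩ := (hSB ▸ hx : x ∈ {x | ∃ b a, RadV Y S T b a ∧ b * a * T = x})
    obtain ⟨b₂, a₂, hz₂, e₂⟩ := (hSB ▸ hy : y ∈ {x | ∃ b a, RadV Y S T b a ∧ b * a * T = x})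
    refine isUnipotentOn_of_words (N := {x, y}) (n := 8)
      (gens := {fam (hsq x hx) (1 : ZMod p), fam (hsq y hy) (1 : ZMod p)}) (fun l hl hlen => ?_) ?_
      (sup_le (Subgroup.zpowers_le.2 (Subgroup.subset_closure (Or.inl rfl)))
        (Subgroup.zpowers_le.2 (Subgroup.subset_closure (Or.inr rfl))))
    · exact word_eq_zero (hsq x hx) (hsq y hy) (e₁ ▸ e₂ ▸ G.rad_pair_nil hp hz₁ hz₂)
        (e₁ ▸ e₂ ▸ G.rad_pair_nil hp hz₂ hz₁) (fun z hz => hl z hz) hlen
    · rintro g (rfl | rfl) <;> rw [fam_val, fam_inv_val, one_smul, add_sub_cancel_left, sub_sub_cancel_left]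
      · exact ⟨mem_wordSpan_one (Or.inl rfl), neg_mem (mem_wordSpan_one (Or.inl rfl))⟩
      · exact ⟨mem_wordSpan_one (Or.inr rfl), neg_mem (mem_wordSpan_one (Or.inr rfl))⟩
  have hWconj : ∀ A ∈ W, ∀ g ∈ Gs, conjBy A g ∈ W := by
    rw [hW]; rintro _ ⟨x, hx, rfl⟩ g hg
    have hgx : conjEnd g x ∈ SB := (show conjEnd g '' SB = SB from hg) ▸ ⟨x, hx, rfl⟩
    refine ⟨_, hgx, ?_⟩
    rw [conjBy, MonoidHom.map_zpowers]
    congr 1
    refine Units.ext ?_
    show ((g * fam (hsq x hx) (1 : ZMod p) * g⁻¹ : GL) : E) = _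
    rw [conj_one_add g _ (fam_val _ _), fam_val]
  have hu := unipotent_of_pairs hWG hWW hWconj
  obtain ⟨X', hX'⟩ : ∃ X' : Submodule (ZMod p) M, X' = LinearMap.range S ⊓
      ⨅ (b : E) (a : E) (_ : RadV Y S T b a), LinearMap.ker (b * a * T) := ⟨_, rfl⟩
  have hmem : ∀ {x}, x ∈ X' ↔ x ∈ LinearMap.range S ∧ ∀ b a, RadV Y S T b a → (b * a * T) x = 0 := by
    intro x; rw [hX']; simp [Submodule.mem_iInf]
  have heq : X' = LinearMap.range S := by
    refine G.eq_range hp hY hss (hX' ▸ inf_le_left) (fun d c h x hx => ?_) (fun A hA x hx => ?_)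
      (fun C hC x hxC hxS hx0 => ?_)
    · obtain ⟨hxS, hx0⟩ := hmem.1 hx
      refine hmem.2 ⟨?_, fun b a hz => ?_⟩
      · rw [← (G.cor_invV hp h h).1, Module.End.mul_apply, Module.End.mul_apply]; exact ⟨_, rfl⟩
      obtain ⟨hzz, hpol, -⟩ := G.rad_polar hp hz h
      have hzq := G.rad_transform hp hz h
      have h1 := hx0 _ _ (G.radV_add hz hzq)
      have h2' := hx0 _ _ hzq
      have h3 := hx0 _ _ hz
      obtain ⟨-, hBr⟩ := G.cor_invV hp h h
      obtain ⟨-, hβr⟩ := G.cor_invV hp hz.1 h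
      have e : (-((2 : ZMod p)⁻¹ • (d * c * T * b) + b * c * T * d)) * a * T =
          b * (((2 : ZMod p)⁻¹ • (a * T * (d * c * T)) + c * T * (b * c * T)) * S) * T :=
        G.rad_symm hz hzq
      have hquad : ∀ b a b' a' : E,
          (b + b') * (a + a') * T = b * a * T + (b' * a * T + b * a' * T) + b' * a' * T := fun b a b' a' => by
        simp only [add_mul, mul_add]; abel
      rw [hquad, e] at h1
      simp only [LinearMap.add_apply, h2', h3, zero_add, add_zero] at h1
      rw [← two_smul (ZMod p)] at h1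
      have h4 := (smul_eq_zero.1 h1).resolve_left h2
      rw [mul_assoc b, mul_assoc _ S T, add_mul, smul_mul_assoc, mul_assoc (a * T), hBr, mul_assoc (c * T), hβr,
        mul_add, mul_smul_comm, show b * (a * T * (d * c * T)) = b * a * T * (d * c * T) by simp only [mul_assoc],
        show b * (c * T * (b * c * T)) = b * c * T * (b * c * T) by simp only [mul_assoc], LinearMap.add_apply,
        LinearMap.smul_apply] at h4
      have h5 := LinearMap.congr_fun hpol x
      rw [LinearMap.add_apply, LinearMap.add_apply, LinearMap.smul_apply, Module.End.mul_apply (d * c * T) _ x, h3,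
        map_zero, zero_add, LinearMap.zero_apply] at h5
      rw [← Module.End.mul_apply]
      generalize (b * a * T * (d * c * T)) x = u at h4 h5 ⊢
      generalize (b * c * T * (b * c * T)) x = v at h4 h5
      have hu : u = -((4 : ZMod p) • v) := eq_neg_of_add_eq_zero_left h5
      rw [hu, smul_neg, smul_smul] at h4
      have : v = 0 := by
        have e2 : (-1 : ZMod p) • v = 0 := by
          rw [show (2 : ZMod p)⁻¹ * 4 = 2 by
            rw [show (4 : ZMod p) = 2 * 2 by norm_num, ← mul_assoc, inv_mul_cancel₀ h2, one_mul]] at h4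
          rw [← h4]; module
        exact (smul_eq_zero.1 e2).resolve_left (neg_ne_zero.2 one_ne_zero)
      rw [hu, this, smul_zero, neg_zero]
    · obtain ⟨hxS, hx0⟩ := hmem.1 hx
      refine hmem.2 ⟨?_, fun b a hz => ?_⟩
      · rw [← (G.cor_space hA).1, Module.End.mul_apply, Module.End.mul_apply]; exact ⟨_, rfl⟩
      rw [← Module.End.mul_apply, G.rad_comm_space hp hz hz.1 hA, Module.End.mul_apply, hx0 b a hz, map_zero]
    · have hinvC : ∀ g ∈ supW W, ∀ m ∈ C ⊓ LinearMap.range S, (g : E) m ∈ C ⊓ LinearMap.range S := by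
        intro g hg m hm
        have hle : supW W ≤ setStab (C ⊓ LinearMap.range S) := by
          refine iSup₂_le fun A hA => ?_
          rw [hW] at hA
          obtain ⟨x, hx, rfl⟩ := hA
          refine Subgroup.zpowers_le.2 (map_eq_of_map_le ?_)
          rintro _ ⟨m, ⟨hmC, hmS⟩, rfl⟩
          rw [fam_val, one_smul, LinearMap.add_apply, Module.End.one_apply]
          obtain ⟨b', a', hz', rfl⟩ := (hSB ▸ hx : x ∈ {x | ∃ b a, RadV Y S T b a ∧ b * a * T = x})
          refine ⟨add_mem hmC ?_, add_mem hmS ?_⟩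
          · exact (G.invariant_invV hC hz'.1 (G.invariant_invV hC hz'.1 (G.invariant_S hC hmC).2.1).2).1
          · rw [← (G.cor_invV hp hz'.1 hz'.1).1, Module.End.mul_apply, Module.End.mul_apply]; exact ⟨_, rfl⟩
        have := Submodule.mem_map_of_mem (f := (g : E)) hm
        rwa [show (C ⊓ LinearMap.range S).map (g : E) = C ⊓ LinearMap.range S from hle hg] at this
      obtain ⟨y, ⟨hyC, hyS⟩, hy0, hy⟩ := exists_fixed_mem hu (C := C ⊓ LinearMap.range S) hinvC
        ⟨hxC, hxS⟩ hx0
      refine ⟨y, hyC, hmem.2 ⟨hyS, fun b a hz => ?_⟩, hy0⟩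
      have hx' : b * a * T ∈ SB := hSB ▸ ⟨b, a, hz, rfl⟩
      have := hy _ (le_supW (A := Subgroup.zpowers (fam (hsq _ hx') (1 : ZMod p)))
        (hW ▸ ⟨_, hx', rfl⟩) (Subgroup.mem_zpowers _))
      rwa [fam_val, one_smul, LinearMap.add_apply, Module.End.one_apply, add_eq_left] at this
  obtain ⟨-, hr⟩ := G.cor_invV hp hz.1 hz.1
  rw [← hr]
  refine LinearMap.ext fun m => ?_
  have hmX : (S * T) m ∈ X' := by
    rw [heq, Module.End.mul_apply]; exact ⟨_, rfl⟩
  exact (hmem.1 hmX).2 b a hz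

/-- The chain group has no element central modulo the root group. -/
theorem rad_eq_zero (hp : 5 ≤ p) (hY : Y ≤ comp Y S) (hss : Semisimple Y) (hfix : NoFixed Y) {b a : E}
    (hz : RadV Y S T b a) : b = 0 ∧ a = 0 := by
  classical
  obtain ⟨h2, -, -⟩ := two_three (p := p) hp
  have hrad0 : ∀ {b a b' a' : E}, RadV Y S T b a → RadV Y S T b' a' → b * a' * T = 0 := by
    intro b a b' a' hz hz'
    have h1 := G.rad_quad_eq_zero hp hY hss (G.radV_add hz hz')
    have h2' := G.rad_quad_eq_zero hp hY hss hz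
    have h3 := G.rad_quad_eq_zero hp hY hss hz'
    rw [add_mul, mul_add, mul_add, add_mul, add_mul, add_mul, h2', h3, G.rad_symm hz hz', zero_add, add_zero,
      ← two_smul (ZMod p)] at h1
    exact (smul_eq_zero.1 h1).resolve_left h2
  have hzero : ∀ {b a b' a' d c : E}, RadV Y S T b a → RadV Y S T b' a' → InV Y S T d c →
      b * c * T * (b' * c * T) = 0 := by
    intro b a b' a' d c hz hz' h
    have h1 := hrad0 (G.rad_transform hp hz h) hz'
    rw [show (-((2 : ZMod p)⁻¹ • (d * c * T * b) + b * c * T * d)) * a' * T =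
      -((2 : ZMod p)⁻¹ • (d * c * T * (b * a' * T)) + b * c * T * (d * a' * T)) by
      simp only [neg_mul, add_mul, smul_mul_assoc, mul_assoc], hrad0 hz hz', mul_zero, smul_zero, zero_add,
      neg_eq_zero] at h1
    rw [show d * a' * T = b' * c * T by rw [hz'.2 d c h]] at h1
    exact h1
  have hswap : ∀ {b a b' a' d c d' c' : E}, RadV Y S T b a → RadV Y S T b' a' → InV Y S T d c →
      InV Y S T d' c' → b * c' * T * (b' * c * T) = -(b * c * T * (b' * c' * T)) := by
    intro b a b' a' d c d' c' hz hz' h h'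
    have h1 := hzero hz hz' (G.invV_add h h')
    have h2' := hzero hz hz' h
    have h3 := hzero hz hz' h'
    simp only [mul_add, add_mul, h2', h3, zero_add, add_zero] at h1
    exact eq_neg_of_add_eq_zero_left (by rw [← h1]; try abel)
  obtain ⟨X', hX'⟩ : ∃ X' : Submodule (ZMod p) M, X' = LinearMap.range S ⊓
      ⨅ (b : E) (a : E) (d : E) (c : E) (_ : RadV Y S T b a) (_ : InV Y S T d c), LinearMap.ker (b * c * T) :=
    ⟨_, rfl⟩
  have hmem : ∀ {x}, x ∈ X' ↔ x ∈ LinearMap.range S ∧
      ∀ b a d c, RadV Y S T b a → InV Y S T d c → (b * c * T) x = 0 := by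
    intro x; rw [hX']; simp [Submodule.mem_iInf]
  have heq : X' = LinearMap.range S := by
    refine G.eq_range hp hY hss (hX' ▸ inf_le_left) (fun d' c' h' x hx => ?_) (fun A hA x hx => ?_)
      (fun C hC x hxC hxS hx0 => ?_)
    · obtain ⟨hxS, hx0⟩ := hmem.1 hx
      refine hmem.2 ⟨?_, fun b a d c hz h => ?_⟩
      · rw [← (G.cor_invV hp h' h').1, Module.End.mul_apply, Module.End.mul_apply]; exact ⟨_, rfl⟩
      have hzq := G.rad_transform hp hz h'
      have h1 := hx0 _ _ d c hzq h
      obtain ⟨-, hBr⟩ := G.cor_invV hp h' h'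
      obtain ⟨-, hβr⟩ := G.cor_invV hp hz.1 h'
      rw [show (-((2 : ZMod p)⁻¹ • (d' * c' * T * b) + b * c' * T * d')) * c * T =
          d * (((2 : ZMod p)⁻¹ • (a * T * (d' * c' * T)) + c' * T * (b * c' * T)) * S) * T by rw [hzq.2 d c h],
        mul_assoc d, mul_assoc _ S T, add_mul, smul_mul_assoc, mul_assoc (a * T), hBr, mul_assoc (c' * T), hβr,
        mul_add, mul_smul_comm,
        show d * (a * T * (d' * c' * T)) = d * a * T * (d' * c' * T) by simp only [mul_assoc], ← hz.2 d c h,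
        ← mul_assoc d, LinearMap.add_apply, Module.End.mul_apply _ (b * c' * T) x, hx0 b a d' c' hz h', map_zero,
        add_zero, LinearMap.smul_apply, smul_eq_zero] at h1
      rw [← Module.End.mul_apply]
      exact h1.resolve_left (inv_ne_zero h2)
    · obtain ⟨hxS, hx0⟩ := hmem.1 hx
      refine hmem.2 ⟨?_, fun b a d c hz h => ?_⟩
      · rw [← (G.cor_space hA).1, Module.End.mul_apply, Module.End.mul_apply]; exact ⟨_, rfl⟩
      rw [← Module.End.mul_apply, G.rad_comm_space hp hz h hA, Module.End.mul_apply, hx0 b a d c hz h, map_zero]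
    · suffices key : ∀ F : Finset (E × E), ∃ y ∈ C, y ∈ LinearMap.range S ∧ y ≠ 0 ∧
          ∀ dc ∈ F, InV Y S T dc.1 dc.2 → ∀ b a, RadV Y S T b a → (b * dc.2 * T) y = 0 by
        let _ := Fintype.ofFinite (E × E)
        obtain ⟨y, hyC, hyS, hy0, hy⟩ := key Finset.univ
        exact ⟨y, hyC, hmem.2 ⟨hyS, fun b a d c hz h => hy (d, c) (Finset.mem_univ _) h b a hz⟩, hy0⟩
      intro F
      induction F using Finset.induction with
      | empty => exact ⟨x, hxC, hxS, hx0, by simp⟩
      | @insert q F _ ih =>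
        obtain ⟨y, hyC, hyS, hy0, hy⟩ := ih
        by_cases hq : InV Y S T q.1 q.2 → ∀ b a, RadV Y S T b a → (b * q.2 * T) y = 0
        · refine ⟨y, hyC, hyS, hy0, fun dc hdc => ?_⟩
          rcases Finset.mem_insert.1 hdc with rfl | h
          exacts [hq, hy dc h]
        · push Not at hq
          obtain ⟨hqI, b', a', hz', hne⟩ := hq
          refine ⟨(b' * q.2 * T) y, ?_, ?_, hne, fun dc hdc hI b a hz => ?_⟩
          · exact (G.invariant_invV hC hz'.1 (G.invariant_invV hC hqI (G.invariant_S hC hyC).2.1).2).1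
          · rw [← (G.cor_invV hp hz'.1 hqI).1, Module.End.mul_apply, Module.End.mul_apply]; exact ⟨_, rfl⟩
          rw [← Module.End.mul_apply]
          rcases Finset.mem_insert.1 hdc with rfl | h
          · rw [hzero hz hz' hqI]; rfl
          · rw [hswap hz hz' hqI hI, LinearMap.neg_apply, Module.End.mul_apply, hy dc h hI b' a' hz', map_zero,
              neg_zero]
  have hbc : ∀ d c, InV Y S T d c → b * c = 0 := by
    intro d c h
    obtain ⟨-, hr⟩ := G.cor_invV hp hz.1 h
    have h0 : b * c * T = 0 := by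
      rw [← hr]
      refine LinearMap.ext fun m => ?_
      have hmX : (S * T) m ∈ X' := by
        rw [heq, Module.End.mul_apply]; exact ⟨_, rfl⟩
      exact (hmem.1 hmX).2 b a d c hz h
    rw [← (G.invV_blocks hp h).c2, ← mul_assoc b, ← mul_assoc (b * c), h0, zero_mul]
  have hbl := G.invV_blocks hp hz.1
  refine ⟨?_, ?_⟩
  · rw [← hbl.d2]; exact G.eq_zero_of_c hp hY hss hfix hbc
  · rw [← hbl.c1]; exact G.eq_zero_of_d hp hY hfix fun d c h => by rw [← hz.2 d c h, hbc d c h]

end Gr

end CfsgLib.QuadEqui
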