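import Cfsg.Agent.QuadEqui.Chain

/-!
Regularity of the chain group on opposite roots, and generation of a component.
-/

set_option autoImplicit false
set_option linter.unusedSectionVars false
set_option linter.deprecated false
set_option linter.style.haveILetI false
set_option linter.unusedSimpArgs false

universe v

namespace CfsgLib.QuadEqui

open Cfsg CfsgLib.QP CfsgLib.QuadFix

variable {p : ℕ} [Fact p.Prime] {M : Type v} [AddCommGroup M] [Module (ZMod p) M] [FiniteDimensional (ZMod p) M]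

local notation "GL" => LinearMap.GeneralLinearGroup (ZMod p) M
local notation "E" => Module.End (ZMod p) M

variable {Y : Subgroup (LinearMap.GeneralLinearGroup (ZMod p) M)} {S T : Module.End (ZMod p) M}

theorem two_three (hp : 5 ≤ p) : (2 : ZMod p) ≠ 0 ∧ (3 : ZMod p) ≠ 0 ∧ Nat.card (ZMod p) ≠ 3 := by
  refine ⟨fun h => ?_, fun h => ?_, by rw [Nat.card_zmod]; omega⟩
  · have h' : ((2 : ℕ) : ZMod p) = 0 := by exact_mod_cast h
    rw [ZMod.natCast_eq_zero_iff] at h'
    have := Nat.le_of_dvd two_pos h'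
    omega
  · have h' : ((3 : ℕ) : ZMod p) = 0 := by exact_mod_cast h
    rw [ZMod.natCast_eq_zero_iff] at h'
    have := Nat.le_of_dvd (by omega) h'
    omega

theorem map_eq_of_map_le {W : Submodule (ZMod p) M} {g : GL} (h : W.map (g : E) ≤ W) : W.map (g : E) = W :=
  Submodule.eq_of_le_of_finrank_le h
    (le_of_eq (W.equivMapOfInjective _ ((Module.End.isUnit_iff _).1 g.isUnit).1).finrank_eq)

theorem stab_of_onChain (hS : S * S = 0) {c : (ZMod p)ˣ} {g : GL} (hg : OnChain S c g) : Stab S g := by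
  refine ⟨map_eq_of_map_le ?_, map_eq_of_map_le ?_⟩
  · rintro _ ⟨x, hx, rfl⟩
    rw [hg.1 x hx]
    exact Submodule.smul_mem _ _ hx
  · rintro _ ⟨x, hx, rfl⟩
    have h1 : (g : E) x - x ∈ LinearMap.ker S := by
      obtain ⟨y, hy⟩ := hg.2.1 x hx
      rw [← hy]
      exact LinearMap.congr_fun hS y
    have := add_mem h1 hx
    rwa [sub_add_cancel] at this

/-- Transport of the chain group. -/
theorem chain_map {hS : S * S = 0} {S' : E} {hS' : S' * S' = 0} {g q : GL} (hg : g ∈ Y)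
    (hR : LinearMap.range (conjEnd g S) = LinearMap.range S')
    (hK : LinearMap.ker (conjEnd g S) = LinearMap.ker S') (hq : q ∈ chain Y hS) :
    g * q * g⁻¹ ∈ chain Y hS' := by
  refine ⟨mul_mem (mul_mem hg hq.1) (inv_mem hg), ?_⟩
  have happ : ∀ y, ((g * q * g⁻¹ : GL) : E) ((g : E) y) = (g : E) ((q : E) y) := fun y => by
    show (((g * q * g⁻¹ : GL) : E) * (g : E)) y = _
    rw [← Units.val_mul, inv_mul_cancel_right, Units.val_mul]
    rfl
  rw [range_conjEnd] at hR
  rw [ker_conjEnd] at hK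
  refine ⟨fun x hx => ?_, fun x hx => ?_, fun x => ?_⟩
  · rw [← hR] at hx
    obtain ⟨y, hy, rfl⟩ := hx
    rw [happ, hq.2.1 y hy, map_smul]
  · rw [← hK] at hx
    obtain ⟨y, hy, rfl⟩ := hx
    rw [happ, ← map_sub, ← hR]
    exact ⟨_, hq.2.2.1 y hy, rfl⟩
  · have e : x = (g : E) (((g⁻¹ : GL) : E) x) := by
      rw [← Module.End.mul_apply, Units.mul_inv]; rfl
    rw [e, happ, ← map_smul, ← map_sub, ← hK]
    exact ⟨_, hq.2.2.2 _, rfl⟩

theorem chain_eq {hS : S * S = 0} {S' : E} {hS' : S' * S' = 0}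
    (hR : LinearMap.range S = LinearMap.range S') (hK : LinearMap.ker S = LinearMap.ker S') {q : GL} :
    q ∈ chain Y hS ↔ q ∈ chain Y hS' := by
  simp only [mem_chain, OnChain, hR, hK]

namespace Gr

variable (G : Gr Y S T)
include G

theorem onChain_torus {c : (ZMod p)ˣ} {t : GL} (ht : (t : E) =
    mid S T + (c : ZMod p) • (S * T) + ((c⁻¹ : (ZMod p)ˣ) : ZMod p) • (T * S)) : OnChain S c t := by
  refine ⟨fun x hx => ?_, fun x hx => ?_, fun x => ?_⟩
  · obtain ⟨y, rfl⟩ := hx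
    have : (t : E) * S = (c : ZMod p) • S := by
      rw [ht, add_mul, add_mul, smul_mul_assoc, smul_mul_assoc, G.mid_S, G.sts, mul_assoc T, G.SS, mul_zero,
        smul_zero, zero_add, add_zero]
    exact LinearMap.congr_fun this y
  · have hz := G.mem_ker_iff.1 hx
    rw [G.mem_range_iff, ht]
    simp only [LinearMap.add_apply, LinearMap.smul_apply, hz, smul_zero, add_zero]
    conv_lhs => arg 2; arg 2; rw [G.split (S := S) (T := T) x, hz, add_zero]
    conv_rhs => arg 2; rw [G.split (S := S) (T := T) x, hz, add_zero]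
    have e1 : (S * T) (mid S T x) = 0 := by
      rw [← Module.End.mul_apply, mul_assoc, G.T_mid, mul_zero]; rfl
    have e2 : (S * T) ((S * T) x) = (S * T) x := by
      rw [← Module.End.mul_apply, mul_assoc, G.TST]
    simp only [map_sub, map_add, map_smul, e1, e2, smul_zero, add_zero, zero_add]
    module
  · rw [LinearMap.mem_ker, map_sub, map_smul, sub_eq_zero]
    have : S * (t : E) = ((c⁻¹ : (ZMod p)ˣ) : ZMod p) • S := by
      rw [ht, mul_add, mul_add, mul_smul_comm, mul_smul_comm, G.S_mid, G.SS', G.STS, smul_zero, zero_add, zero_add]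
    exact LinearMap.congr_fun this x

theorem torus_proj {c : (ZMod p)ˣ} {t : GL} (ht : (t : E) =
    mid S T + (c : ZMod p) • (S * T) + ((c⁻¹ : (ZMod p)ˣ) : ZMod p) • (T * S)) :
    ((t : E) - 1) * ((t : E) - ((c⁻¹ : (ZMod p)ˣ) : ZMod p) • 1) =
        (((c : ZMod p) - 1) * ((c : ZMod p) - ((c⁻¹ : (ZMod p)ˣ) : ZMod p))) • (S * T) ∧
      ((t : E) - 1) * ((t : E) - (c : ZMod p) • 1) =
        ((((c⁻¹ : (ZMod p)ˣ) : ZMod p) - 1) * (((c⁻¹ : (ZMod p)ˣ) : ZMod p) - (c : ZMod p))) • (T * S) := by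
  have hci : (c : ZMod p) * ((c⁻¹ : (ZMod p)ˣ) : ZMod p) = 1 := Units.mul_inv c
  generalize ((c⁻¹ : (ZMod p)ˣ) : ZMod p) = ci at hci ht ⊢
  rw [ht, ← G.one_eq]
  obtain ⟨m, hm⟩ : ∃ m, m = mid S T := ⟨_, rfl⟩
  obtain ⟨a, ha⟩ : ∃ a, a = S * T := ⟨_, rfl⟩
  obtain ⟨b, hb⟩ : ∃ b, b = T * S := ⟨_, rfl⟩
  rw [← hm, ← ha, ← hb]
  have r1 : m * m = m := hm ▸ G.mid_mid
  have r2 : a * a = a := by rw [ha, mul_assoc, G.TST]
  have r3 : b * b = b := by rw [hb, mul_assoc, G.STS]
  have r4 : m * a = 0 := by rw [hm, ha, G.mid_S']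
  have r5 : m * b = 0 := by rw [hm, hb, G.mid_T']
  have r6 : a * m = 0 := by rw [hm, ha, mul_assoc, G.T_mid, mul_zero]
  have r7 : b * m = 0 := by rw [hm, hb, mul_assoc, G.S_mid, mul_zero]
  have r8 : a * b = 0 := by rw [ha, hb, mul_assoc, G.TT', mul_zero]
  have r9 : b * a = 0 := by rw [ha, hb, mul_assoc, G.SS', mul_zero]
  constructor <;>
  · simp only [smul_add, mul_add, add_mul, sub_mul, mul_sub, smul_mul_assoc, mul_smul_comm, r1, r2, r3, r4, r5, r6,
      r7, r8, r9, smul_zero, add_zero, zero_add, sub_zero]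
    module

/-- The chain group is transitive on opposite roots. -/
theorem exists_regular (hp : 5 ≤ p) {T' : E} (hT' : IsMinRoot Y T') (hne : S * T' * S ≠ 0) :
    ∃ q ∈ chain Y G.hS.sq, ∃ T₂ ∈ rootSpace Y G.hT.sq, T₂ ≠ 0 ∧ T' = conjEnd q T₂ := by
  obtain ⟨h2, h3', h3⟩ := two_three (p := p) hp
  obtain ⟨V, hV, hVm, hSVS, hVSV⟩ := exists_normal_opposite G.hS hT' h2 h3 hne
  have G' : Gr Y S V := ⟨G.hS, hV, hSVS, hVSV⟩
  obtain ⟨c, hc⟩ : ∃ c : (ZMod p)ˣ, (c : ZMod p) = 2 := ⟨Units.mk0 2 h2, rfl⟩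
  obtain ⟨t, htY, ht⟩ := G.exists_torusElem c
  obtain ⟨t', ht'Y, ht'⟩ := G'.exists_torusElem c
  have htc := G.onChain_torus ht
  have ht'c := G'.onChain_torus ht'
  have htci : OnChain S c⁻¹ t⁻¹ := by
    have hpow : ∀ i : ℕ, OnChain S (c ^ i) (t ^ i) := by
      intro i
      induction i with
      | zero => rw [pow_zero, pow_zero]; exact onChain_one
      | succ i ih => rw [pow_succ, pow_succ]; exact ih.mul G.SS htc
    obtain ⟨n, hn0, hn⟩ : ∃ n, t⁻¹ = t ^ n ∧ t ^ (n + 1) = 1 := ⟨orderOf t - 1, by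
      apply inv_eq_of_mul_eq_one_left
      rw [← pow_succ, Nat.sub_add_cancel (orderOf_pos t), pow_orderOf_eq_one], by
      rw [Nat.sub_add_cancel (orderOf_pos t), pow_orderOf_eq_one]⟩
    have h1 : c ^ (n + 1) = 1 := (hn ▸ hpow (n + 1)).unique G.hS.ne onChain_one
    rw [hn0, inv_eq_of_mul_eq_one_left (by rw [← pow_succ]; exact h1 : c ^ n * c = 1)]
    exact hpow n
  have hstab := stab_of_onChain G.SS htc
  have htQ : Subgroup.zpowers t ≤ Subgroup.normalizer (chain Y G.hS.sq : Set GL) := by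
    rw [Subgroup.zpowers_le, Subgroup.mem_normalizer_iff]
    intro x
    refine ⟨fun hx => chain_conj htY hstab hx, fun hx => ?_⟩
    have := chain_conj (inv_mem htY) (stab_of_onChain G.SS htci) hx
    simpa [mul_assoc] using this
  have hot : orderOf t ∣ orderOf c := by
    rw [orderOf_dvd_iff_pow_eq_one]
    have hp' : ∀ i : ℕ, (t : E) ^ i =
        mid S T + ((c ^ i : (ZMod p)ˣ) : ZMod p) • (S * T) + (((c ^ i)⁻¹ : (ZMod p)ˣ) : ZMod p) • (T * S) := by
      intro i
      induction i with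
      | zero => simp [G.one_eq]
      | succ i ih =>
        rw [pow_succ, ih, ht]
        simp only [pow_succ, mul_inv_rev, Units.val_mul, mul_add, add_mul, smul_mul_assoc, mul_smul_comm,
          mul_assoc, G.mid_mid, G.mid_S', G.mid_T', G.S_mid, G.T_mid, G.TST, G.STS, G.SS', G.TT', mul_zero,
          smul_zero, add_zero, zero_add, smul_smul]
        module
    refine Units.ext ?_
    rw [Units.val_pow_eq_pow_val, hp', pow_orderOf_eq_one]
    simp [G.one_eq]
  have hcop : (Nat.card (Subgroup.zpowers t)).Coprime (Nat.card (chain Y G.hS.sq)) := by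
    obtain ⟨j, hj⟩ := (chain_isPGroup (Y := Y) (hS := G.hS.sq) (by omega) G.hS.ne).exists_card_eq
    rw [hj, Nat.card_zpowers]
    refine Nat.Coprime.pow_right j (Nat.Coprime.coprime_dvd_left (hot.trans (orderOf_dvd_card)) ?_)
    rw [ZMod.card_units]
    exact ((Fact.out : p.Prime).coprime_iff_not_dvd.2 fun h => by
      have := Nat.le_of_dvd (by omega) h; omega).symm
  have hQsol : Group.IsSolvable (chain Y G.hS.sq) := by
    haveI := (chain_isPGroup (Y := Y) (hS := G.hS.sq) (by omega) G.hS.ne).isNilpotent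
    infer_instance
  have hmem : t' * t⁻¹ ∈ chain Y G.hS.sq :=
    ⟨mul_mem ht'Y (inv_mem htY), by simpa using ht'c.mul G.SS htci⟩
  have hle : Subgroup.zpowers t' ≤ Subgroup.zpowers t ⊔ chain Y G.hS.sq := by
    rw [Subgroup.zpowers_le, show t' = t' * t⁻¹ * t by group]
    exact mul_mem (Subgroup.mem_sup_right hmem) (Subgroup.mem_sup_left (Subgroup.mem_zpowers t))
  have hord : orderOf t' = orderOf t := by
    refine orderOf_eq_orderOf_iff.2 fun i => ?_
    have aux : ∀ {V : E} (GV : Gr Y S V) {s : GL} (hs : (s : E) =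
        mid S V + (c : ZMod p) • (S * V) + ((c⁻¹ : (ZMod p)ˣ) : ZMod p) • (V * S)), s ^ i = 1 ↔ c ^ i = 1 := by
      intro V GV s hs
      have hpow : ∀ j : ℕ, (s : E) ^ j =
          mid S V + ((c ^ j : (ZMod p)ˣ) : ZMod p) • (S * V) + (((c ^ j)⁻¹ : (ZMod p)ˣ) : ZMod p) • (V * S) := by
        intro j
        induction j with
        | zero => simp [GV.one_eq]
        | succ j ih =>
          rw [pow_succ, ih, hs]
          simp only [pow_succ, mul_inv_rev, Units.val_mul, mul_add, add_mul, smul_mul_assoc, mul_smul_comm,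
            mul_assoc, GV.mid_mid, GV.mid_S', GV.mid_T', GV.S_mid, GV.T_mid, GV.TST, GV.STS, GV.SS', GV.TT',
            mul_zero, smul_zero, add_zero, zero_add, smul_smul]
          module
      constructor
      · intro h
        have hchain : OnChain S (c ^ i) (s ^ i) := GV.onChain_torus (by rw [Units.val_pow_eq_pow_val, hpow])
        rw [h] at hchain
        exact (onChain_one.unique GV.hS.ne hchain).symm
      · intro h
        refine Units.ext ?_
        rw [Units.val_pow_eq_pow_val, hpow, h]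
        simp [GV.one_eq]
    rw [aux G' ht', aux G ht]
  obtain ⟨q, hq, he⟩ := CfsgLib.SZ.conj_rel htQ hcop (Or.inr hQsol) hle (by
    rw [Nat.card_zpowers, Nat.card_zpowers, hord])
  have hqt : q * t * q⁻¹ ∈ Subgroup.zpowers t' := by
    rw [← he, CfsgLib.SZ.mem_conj_smul]
    rw [show q⁻¹ * (q * t * q⁻¹) * q = t by group]
    exact Subgroup.mem_zpowers t
  obtain ⟨i, hi⟩ := (isOfFinOrder_of_finite t').mem_powers_iff_mem_zpowers.2 hqt
  simp only at hi
  have hqc : OnChain S c (q * t * q⁻¹) := by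
    simpa using (hq.2.mul G.SS htc).mul G.SS (inv_mem hq : q⁻¹ ∈ chain Y G.hS.sq).2
  have hpow' : ∀ j : ℕ, OnChain S (c ^ j) (t' ^ j) := by
    intro j
    induction j with
    | zero => rw [pow_zero, pow_zero]; exact onChain_one
    | succ j ih => rw [pow_succ, pow_succ]; exact ih.mul G.SS ht'c
  have hci : c ^ i = c := (hpow' i).unique G.hS.ne (hi ▸ hqc)
  have hqt' : q * t * q⁻¹ = t' := by
    rw [← hi]
    have hmod : i ≡ 1 [MOD orderOf t'] := by
      rw [hord]
      exact Nat.ModEq.of_dvd hot (pow_eq_pow_iff_modEq.1 (by rw [hci, pow_one]))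
    rw [pow_eq_pow_iff_modEq.2 hmod, pow_one]
  -- the projections correspond
  have hval : (t' : E) = conjEnd q (t : E) := by
    rw [← hqt', conjEnd, Units.val_mul, Units.val_mul]
  have hconj : ∀ r : ZMod p, ((t' : E) - 1) * ((t' : E) - r • 1) =
      conjEnd q (((t : E) - 1) * ((t : E) - r • 1)) := by
    intro r
    have h1 : conjEnd q (1 : E) = 1 := by rw [conjEnd, mul_one, Units.mul_inv]
    rw [← conjEnd_mul, conjEnd_sub, conjEnd_sub, conjEnd_smul, h1, hval]
  obtain ⟨p1, p2⟩ := G.torus_proj ht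
  obtain ⟨p1', p2'⟩ := G'.torus_proj ht'
  have hcinv : ((c⁻¹ : (ZMod p)ˣ) : ZMod p) = (2 : ZMod p)⁻¹ := by rw [Units.val_inv_eq_inv_val, hc]
  have hhalf : (2 : ZMod p) * (2 : ZMod p)⁻¹ = 1 := mul_inv_cancel₀ h2
  have hne1 : ((c : ZMod p) - 1) * ((c : ZMod p) - ((c⁻¹ : (ZMod p)ˣ) : ZMod p)) ≠ 0 := by
    rw [hc, hcinv]
    refine mul_ne_zero (fun e => one_ne_zero (by linear_combination e)) fun e => h3' ?_
    linear_combination (2 : ZMod p) * e + hhalf
  have hne2 : (((c⁻¹ : (ZMod p)ˣ) : ZMod p) - 1) * (((c⁻¹ : (ZMod p)ˣ) : ZMod p) - (c : ZMod p)) ≠ 0 := by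
    rw [hc, hcinv]
    refine mul_ne_zero (fun e => one_ne_zero (α := ZMod p) ?_) fun e => h3' ?_
    · linear_combination (-2 : ZMod p) * e + hhalf
    · linear_combination (-2 : ZMod p) * e + hhalf
  have hP1 : conjEnd q (S * T) = S * V := by
    have h := hconj ((c⁻¹ : (ZMod p)ˣ) : ZMod p)
    rw [p1, p1', conjEnd_smul] at h
    exact (smul_right_injective E hne1 h).symm
  have hP2 : conjEnd q (T * S) = V * S := by
    have h := hconj (c : ZMod p)
    rw [p2, p2', conjEnd_smul] at h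
    exact (smul_right_injective E hne2 h).symm
  obtain ⟨hVm', hVk, hVr⟩ := hT'.of_mem_rootSpace hVm hV.ne
  have hT'V : T' ∈ rootSpace Y G'.symm.hS.sq := by
    refine ⟨le_of_eq hVk, le_of_eq hVr.symm, hT'.fam⟩
  obtain ⟨b1, b2, -⟩ := G'.symm.rootSpace_blocks hT'V
  refine ⟨q, hq, conjEnd q⁻¹ T', ?_, fun e => hT'.ne (conjEnd_eq_zero e), by
    rw [conjEnd_conjEnd, mul_inv_cancel, conjEnd_one]⟩
  have e1 : conjEnd q⁻¹ (V * S) = T * S := by rw [← hP2, conjEnd_conjEnd, inv_mul_cancel, conjEnd_one]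
  have e2 : conjEnd q⁻¹ (S * V) = S * T := by rw [← hP1, conjEnd_conjEnd, inv_mul_cancel, conjEnd_one]
  refine G.symm.mem_rootSpace_of_blocks ?_ ?_ (hT'.fam.conj (inv_mem hq.1))
  · rw [← e1, conjEnd_mul, b1]
  · rw [← e2, conjEnd_mul, b2]

theorem space_mem_chain {A : E} (hA : A ∈ rootSpace Y G.hS.sq) {g : GL} (hg : g ∈ Y) {c : ZMod p}
    (hge : (g : E) = 1 + c • A) : g ∈ chain Y G.hS.sq :=
  G.mem_chain_of_blocks hg (G.blocks_space (Submodule.smul_mem _ c hA)) (by rw [hge, add_zero, add_zero])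

/-- A subgroup containing the chain group and the opposite family contains the component. -/
theorem comp_le_of_generators (hp : 5 ≤ p) {H : Subgroup GL} (hQ : chain Y G.hS.sq ≤ H)
    (hT : ∀ c : ZMod p, fam G.hT.sq c ∈ H) : comp Y S ≤ H := by
  obtain ⟨h2, -, h3⟩ := two_three (p := p) hp
  obtain ⟨w, hwY, hw, hwe⟩ := G.exists_weylElem 1
  have hwH : w ∈ H := by
    rw [hwe]
    have hs : ∀ c : ZMod p, fam G.hS.sq c ∈ H := fun c => hQ (G.space_mem_chain (mem_rootSpace_self G.hS.toIsRoot)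
      (fam_mem G.hS.fam _ _) (fam_val _ _))
    exact mul_mem (mul_mem (hs _) (hT _)) (hs _)
  rw [inv_one, Units.val_one, one_smul, one_smul] at hw
  have hwS : conjEnd w S = -T := by
    refine conjEnd_eq_of_mul ?_
    rw [hw]
    simp only [sub_mul, add_mul, mul_sub, mul_add, neg_mul, G.mid_S, G.SS, G.T_mid, G.TT]
    abel
  have hQT : chain Y G.hT.sq ≤ H := by
    intro q hq
    have hq' : w⁻¹ * q * w⁻¹⁻¹ ∈ chain Y G.hS.sq := by
      refine chain_map (inv_mem hwY) ?_ ?_ hq <;>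
      · rw [show T = -conjEnd w S by rw [hwS, neg_neg], ← neg_one_smul (ZMod p) (conjEnd w S), ← conjEnd_smul,
          conjEnd_conjEnd, inv_mul_cancel, conjEnd_one, neg_one_smul]
        first
        | exact LinearMap.range_neg _
        | exact LinearMap.ker_neg _
    have := mul_mem (mul_mem hwH (hQ hq')) (inv_mem hwH)
    simpa [mul_assoc] using this
  have key : ∀ {S' : E}, Conn Y S S' → ∃ (T' : E) (G' : Gr Y S' T'),
      chain Y G'.hS.sq ≤ H ∧ chain Y G'.hT.sq ≤ H := by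
    intro S' hc
    induction hc with
    | refl => exact ⟨T, G, hQ, hQT⟩
    | @tail B C _ hBC ih =>
      obtain ⟨T', G', hB', hT'H⟩ := ih
      obtain ⟨-, hC, hne⟩ := hBC
      obtain ⟨q, hq, T₂, hT₂, hT₂0, e⟩ := G'.exists_regular hp hC hne
      obtain ⟨-, hk, hr⟩ := G'.hT.of_mem_rootSpace hT₂ hT₂0
      obtain ⟨V, hV, hVm, hCVC, hVCV⟩ := exists_normal_opposite hC G'.hS h2 h3
        (opposite_symm G'.hS hC h2 h3 hne)
      obtain ⟨-, hk', hr'⟩ := G'.hS.of_mem_rootSpace hVm hV.ne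
      refine ⟨V, ⟨hC, hV, hCVC, hVCV⟩, fun x hx => ?_, fun x hx => hB' ((chain_eq hr' hk').1 hx)⟩
      have hx' : q⁻¹ * x * q⁻¹⁻¹ ∈ chain Y G'.hT.sq := by
        refine chain_map (inv_mem hq.1) ?_ ?_ hx <;>
        · rw [e, conjEnd_conjEnd, inv_mul_cancel, conjEnd_one]
          assumption
      have := mul_mem (mul_mem (hB' hq) (hT'H hx')) (inv_mem (hB' hq))
      simpa [mul_assoc] using this
  refine iSup₂_le fun A hA => ?_
  obtain ⟨σ, hσ, hc, rfl⟩ := hA
  obtain ⟨T', G', hS', -⟩ := key hc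
  intro x hx
  have hmem := (mem_sameActionSubgroup hσ).1 hx
  exact hS' (G'.space_mem_chain hmem (sameActionSubgroup_le hσ hx) (c := (1 : ZMod p))
    (by rw [one_smul, add_sub_cancel]))

end Gr

end CfsgLib.QuadEqui
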