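import Cfsg.Agent.QuadEqui.Central
import Cfsg.Agent.Solvable.CoprimeAct
import Mathlib.GroupTheory.Nilpotent

/-!
The invariant Sylow subgroups of a component stabilise the fixed pair of roots, and a `p`-subgroup
normalised by the fixed points centralises it.
-/

set_option autoImplicit false
set_option linter.unusedSectionVars false
set_option linter.deprecated false
set_option linter.style.haveILetI false
set_option linter.unusedSimpArgs false

universe v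

namespace CfsgLib.QuadEqui

open Cfsg CfsgLib.QP CfsgLib.QuadFix

variable {p : ℕ} [Fact p.Prime] {M : Type v} [AddCommGroup M] [Module (ZMod p) M] [FiniteDimensional (ZMod p) M]

local notation "GL" => LinearMap.GeneralLinearGroup (ZMod p) M
local notation "E" => Module.End (ZMod p) M

variable {Y : Subgroup (LinearMap.GeneralLinearGroup (ZMod p) M)} {S T : Module.End (ZMod p) M}

/-- A unipotent group does not contain elements of two opposite roots. -/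
theorem not_opposite_of_mem {s t : E} (hs : IsMinRoot Y s) (ht : IsMinRoot Y t) (hp : 5 ≤ p)
    {H : Subgroup GL} (hH : IsUnipotentOn H) {σ τ : GL} (hσ : σ ∈ H) (hτ : τ ∈ H) (hσe : (σ : E) = 1 + s)
    (hτe : (τ : E) = 1 + t) : s * t * s = 0 := by
  obtain ⟨h2, -, h3⟩ := two_three (p := p) hp
  by_contra hne
  obtain ⟨⟨-, hk⟩, -⟩ := (pair_dichotomy hs h2 h3 ht.sq ht.fam).resolve_left hne
  obtain ⟨n, hn⟩ := (unipotent_iff H).1 hH
  have hsm : s ∈ lam H := by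
    have := mem_lam hσ
    rwa [hσe, add_sub_cancel_left] at this
  have htm : t ∈ lam H := by
    have := mem_lam hτ
    rwa [hτe, add_sub_cancel_left] at this
  have key : ∀ j, (s * t) ^ j * s ∈ lam H ^ (2 * j + 1) ∧ ∀ m, ((s * t) ^ j * s) m = 0 → s m = 0 := by
    intro j
    induction j with
    | zero => exact ⟨by rw [pow_zero, one_mul, pow_one]; exact hsm, fun m hm => by rwa [pow_zero, one_mul] at hm⟩
    | succ j ih =>
      have e : (s * t) ^ (j + 1) * s = (s * t) ^ j * s * (t * s) := by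
        rw [pow_succ]; simp only [mul_assoc]
      refine ⟨?_, fun m hm => ?_⟩
      · rw [e, show 2 * (j + 1) + 1 = 2 * j + 1 + 1 + 1 by omega, pow_succ _ (2 * j + 1 + 1), pow_succ _ (2 * j + 1),
          mul_assoc _ (lam H) (lam H)]
        exact Submodule.mul_mem_mul ih.1 (Submodule.mul_mem_mul htm hsm)
      · rw [e, Module.End.mul_apply] at hm
        have := ih.2 _ hm
        rw [← LinearMap.mem_ker, ← hk, LinearMap.mem_ker]
        exact this
  obtain ⟨h1, h4⟩ := key n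
  rw [show 2 * n + 1 = n + (n + 1) by omega, pow_add, hn, Submodule.bot_mul, Submodule.mem_bot] at h1
  exact hs.ne (LinearMap.ext fun m => h4 m (by rw [h1]; rfl))

namespace Gr

variable (G : Gr Y S T)
include G

theorem mem_rootStab_of_root {g : GL} (hg : g ∈ Y) {A : E} (hA : A ∈ rootSpace Y G.hS.sq) (hA0 : A ≠ 0)
    (h : conjEnd g A ∈ rootSpace Y G.hS.sq) : g ∈ rootStab (rootSpace Y G.hS.sq) := by
  obtain ⟨-, hk, hr⟩ := G.hS.of_mem_rootSpace hA hA0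
  obtain ⟨-, hk', hr'⟩ := G.hS.of_mem_rootSpace h (fun e => hA0 (conjEnd_eq_zero e))
  refine mem_rootStab_of_map G.hS (CfsgLib.RankOne.conjBy_of_mem hg) ?_ ?_
  · rw [← hk, ← ker_conjEnd, hk', hk]
  · rw [← hr, ← range_conjEnd, hr', hr]

theorem commutator_pure {q f : GL} (hq : q ∈ chain Y G.hS.sq) (hf : f ∈ chain Y G.hS.sq) :
    ∃ e ∈ rootSpace Y G.hS.sq, ((q * f * q⁻¹ * f⁻¹ : GL) : E) = 1 + e := by
  have hz : q * f * q⁻¹ * f⁻¹ ∈ chain Y G.hS.sq := mul_mem (mul_mem (mul_mem hq hf) (inv_mem hq)) (inv_mem hf)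
  obtain ⟨d, c, e, hb, hze⟩ := G.exists_blocks hz
  obtain ⟨d₁, c₁, e₁, hb₁, hqe⟩ := G.exists_blocks hq
  obtain ⟨d₂, c₂, e₂, hb₂, hfe⟩ := G.exists_blocks hf
  have h1 : ((q * f * q⁻¹ * f⁻¹ : GL) : E) * ((f : E) * (q : E)) = (q : E) * (f : E) := by
    rw [← Units.val_mul, ← Units.val_mul, ← Units.val_mul]; group
  rw [hze, hqe, hfe, hb₂.mul_val hb₁ G, hb₁.mul_val hb₂ G, hb.mul_val (G.isBlocks_add hb₂ hb₁) G] at h1
  obtain ⟨x1, x2, -⟩ := (G.isBlocks_add hb (G.isBlocks_add hb₂ hb₁)).extract G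
  obtain ⟨y1, y2, -⟩ := (G.isBlocks_add hb₁ hb₂).extract G
  rw [h1, y1, add_comm d₁ d₂] at x1
  rw [h1, y2, add_comm c₁ c₂] at x2
  obtain rfl : d = 0 := by simpa using x1.symm
  obtain rfl : c = 0 := by simpa using x2.symm
  rw [add_zero, add_zero] at hze
  exact ⟨e, G.mem_rootSpace_pure hz.1 hb hze, hze⟩

/-- An invariant Sylow subgroup of `Y` stabilises the root. -/
theorem exists_sylow_stab (hp : 5 ≤ p) (hY : Y ≤ comp Y S) (hrad : RadFree Y) (hss : Semisimple Y)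
    (hfix : NoFixed Y) {A : Subgroup GL} (hAY : A ≤ Subgroup.normalizer (Y : Set GL))
    (hcop : (Nat.card A).Coprime (Nat.card Y)) (hsol : Group.IsSolvable A ∨ Group.IsSolvable Y)
    (hAS : ∀ a ∈ A, conjEnd a S = S) :
    ∃ R : Sylow p Y, A ≤ Subgroup.normalizer ((R : Subgroup Y).map Y.subtype : Set GL) ∧
      (R : Subgroup Y).map Y.subtype ≤ rootStab (rootSpace Y G.hS.sq) := by
  classical
  obtain ⟨N, hN⟩ : ∃ N, N = Y ⊓ rootStab (rootSpace Y G.hS.sq) := ⟨_, rfl⟩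
  have hNY : N ≤ Y := hN ▸ inf_le_left
  have hAN : A ≤ Subgroup.normalizer (N : Set GL) := by
    intro a ha
    have hmem : a ∈ rootStab (rootSpace Y G.hS.sq) := mem_rootStab_of_map G.hS
      (CfsgLib.RankOne.conjBy_eq_self_iff.2 (hAY ha))
      (by rw [← ker_conjEnd, hAS a ha]) (by rw [← range_conjEnd, hAS a ha])
    rw [hN, Subgroup.mem_normalizer_iff]
    intro x
    exact and_congr (Subgroup.mem_normalizer_iff.1 (hAY ha) x)
      (Subgroup.mem_normalizer_iff.1 (Subgroup.le_normalizer hmem) x)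
  obtain ⟨T₁, hT₁⟩ := CfsgLib.CoprimeAct.exists_invariant_sylow hAN
    (hcop.coprime_dvd_right (Subgroup.card_dvd_of_le hNY)) (CfsgLib.CoprimeAct.solvable_or hNY hsol) p
  obtain ⟨U, hU⟩ : ∃ U, U = (T₁ : Subgroup N).map N.subtype := ⟨_, rfl⟩
  rw [← hU] at hT₁
  have hUN : U ≤ N := hU ▸ Subgroup.map_subtype_le _
  have hUp : IsPGroup p U := hU ▸ T₁.2.map _
  obtain ⟨R, hUR, hRA⟩ := CfsgLib.CoprimeAct.exists_invariant_sylow_ge hAY hcop hsol p (hUN.trans hNY) hUp hT₁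
  refine ⟨R, hRA, ?_⟩
  obtain ⟨R', hR'⟩ : ∃ R', R' = (R : Subgroup Y).map Y.subtype := ⟨_, rfl⟩
  rw [← hR'] at hUR ⊢
  suffices h : R' ≤ U by exact h.trans (hUN.trans (hN ▸ inf_le_right))
  by_contra hne
  have hR'p : IsPGroup p R' := hR' ▸ R.2.map _
  have hR'Y : R' ≤ Y := hR' ▸ Subgroup.map_subtype_le _
  haveI : Group.IsNilpotent R' := hR'p.isNilpotent
  have hlt : U.subgroupOf R' < ⊤ := lt_top_iff_ne_top.2 fun h => hne (Subgroup.subgroupOf_eq_top.1 h)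
  obtain ⟨⟨g, hgR⟩, hgN, hgU⟩ := SetLike.exists_of_lt (Group.normalizerCondition_of_isNilpotent _ hlt)
  have hgn : g ∈ Subgroup.normalizer (U : Set GL) := by
    have h2 := Subgroup.le_normalizer_map R'.subtype (Subgroup.mem_map_of_mem R'.subtype hgN)
    rwa [Subgroup.map_subgroupOf_eq_of_le hUR] at h2
  rw [Subgroup.mem_subgroupOf] at hgU
  have hgY : g ∈ Y := hR'Y hgR
  have hgNN : g ∉ N := by
    intro h
    apply hgU
    have hVp : IsPGroup p ↥(U ⊔ Subgroup.zpowers g) := hR'p.to_le (sup_le hUR (Subgroup.zpowers_le.2 hgR))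
    have hVN : U ⊔ Subgroup.zpowers g ≤ N := sup_le hUN (Subgroup.zpowers_le.2 h)
    have hmax := T₁.3 (hVp.comap_subtype (K := N)) (by
      intro x hx
      rw [Subgroup.mem_comap, hU]
      exact Subgroup.mem_sup_left (Subgroup.mem_map_of_mem _ hx))
    have : g ∈ ((U ⊔ Subgroup.zpowers g).comap N.subtype).map N.subtype :=
      ⟨⟨g, h⟩, Subgroup.mem_sup_right (Subgroup.mem_zpowers g), rfl⟩
    rw [hmax, ← hU] at this
    exact this
  have hQN : chain Y G.hS.sq ≤ N := by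
    intro q hq
    rw [hN]
    refine ⟨hq.1, mem_rootStab.2 fun z hz => ?_⟩
    rw [G.chain_commute_space hq hz]; exact hz
  have hconjQ : ∀ {n}, n ∈ N → ∀ {q}, q ∈ chain Y G.hS.sq → n * q * n⁻¹ ∈ chain Y G.hS.sq := by
    intro n hn q hq
    rw [hN] at hn
    exact chain_conj hn.1 (stab_of_mem_rootStab G.hS hn.2) hq
  have hQU : chain Y G.hS.sq ≤ U := by
    haveI : ((chain Y G.hS.sq).comap N.subtype).Normal := ⟨fun q hq n => hconjQ n.2 hq⟩
    have := ((chain_isPGroup (Y := Y) (hS := G.hS.sq) (by omega) G.hS.ne).comap_subtype (K := N)).le_sylow_of_normal T₁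
    rw [hU, ← Subgroup.map_subgroupOf_eq_of_le hQN]
    exact Subgroup.map_mono this
  have hpush : ∀ {q}, q ∈ U → g * q * g⁻¹ ∈ U := fun {q} hq => (Subgroup.mem_normalizer_iff.1 hgn q).1 hq
  have hpull : ∀ {q}, q ∈ U → g⁻¹ * q * g ∈ U := fun {q} hq => by
    have := (Subgroup.mem_normalizer_iff.1 (inv_mem hgn) q).1 hq
    rwa [inv_inv] at this
  have hsame : ∀ {B : E}, B ∈ rootSpace Y G.hS.sq → B ≠ 0 → conjEnd g B ∈ rootSpace Y G.hS.sq → False :=
    fun hB hB0 h => hgNN (by rw [hN]; exact ⟨hgY, G.mem_rootStab_of_root hgY hB hB0 h⟩)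
  have hmemF : ∀ {B : E}, B ∈ rootSpace Y G.hS.sq →
      ∃ f : GL, f ∈ U ∧ (f : E) = 1 + conjEnd g B ∧ f ^ p = 1 := by
    intro B hB
    have hf := G.space_mem_chain hB (fam_mem hB.2.2 (QP.mul_eq_zero_of_mem hB hB) 1) (fam_val _ _)
    refine ⟨g * fam (QP.mul_eq_zero_of_mem hB hB) (1 : ZMod p) * g⁻¹, hpush (hQU hf), ?_, ?_⟩
    · rw [conj_one_add g _ (fam_val _ _), one_smul]
    · rw [conj_pow, pow_eq_one_of_chain (by omega) G.hS.ne hf, mul_one, mul_inv_cancel]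
  obtain ⟨B₀, hB₀, hB₀0, hcase⟩ : ∃ B₀ ∈ rootSpace Y G.hS.sq, B₀ ≠ 0 ∧
      ((∀ f : GL, (f : E) = 1 + conjEnd g B₀ → f ∈ chain Y G.hS.sq) ∨
        ∀ B ∈ rootSpace Y G.hS.sq, ∀ f : GL, (f : E) = 1 + conjEnd g B → f ∈ chain Y G.hS.sq → B = 0) := by
    by_cases h : ∃ B ∈ rootSpace Y G.hS.sq, B ≠ 0 ∧ ∀ f : GL, (f : E) = 1 + conjEnd g B → f ∈ chain Y G.hS.sq
    · obtain ⟨B, hB, hB0, hf⟩ := h
      exact ⟨B, hB, hB0, Or.inl hf⟩
    · refine ⟨S, mem_rootSpace_self G.hS.toIsRoot, G.hS.ne, Or.inr fun B hB f hf hfQ => ?_⟩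
      by_contra hB0
      exact h ⟨B, hB, hB0, fun f' hf' => by rwa [Units.ext (hf'.trans hf.symm)]⟩
  obtain ⟨f, hfU, hfe, hfp⟩ := hmemF hB₀
  have hfcomm : ∀ q ∈ chain Y G.hS.sq, f * q = q * f := by
    intro q hq
    have hmem : g⁻¹ * q * g ∈ rootStab (rootSpace Y G.hS.sq) := (hN ▸ hUN (hpull (hQU hq)) : _ ∈ Y ⊓ _).2
    obtain ⟨B₁, hB₁, hB₁e⟩ : ∃ B₁ ∈ rootSpace Y G.hS.sq, conjEnd q (conjEnd g B₀) = conjEnd g B₁ :=
      ⟨_, mem_rootStab.1 hmem B₀ hB₀, by rw [conjEnd_conjEnd, conjEnd_conjEnd]; congr 1; group⟩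
    obtain ⟨f₁, -, hf₁, -⟩ := hmemF (sub_mem hB₁ hB₀)
    have hqf : q * f * q⁻¹ = f₁ * f := by
      refine Units.ext ?_
      rw [conj_one_add q f (N := conjEnd g B₀) (c := (1 : ZMod p)) (by rw [one_smul, hfe]), one_smul, Units.val_mul,
        hf₁, hfe, hB₁e, mul_add, mul_one, add_mul, one_mul, conjEnd_mul,
        QP.mul_eq_zero_of_mem (sub_mem hB₁ hB₀) hB₀, conjEnd_zero, add_zero, conjEnd_sub, add_assoc,
        sub_add_cancel]
    have hf₁' : f₁ = q * f * q⁻¹ * f⁻¹ := by rw [hqf, mul_inv_cancel_right]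
    have hf₁Q : f₁ ∈ chain Y G.hS.sq := by
      rw [hf₁', show q * f * q⁻¹ * f⁻¹ = q * (f * q⁻¹ * f⁻¹) by group]
      exact mul_mem hq (hconjQ (hUN hfU) (inv_mem hq))
    by_cases hz : B₁ - B₀ = 0
    · rw [hz, conjEnd_zero, add_zero, ← Units.val_one, Units.val_inj] at hf₁
      rw [hf₁, one_mul, mul_inv_eq_iff_eq_mul] at hqf
      exact hqf.symm
    exfalso
    rcases hcase with h | h
    · obtain ⟨e, he, hee⟩ := G.commutator_pure hq (h f hfe)
      rw [← hf₁', hf₁] at hee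
      exact hsame (sub_mem hB₁ hB₀) hz (add_left_cancel hee ▸ he)
    · exact hz (h _ (sub_mem hB₁ hB₀) f₁ hf₁ hf₁Q)
  obtain ⟨A', hA', hfA⟩ := G.eq_of_centralizes hp hY hrad hss hfix (hNY (hUN hfU)) ⟨1, by rw [pow_one]; exact hfp⟩
    hfcomm
  rw [hfe] at hfA
  exact hsame hB₀ hB₀0 (add_left_cancel hfA ▸ hA')

/-- A `p`-subgroup normalised by the operators and their fixed points centralises the root. -/
theorem fixes_root (hp : 5 ≤ p) (hY : Y ≤ comp Y S) (hrad : RadFree Y) (hss : Semisimple Y) (hfix : NoFixed Y)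
    {A : Subgroup GL} (hAY : A ≤ Subgroup.normalizer (Y : Set GL))
    (hcop : (Nat.card A).Coprime (Nat.card Y)) (hsol : Group.IsSolvable A ∨ Group.IsSolvable Y)
    (hAS : ∀ a ∈ A, conjEnd a S = S) (hAT : ∀ a ∈ A, conjEnd a T = T)
    {P : Subgroup GL} (hPY : P ≤ Y) (hPp : IsPGroup p P) (hAP : A ≤ Subgroup.normalizer (P : Set GL))
    (hCP : Y ⊓ Subgroup.centralizer (A : Set GL) ≤ Subgroup.normalizer (P : Set GL))
    {x : GL} (hx : x ∈ P) : conjEnd x S = S := by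
  obtain ⟨h2, -, h3⟩ := two_three (p := p) hp
  obtain ⟨R, hRA, hRN⟩ := G.exists_sylow_stab hp hY hrad hss hfix hAY hcop hsol hAS
  obtain ⟨R₀, hPR, hR₀A⟩ := CfsgLib.CoprimeAct.exists_invariant_sylow_ge hAY hcop hsol p hPY hPp hAP
  obtain ⟨c, hcA, hc⟩ := CfsgLib.CoprimeAct.invariant_sylow_conj hAY hcop hsol p R₀ R hR₀A hRA
  have hxN : x ∈ rootStab (rootSpace Y G.hS.sq) := by
    refine hRN ?_
    have hc' : (c : GL)⁻¹ * x * c ∈ P := by
      have := (Subgroup.mem_normalizer_iff.1 (hCP (inv_mem (⟨c.2, hcA⟩ : (c : GL) ∈ Y ⊓ _))) x).1 hx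
      rwa [inv_inv] at this
    obtain ⟨y, hy, hye⟩ := hPR hc'
    refine ⟨c * y * c⁻¹, ?_, ?_⟩
    · rw [← hc]; exact ⟨y, hy, rfl⟩
    · show (c : GL) * (y : GL) * (c : GL)⁻¹ = x
      rw [show (y : GL) = (c : GL)⁻¹ * x * c from hye]; group
  have hS' := mem_rootStab.1 hxN S (mem_rootSpace_self G.hS.toIsRoot)
  obtain ⟨s, hs⟩ : ∃ s, s = conjEnd x S - S := ⟨_, rfl⟩
  have hsmem : s ∈ rootSpace Y G.hS.sq := hs ▸ sub_mem hS' (mem_rootSpace_self G.hS.toIsRoot)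
  by_contra hne
  have hs0 : s ≠ 0 := hs ▸ sub_ne_zero.2 hne
  have hfixed : ∀ {B : E} (hB : B * B = 0), HasFam Y B → (∀ a ∈ A, conjEnd a B = B) → ∀ r : ZMod p,
      fam hB r ∈ Y ⊓ Subgroup.centralizer (A : Set GL) := by
    intro B hB hfam hAB r
    refine ⟨fam_mem hfam hB r, Subgroup.mem_centralizer_iff.2 fun a ha => ?_⟩
    rw [← mul_inv_eq_iff_eq_mul]
    refine Units.ext ?_
    rw [conj_one_add a _ (fam_val _ _), hAB a ha, fam_val]
  obtain ⟨w, hwY, hw, hwe⟩ := G.exists_weylElem 1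
  have hwC : w ∈ Y ⊓ Subgroup.centralizer (A : Set GL) := by
    rw [hwe]
    exact mul_mem (mul_mem (hfixed G.hS.sq G.hS.fam hAS _) (hfixed G.hT.sq G.hT.fam hAT _))
      (hfixed G.hS.sq G.hS.fam hAS _)
  rw [inv_one, Units.val_one, one_smul, one_smul] at hw
  obtain ⟨hwS, -⟩ := G.conj_weylElem hw
  obtain ⟨u, hu⟩ : ∃ u, u = fam G.hS.sq (1 : ZMod p) := ⟨_, rfl⟩
  have huC : u ∈ Y ⊓ Subgroup.centralizer (A : Set GL) := hu ▸ hfixed G.hS.sq G.hS.fam hAS 1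
  obtain ⟨σ, hσ⟩ : ∃ σ, σ = x * u * x⁻¹ * u⁻¹ := ⟨_, rfl⟩
  have hσP : σ ∈ P := by
    rw [hσ, show x * u * x⁻¹ * u⁻¹ = x * (u * x⁻¹ * u⁻¹) by group]
    exact mul_mem hx ((Subgroup.mem_normalizer_iff.1 (hCP huC) _).1 (inv_mem hx))
  have hσe : (σ : E) = 1 + s := by
    rw [hσ, Units.val_mul, conj_one_add x u (N := S) (c := (1 : ZMod p)) (by rw [hu, fam_val]), hu, fam_inv_val,
      one_smul, one_smul, mul_sub, mul_one, add_mul, one_mul,
      QP.mul_eq_zero_of_mem hS' (mem_rootSpace_self G.hS.toIsRoot), add_zero, hs]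
    abel
  have hτP : w * σ * w⁻¹ ∈ P := (Subgroup.mem_normalizer_iff.1 (hCP hwC) σ).1 hσP
  have hτe : ((w * σ * w⁻¹ : GL) : E) = 1 + conjEnd w s := by
    rw [conj_one_add w σ (N := s) (c := (1 : ZMod p)) (by rw [one_smul, hσe]), one_smul]
  have ht : conjEnd w s ∈ rootSpace Y G.hT.sq := by
    refine ⟨?_, ?_, hsmem.2.2.conj hwY⟩
    · rw [ker_conjEnd, ← LinearMap.ker_neg T, ← hwS, ker_conjEnd]
      exact Submodule.map_mono hsmem.1
    · rw [range_conjEnd, ← LinearMap.range_neg T, ← hwS, range_conjEnd]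
      exact Submodule.map_mono hsmem.2.1
  have ht0 : conjEnd w s ≠ 0 := fun e => hs0 (conjEnd_eq_zero e)
  exact opposite_of_mem G.hS G.hT h2 h3 (G.sts.symm ▸ G.hS.ne) hsmem hs0 ht ht0
    (not_opposite_of_mem (G.hS.of_mem_rootSpace hsmem hs0).1 (G.hT.of_mem_rootSpace ht ht0).1 hp
      (isUnipotentOn_of_isPGroup hPp) hσP hτP hσe hτe)

end Gr

end CfsgLib.QuadEqui
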