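import Cfsg.Agent.QuadEqui.Levi
import Cfsg.Agent.QuadEqui.Invariant

/-!
The elements of the chain group central modulo the root group: relations and transforms.
-/

set_option autoImplicit false
set_option linter.unusedSectionVars false
set_option linter.deprecated false
set_option linter.style.haveILetI false
set_option linter.unusedSimpArgs false

universe v

namespace CfsgLib.QuadEqui

open Cfsg CfsgLib.QP CfsgLib.QuadFix

variable {p : ℕ} [Fact p.Prime] {M : Type v} [AddCommGroup M] [Module (ZMod p) M] [FiniteDimensional (ZMod p) M]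

local notation "GL" => LinearMap.GeneralLinearGroup (ZMod p) M
local notation "E" => Module.End (ZMod p) M

variable {Y : Subgroup (LinearMap.GeneralLinearGroup (ZMod p) M)} {S T : Module.End (ZMod p) M}

/-- Blocks commuting with all others modulo the root group. -/
def RadV (Y : Subgroup GL) (S T b a : E) : Prop :=
  InV Y S T b a ∧ ∀ d c, InV Y S T d c → b * c = d * a

/-- An automorphism preserving a root pair commutes with its projections. -/
theorem proj_of_stab (G : Gr Y S T) {n : GL} (hS : Stab S n) (hT : Stab T n) :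
    conjEnd n (S * T) = S * T ∧ conjEnd n (T * S) = T * S := by
  have key : ∀ {S T : E}, Gr Y S T → Stab S n → Stab T n → conjEnd n (S * T) = S * T := by
    intro S T G hS hT
    refine conjEnd_eq_of_mul (LinearMap.ext fun m => ?_)
    have h1 : (n : E) ((S * T) m) ∈ LinearMap.range S := hS.1 ▸ Submodule.mem_map_of_mem ⟨T m, rfl⟩
    have h2 : (n : E) (mid S T m) ∈ LinearMap.ker T :=
      hT.2 ▸ Submodule.mem_map_of_mem (LinearMap.congr_fun G.T_mid m)
    have h3 : (n : E) ((T * S) m) ∈ LinearMap.ker T :=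
      hT.2 ▸ Submodule.mem_map_of_mem (LinearMap.congr_fun (G.TT' S) m)
    show (n : E) ((S * T) m) = (S * T) ((n : E) m)
    conv_rhs => arg 2; arg 2; rw [G.split (S := S) (T := T) m]
    rw [map_add, map_add, map_add, map_add, G.mem_range_iff.1 h1, Module.End.mul_apply S T _,
      Module.End.mul_apply S T _, Module.End.mul_apply S T _, LinearMap.mem_ker.1 h2, LinearMap.mem_ker.1 h3,
      map_zero, add_zero, add_zero]
  exact ⟨key G hS hT, key G.symm hT hS⟩

namespace Gr

variable (G : Gr Y S T)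
include G

theorem proj_mid {n : GL} (h1 : conjEnd n (S * T) = S * T) (h2 : conjEnd n (T * S) = T * S) :
    conjEnd n (mid S T) = mid S T := by
  rw [mid, conjEnd_sub, conjEnd_sub, h1, h2, conjEnd, mul_one, Units.mul_inv]

theorem invV_conj {n : GL} (hn : n ∈ Y) (h1 : conjEnd n (S * T) = S * T) (h2 : conjEnd n (T * S) = T * S)
    {d c : E} (h : InV Y S T d c) : InV Y S T (conjEnd n d) (conjEnd n c) := by
  obtain ⟨g, hg, e, hb, hge⟩ := h
  have h3 := G.proj_mid h1 h2
  refine ⟨n * g * n⁻¹, mul_mem (mul_mem hn hg) (inv_mem hn), conjEnd n e, ⟨?_, ?_, ?_, ?_, ?_, ?_⟩, ?_⟩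
  · conv_lhs => rw [← h1, conjEnd_mul, hb.d1]
  · conv_lhs => rw [← h3, conjEnd_mul, hb.d2]
  · conv_lhs => rw [← h3, conjEnd_mul, hb.c1]
  · conv_lhs => rw [← h2, conjEnd_mul, hb.c2]
  · conv_lhs => rw [← h1, conjEnd_mul, hb.e1]
  · conv_lhs => rw [← h2, conjEnd_mul, hb.e2]
  · simp only [conjEnd, Units.val_mul, hge, mul_add, add_mul, mul_one, Units.mul_inv]

theorem radV_conj {n : GL} (hn : n ∈ Y) (h1 : conjEnd n (S * T) = S * T) (h2 : conjEnd n (T * S) = T * S)
    {b a : E} (h : RadV Y S T b a) : RadV Y S T (conjEnd n b) (conjEnd n a) := by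
  refine ⟨G.invV_conj hn h1 h2 h.1, fun d c hdc => ?_⟩
  have e1 : conjEnd n⁻¹ (S * T) = S * T := by
    conv_lhs => rw [← h1, conjEnd_conjEnd, inv_mul_cancel, conjEnd_one]
  have e2 : conjEnd n⁻¹ (T * S) = T * S := by
    conv_lhs => rw [← h2, conjEnd_conjEnd, inv_mul_cancel, conjEnd_one]
  have := congrArg (conjEnd n) (h.2 _ _ (G.invV_conj (inv_mem hn) e1 e2 hdc))
  rwa [← conjEnd_mul, ← conjEnd_mul, conjEnd_conjEnd, conjEnd_conjEnd, mul_inv_cancel, conjEnd_one,
    conjEnd_one] at this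

theorem radV_add {b a b' a' : E} (h : RadV Y S T b a) (h' : RadV Y S T b' a') :
    RadV Y S T (b + b') (a + a') :=
  ⟨G.invV_add h.1 h'.1, fun d c hdc => by rw [add_mul, mul_add, h.2 d c hdc, h'.2 d c hdc]⟩

theorem radV_smul {b a : E} (h : RadV Y S T b a) (r : ZMod p) : RadV Y S T (r • b) (r • a) :=
  ⟨G.invV_smul h.1 r, fun d c hdc => by rw [smul_mul_assoc, mul_smul_comm, h.2 d c hdc]⟩

theorem cor_invV (hp : 5 ≤ p) {d c d' c' : E} (h : InV Y S T d c) (h' : InV Y S T d' c') :
    Cor S T (d * c' * T) := G.cor_quad (G.invV_blocks hp h) (G.invV_blocks hp h')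

theorem good_symm (hp : 5 ≤ p) {d c : E} (h : InV Y S T d c) {A : E} (hA : A ∈ rootSpace Y G.hS.sq)
    {e e' : E} (he : e = (2 : ZMod p)⁻¹ • (d * c * T) + A * T)
    (he' : e' = (2 : ZMod p)⁻¹ • (d * c * T) - A * T) (hne : e * e' ≠ 0) : e' * e ≠ 0 := by
  obtain ⟨ei, fi, -, -, -, -, -, hfe, -⟩ := G.exists_levi hp h hA he he' hne
  intro h0
  have hce : Cor S T e := he ▸ G.cor_add (G.cor_smul (G.cor_invV hp h h) _) (G.cor_space hA)
  apply hne
  rw [show e = fi * (e' * e) by rw [← mul_assoc, hfe, hce.1], h0, mul_zero, zero_mul]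

/-- A good scalar. -/
theorem exists_scalar (hp : 5 ≤ p) {d c : E} (h : InV Y S T d c) : ∃ r : ZMod p,
    ((2 : ZMod p)⁻¹ • (d * c * T) + (r • S) * T) * ((2 : ZMod p)⁻¹ • (d * c * T) - (r • S) * T) ≠ 0 := by
  obtain ⟨h2, h3', -⟩ := two_three (p := p) hp
  obtain ⟨hl, hr⟩ := G.cor_smul (G.cor_invV hp h h) (2 : ZMod p)⁻¹
  have key : ∀ r : ZMod p, ((2 : ZMod p)⁻¹ • (d * c * T) + (r • S) * T) *
      ((2 : ZMod p)⁻¹ • (d * c * T) - (r • S) * T) =
      (2 : ZMod p)⁻¹ • (d * c * T) * (2 : ZMod p)⁻¹ • (d * c * T) - (r * r) • (S * T) := by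
    intro r
    have hP : S * T * (S * T) = S * T := by rw [mul_assoc, G.TST]
    generalize (2 : ZMod p)⁻¹ • (d * c * T) = u at hl hr
    simp only [add_mul, mul_sub, smul_mul_assoc, mul_smul_comm, hl, hr, hP, smul_smul, smul_add, smul_sub]
    module
  by_contra hall
  push Not at hall
  have e1 := hall 1
  have e2 := hall 2
  rw [key, one_mul, one_smul, sub_eq_zero] at e1
  rw [key, e1, sub_eq_zero] at e2
  have h0 : ((2 : ZMod p) * 2 - 1) • (S * T) = 0 := by rw [sub_smul, ← e2, one_smul, sub_self]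
  rw [show (2 : ZMod p) * 2 - 1 = 3 by norm_num, smul_eq_zero] at h0
  exact G.hS.ne (by rw [← G.sts, h0.resolve_left h3', zero_mul])

/-- The basic relation between a radical element and a good chain element. -/
theorem rad_relation (hp : 5 ≤ p) {b a d c : E} (hz : RadV Y S T b a) (h : InV Y S T d c) {A : E}
    (hA : A ∈ rootSpace Y G.hS.sq) {e e' : E} (he : e = (2 : ZMod p)⁻¹ • (d * c * T) + A * T)
    (he' : e' = (2 : ZMod p)⁻¹ • (d * c * T) - A * T) (hne : e * e' ≠ 0) :
    e' * (b * c * T) = -(b * c * T * e) := by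
  obtain ⟨ei, fi, hcei, -, -, hie, hef, -, hv, -⟩ := G.exists_levi hp h hA he he' hne
  have hβ := G.cor_invV hp hz.1 h
  have h1 := hz.2 _ _ hv
  have hS' : ei * S * T = ei := by rw [mul_assoc, hcei.2]
  have h2 : b * c * T * ei = -(fi * (b * c * T)) := by
    calc b * c * T * ei = b * c * T * (ei * S * T) := by rw [hS']
      _ = b * (c * T * ei * S) * T := by simp only [mul_assoc]
      _ = -(fi * (d * a) * T) := by rw [h1]; simp only [neg_mul, mul_assoc]
      _ = -(fi * (b * c * T)) := by rw [← hz.2 d c h, mul_assoc]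
  calc e' * (b * c * T) = e' * (b * c * T) * (ei * e) := by rw [hie, mul_assoc e', hβ.2]
    _ = e' * (b * c * T * ei) * e := by simp only [mul_assoc]
    _ = -((e' * fi) * (b * c * T) * e) := by rw [h2]; simp only [mul_neg, neg_mul, mul_assoc]
    _ = -(b * c * T * e) := by rw [hef, hβ.1]

theorem rad_anti (hp : 5 ≤ p) {b a d c : E} (hz : RadV Y S T b a) (h : InV Y S T d c) :
    d * c * T * (b * c * T) + b * c * T * (d * c * T) = 0 := by
  obtain ⟨h2, -, -⟩ := two_three (p := p) hp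
  obtain ⟨r, hr⟩ := G.exists_scalar hp h
  have hA : r • S ∈ rootSpace Y G.hS.sq := Submodule.smul_mem _ _ (mem_rootSpace_self G.hS.toIsRoot)
  have h1 := G.rad_relation hp hz h hA rfl rfl hr
  obtain ⟨hl, hr'⟩ := G.cor_invV hp hz.1 h
  generalize b * c * T = β at h1 hl hr' ⊢
  simp only [add_mul, mul_add, sub_mul, mul_sub, smul_mul_assoc, mul_smul_comm, hl, hr', smul_smul] at h1
  have h3 : (2 : ZMod p)⁻¹ • (d * c * T * β + β * (d * c * T)) = 0 := by
    rw [smul_add, ← sub_eq_zero.2 h1]; abel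
  exact (smul_eq_zero.1 h3).resolve_left (inv_ne_zero h2)

theorem rad_comm_space (hp : 5 ≤ p) {b a d c : E} (hz : RadV Y S T b a) (h : InV Y S T d c) {A : E}
    (hA : A ∈ rootSpace Y G.hS.sq) : b * c * T * (A * T) = A * T * (b * c * T) := by
  obtain ⟨h2, -, -⟩ := two_three (p := p) hp
  have hcase : ∀ {A : E}, A ∈ rootSpace Y G.hS.sq →
      ((2 : ZMod p)⁻¹ • (d * c * T) + A * T) * ((2 : ZMod p)⁻¹ • (d * c * T) - A * T) ≠ 0 →
      b * c * T * (A * T) = A * T * (b * c * T) := by
    intro A hA hne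
    have h1 := G.rad_relation hp hz h hA rfl rfl hne
    have h3 := G.rad_anti hp hz h
    generalize b * c * T = β at h1 h3 ⊢
    generalize d * c * T = B at h1 h3
    simp only [add_mul, mul_add, sub_mul, mul_sub, smul_mul_assoc, mul_smul_comm] at h1
    have h4 : (2 : ZMod p)⁻¹ • (B * β + β * B) = 0 := by rw [h3, smul_zero]
    rw [← sub_eq_zero, ← sub_eq_zero.2 h1]
    rw [smul_add] at h4
    refine Eq.trans ?_ (add_zero _)
    rw [← neg_zero (G := E), ← h4]
    abel
  have hneg : ∀ {A : E}, A ∈ rootSpace Y G.hS.sq →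
      ((2 : ZMod p)⁻¹ • (d * c * T) - A * T) * ((2 : ZMod p)⁻¹ • (d * c * T) + A * T) ≠ 0 →
      b * c * T * (A * T) = A * T * (b * c * T) := by
    intro A hA hne
    have := hcase (neg_mem hA) (by rwa [neg_mul, ← sub_eq_add_neg, sub_neg_eq_add])
    rwa [neg_mul, mul_neg, neg_mul, neg_inj] at this
  obtain ⟨hBl, hBr⟩ := G.cor_smul (G.cor_invV hp h h) (2 : ZMod p)⁻¹
  obtain ⟨hβl, hβr⟩ := G.cor_invV hp hz.1 h
  obtain ⟨hal, har⟩ := G.cor_space hA
  by_cases hP : ((2 : ZMod p)⁻¹ • (d * c * T) + A * T) * ((2 : ZMod p)⁻¹ • (d * c * T) - A * T) = 0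
  swap
  · exact hcase hA hP
  by_cases hN : ((2 : ZMod p)⁻¹ • (d * c * T) - A * T) * ((2 : ZMod p)⁻¹ • (d * c * T) + A * T) = 0
  swap
  · exact hneg hA hN
  have hA1 : A + S ∈ rootSpace Y G.hS.sq := add_mem hA (mem_rootSpace_self G.hS.toIsRoot)
  have hfin : b * c * T * ((A + S) * T) = (A + S) * T * (b * c * T) →
      b * c * T * (A * T) = A * T * (b * c * T) := by
    intro e
    rw [add_mul, mul_add, add_mul, hβr, hβl] at e
    exact add_right_cancel e
  by_cases hP1 : ((2 : ZMod p)⁻¹ • (d * c * T) + (A + S) * T) *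
      ((2 : ZMod p)⁻¹ • (d * c * T) - (A + S) * T) = 0
  swap
  · exact hfin (hcase hA1 hP1)
  by_cases hN1 : ((2 : ZMod p)⁻¹ • (d * c * T) - (A + S) * T) *
      ((2 : ZMod p)⁻¹ • (d * c * T) + (A + S) * T) = 0
  swap
  · exact hfin (hneg hA1 hN1)
  have hPP : S * T * (S * T) = S * T := by rw [mul_assoc, G.TST]
  rw [add_mul A S T] at hP1 hN1
  generalize (2 : ZMod p)⁻¹ • (d * c * T) = u at hP hN hP1 hN1 hBl hBr
  obtain ⟨w, hw⟩ : ∃ w, w = A * T := ⟨_, rfl⟩
  simp only [← hw] at hP hN hP1 hN1 hal har ⊢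
  simp only [add_mul, mul_add, sub_mul, mul_sub, hBl, hBr, hal, har, hPP] at hP hN hP1 hN1
  have h4 : (2 : ZMod p) • ((2 : ZMod p) • w + S * T) = 0 := by
    refine Eq.trans ?_ (show ((0 : E) + 0) - ((0 : E) + 0) = 0 by simp)
    conv_rhs => arg 1; arg 1; rw [← hP]
    conv_rhs => arg 1; arg 2; rw [← hN]
    conv_rhs => arg 2; arg 1; rw [← hP1]
    conv_rhs => arg 2; arg 2; rw [← hN1]
    module
  have h5 := (smul_eq_zero.1 h4).resolve_left h2
  rw [add_eq_zero_iff_eq_neg] at h5
  have h6 : w = -((2 : ZMod p)⁻¹ • (S * T)) := by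
    rw [← smul_neg, ← h5, smul_smul, inv_mul_cancel₀ h2, one_smul]
  rw [h6, mul_neg, neg_mul, mul_smul_comm, smul_mul_assoc, hβr, hβl]

/-- Polarised relations. -/
theorem rad_polar (hp : 5 ≤ p) {b a d c : E} (hz : RadV Y S T b a) (h : InV Y S T d c) :
    b * a * T * (b * a * T) = 0 ∧
      d * c * T * (b * a * T) + b * a * T * (d * c * T) + (4 : ZMod p) • (b * c * T * (b * c * T)) = 0 ∧
      b * a * T * (b * c * T) + b * c * T * (b * a * T) = 0 := by
  obtain ⟨h2, h3', -⟩ := two_three (p := p) hp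
  have h0 := G.rad_anti hp hz hz.1
  have hp1 := G.rad_anti hp hz (G.invV_add h hz.1)
  have hm1 := G.rad_anti hp hz (G.invV_sub h hz.1)
  have hb := G.rad_anti hp hz h
  have hda : d * a * T = b * c * T := by rw [hz.2 d c h]
  simp only [add_mul, mul_add, sub_mul, mul_sub, hda] at hp1 hm1
  generalize b * a * T = z at h0 hp1 hm1 ⊢
  generalize d * c * T = B at hp1 hm1 hb ⊢
  generalize b * c * T = β at hp1 hm1 hb ⊢
  have hzz : z * z = 0 := by
    rw [← two_smul (ZMod p)] at h0
    exact (smul_eq_zero.1 h0).resolve_left h2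
  rw [hzz] at hp1 hm1
  refine ⟨hzz, ?_, ?_⟩
  · have h4 : (2 : ZMod p) • (B * z + z * B + (4 : ZMod p) • (β * β)) = 0 := by
      refine Eq.trans ?_ (show ((0 : E) - 0) = 0 from sub_self 0)
      conv_rhs => arg 1; rw [← hp1]
      conv_rhs => arg 2; rw [← hm1]
      rw [← sub_eq_zero]
      match_scalars <;> ring1
    exact (smul_eq_zero.1 h4).resolve_left h2
  · have h4 : (2 * 3 : ZMod p) • (z * β + β * z) = 0 := by
      refine Eq.trans ?_ (show ((0 : E) + 0 - (2 : ZMod p) • (0 : E)) = 0 by simp)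
      conv_rhs => arg 1; arg 1; rw [← hp1]
      conv_rhs => arg 1; arg 2; rw [← hm1]
      conv_rhs => arg 2; arg 2; rw [← hb]
      rw [← sub_eq_zero]
      match_scalars <;> ring1
    exact (smul_eq_zero.1 h4).resolve_left (mul_ne_zero h2 h3')

/-- The transform of a radical element by a chain element. -/
theorem rad_transform (hp : 5 ≤ p) {b a d c : E} (hz : RadV Y S T b a) (h : InV Y S T d c) :
    RadV Y S T (-((2 : ZMod p)⁻¹ • (d * c * T * b) + b * c * T * d))
      (((2 : ZMod p)⁻¹ • (a * T * (d * c * T)) + c * T * (b * c * T)) * S) := by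
  obtain ⟨r, hr⟩ := G.exists_scalar hp h
  have hA : r • S ∈ rootSpace Y G.hS.sq := Submodule.smul_mem _ _ (mem_rootSpace_self G.hS.toIsRoot)
  obtain ⟨e, he⟩ : ∃ e, e = (2 : ZMod p)⁻¹ • (d * c * T) + (r • S) * T := ⟨_, rfl⟩
  obtain ⟨e', he'⟩ : ∃ e', e' = (2 : ZMod p)⁻¹ • (d * c * T) - (r • S) * T := ⟨_, rfl⟩
  rw [← he, ← he'] at hr
  have hr' := G.good_symm hp h hA he he' hr
  have hrel := G.rad_relation hp hz h (neg_mem hA)
    (e := e') (e' := e) (by rw [he', neg_mul, sub_eq_add_neg]) (by rw [he, neg_mul, sub_neg_eq_add]) hr'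
  obtain ⟨ei, fi, hcei, hcfi, hee, hie, hef, hfe, -, n, hnY, hnS, hnT, hn⟩ := G.exists_levi hp h hA he he' hr
  obtain ⟨hn1, hn2⟩ := proj_of_stab G hnS hnT
  have hce : Cor S T e := he ▸ G.cor_add (G.cor_smul (G.cor_invV hp h h) _) (G.cor_space hA)
  have hce' : Cor S T e' := he' ▸ G.cor_sub (G.cor_smul (G.cor_invV hp h h) _) (G.cor_space hA)
  have hb := G.invV_blocks hp h
  have hbz := G.invV_blocks hp hz.1
  obtain ⟨zd1, zd2, zd3, zd4, zd5⟩ := hb.zero_d G
  obtain ⟨zc1, zc2, zc3, zc4, zc5⟩ := hb.zero_c G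
  obtain ⟨yd1, yd2, yd3, yd4, yd5⟩ := hbz.zero_d G
  obtain ⟨yc1, yc2, yc3, yc4, yc5⟩ := hbz.zero_c G
  have hB : d * c * T = e + e' := by
    rw [he, he', add_add_sub_cancel, ← add_smul, ← two_mul,
      mul_inv_cancel₀ (two_three (p := p) hp).1, one_smul]
  -- the inverse
  have hcorl : ∀ {x : E}, Cor S T x → ∀ y : E, y * S * T = 0 → y * x = 0 := fun {x} hx y hy => by
    rw [← hx.1, ← mul_assoc, ← mul_assoc y, hy, zero_mul]
  have hinv : ((n⁻¹ : GL) : E) = -ei + (mid S T - c * T * fi * d) + T * e' * S := by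
    refine Units.inv_eq_of_mul_eq_one_right ?_
    rw [hn]
    have u0 : ∀ x : E, Cor S T x → mid S T * x = 0 ∧ x * mid S T = 0 ∧ x * T = 0 ∧ S * x = 0 := fun x hx =>
      ⟨by rw [← hx.1]; simp only [mul_assoc, G.mid_S'], by rw [← hx.2]; simp only [mul_assoc, G.T_mid, mul_zero],
        by rw [← hx.2]; simp only [mul_assoc, G.TT, mul_zero],
        by rw [← hx.1]; simp only [mul_assoc, G.SS']⟩
    obtain ⟨m1, m2, m3, m4⟩ := u0 e hce
    obtain ⟨n1, n2, n3, n4⟩ := u0 ei hcei
    obtain ⟨o1, o2, o3, o4⟩ := u0 e' hce'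
    obtain ⟨q1, q2, q3, q4⟩ := u0 fi hcfi
    have p1 : -e * (-ei + (mid S T - c * T * fi * d) + T * e' * S) = S * T := by
      have : e * (c * T * fi * d) = 0 := by
        rw [← hb.c1]; simp only [← mul_assoc, m2, zero_mul]
      simp only [mul_add, mul_sub, neg_mul, mul_neg, neg_neg, hee, m2, this, ← mul_assoc e T, ← mul_assoc e (T * e'),
        m3, zero_mul, neg_zero, sub_zero, add_zero]
    have p2 : (mid S T - c * T * ei * d) * (-ei + (mid S T - c * T * fi * d) + T * e' * S) =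
        mid S T - c * T * (ei + fi - ei * (e + e') * fi) * d := by
      have k1 : d * ei = 0 := by rw [← hcei.1, ← mul_assoc, zd5, zero_mul]
      have k2 : mid S T * (c * T * fi * d) = c * T * fi * d := by simp only [← mul_assoc, hb.c1]
      have k3 : mid S T * (T * e' * S) = 0 := by simp only [mul_assoc, G.mid_T']
      have k4 : d * (T * e' * S) = 0 := by simp only [← mul_assoc, zd2, zero_mul]
      have k6 : c * T * ei * d * (c * T * fi * d) = c * T * (ei * (e + e') * fi) * d := by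
        rw [← hB]; simp only [mul_assoc]
      have k7 : c * T * ei * d * mid S T = c * T * ei * d := by rw [mul_assoc, hb.d2]
      have k8 : c * T * ei * d * ei = 0 := by rw [mul_assoc, k1, mul_zero]
      have k9 : c * T * ei * d * (T * e' * S) = 0 := by rw [mul_assoc, k4, mul_zero]
      simp only [sub_mul, mul_add, mul_sub, mul_neg, n1, k2, k3, k6, k7, k8, k9, G.mid_mid, neg_zero, zero_add,
        add_zero, sub_zero]
      simp only [sub_mul, mul_sub, mul_add, add_mul]
      abel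
    have p3 : T * fi * S * (-ei + (mid S T - c * T * fi * d) + T * e' * S) = T * S := by
      have hSc : ∀ x : E, S * (c * x) = 0 := fun x => by rw [← mul_assoc, zc1, zero_mul]
      simp only [mul_add, mul_sub, mul_neg, mul_assoc, n4, G.S_mid, hSc, mul_zero, neg_zero, zero_add, sub_zero]
      rw [← mul_assoc S T, ← mul_assoc (S * T) e' S, hce'.1, ← mul_assoc fi, hfe, mul_assoc S T, G.STS]
    have p4 : ei + fi - ei * (e + e') * fi = 0 := by
      rw [mul_add, add_mul, hie, hcfi.1, mul_assoc ei e' fi, hef, hcei.2]; abel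
    rw [add_mul, add_mul, p1, p2, p3, p4, mul_zero, zero_mul, sub_zero, ← G.one_eq]
    abel
  have heβ : e * (b * c * T) * fi = -(b * c * T) := by
    rw [hrel, neg_mul, mul_assoc, hef, (G.cor_invV hp hz.1 h).2]
  have hβe : ei * (b * c * T) * e' = -(b * c * T) := by
    have : b * c * T * e' = -(e * (b * c * T)) := by rw [hrel, neg_neg]
    rw [mul_assoc, this, mul_neg, ← mul_assoc, hie, (G.cor_invV hp hz.1 h).1]
  have hb' : conjEnd n b = -(e * b) - b * c * T * d := by
    have h1 : (mid S T - c * T * ei * d) * b = 0 := by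
      rw [sub_mul, yd4, mul_assoc (c * T * ei), (hb.products hbz G).1, mul_zero, sub_zero]
    have h2 : T * fi * S * b = 0 := by
      rw [← hbz.d1]; simp only [mul_assoc, G.SS', mul_zero]
    have h3 : b * (-ei) = 0 := by rw [mul_neg, ← hcei.1, ← mul_assoc, yd5, zero_mul, neg_zero]
    have h4 : b * (T * e' * S) = 0 := by simp only [← mul_assoc, yd2, zero_mul]
    have h5 : (n : E) * b = -(e * b) := by rw [hn, add_mul, add_mul, h1, h2, add_zero, add_zero, neg_mul]
    have h6 : b * (-ei + (mid S T - c * T * fi * d) + T * e' * S) = b - b * c * T * fi * d := by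
      rw [mul_add, mul_add, mul_sub, h3, h4, hbz.d2, zero_add, add_zero]
      simp only [mul_assoc]
    rw [conjEnd, h5, hinv, neg_mul, mul_assoc e b, h6, mul_sub,
      show e * (b * c * T * fi * d) = e * (b * c * T) * fi * d by simp only [mul_assoc], heβ]
    simp only [neg_mul, sub_neg_eq_add, neg_add_rev]
    abel
  have ha' : conjEnd n a = (a * T * e' + c * T * (b * c * T)) * S := by
    have h1 : -e * a = 0 := by
      rw [← hbz.c1, ← mul_assoc, neg_mul, ← hce.2]; simp only [mul_assoc, G.T_mid, mul_zero, neg_zero, zero_mul]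
    have h2 : T * fi * S * a = 0 := by rw [mul_assoc, yc1, mul_zero]
    have h5 : (n : E) * a = a - c * T * ei * (d * a) := by
      rw [hn, add_mul, add_mul, h1, h2, add_zero, zero_add, sub_mul, hbz.c1, mul_assoc (c * T * ei)]
    have h3 : a * ((n⁻¹ : GL) : E) = a * T * e' * S := by
      have k1 : a * (c * T * fi * d) = 0 := by simp only [← mul_assoc, (hbz.products hb G).2.2.2.1, zero_mul]
      have k2 : a * ei = 0 := by rw [← hcei.1, ← mul_assoc, yc3, zero_mul]
      rw [hinv, mul_add, mul_add, mul_sub, mul_neg, k1, k2, yc4, neg_zero, sub_zero, zero_add, zero_add]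
      simp only [mul_assoc]
    rw [conjEnd, h5, sub_mul, mul_assoc (c * T * ei), mul_assoc d a, h3]
    have : c * T * ei * (d * (a * T * e' * S)) = c * T * (ei * (b * c * T) * e') * S := by
      rw [← mul_assoc d, ← mul_assoc d, ← mul_assoc d, ← hz.2 d c h]
      simp only [mul_assoc]
    rw [this, hβe, add_mul]
    simp only [mul_neg, neg_mul, sub_neg_eq_add]
  have hfin := G.radV_add (G.radV_conj hnY hn1 hn2 hz) (G.radV_smul hz r)
  rw [hb', ha'] at hfin
  obtain ⟨hal, -⟩ := G.rootSpace_blocks (mem_rootSpace_self (G := Y) G.hS.toIsRoot)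
  convert hfin using 1
  · rw [he, add_mul, smul_mul_assoc, smul_mul_assoc, smul_mul_assoc, hbz.d1]
    abel
  · rw [he', mul_sub, smul_mul_assoc, mul_smul_comm, mul_smul_comm, add_mul, add_mul, sub_mul]
    rw [show r • (a * T * (S * T)) * S = r • a by
      rw [smul_mul_assoc]; simp only [mul_assoc, G.STS, hbz.c2]]
    abel

end Gr

end CfsgLib.QuadEqui
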